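import Cfsg.Agent.Lib.AutPSL.Classes
import Mathlib.FieldTheory.Fixed
import Mathlib.FieldTheory.Finite.GaloisField
import Mathlib.FieldTheory.Perfect

/-!
Centralisers of field and graph-field automorphisms in the inner-diagonal group and the splitting of
their classes.
-/

set_option autoImplicit false

namespace Cfsg.Agent.AutPSL

open Matrix

theorem splitClassCount_conj {X : Type*} [Group X] (H K : Subgroup X) (x h : X) (hh : h ∈ H) :
    Cfsg.splitClassCount H K (h * x * h⁻¹) = Cfsg.splitClassCount H K x := by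
  have hiff : ∀ y, Cfsg.IsConjUnder H (h * x * h⁻¹) y ↔ Cfsg.IsConjUnder H x y := by
    intro y
    constructor
    · rintro ⟨k, hk, rfl⟩
      exact ⟨k * h, H.mul_mem hk hh, by group⟩
    · rintro ⟨k, hk, rfl⟩
      exact ⟨k * h⁻¹, H.mul_mem hk (H.inv_mem hh), by group⟩
  exact Nat.card_congr (Quot.congr (Equiv.subtypeEquivRight hiff) fun a b => Iff.rfl)

theorem splitClassCount_eq {G X Q : Type*} [Group G] [Group X] [CommGroup Q] (S : G →* X)
    (K : Subgroup X) [K.Normal] (hK : K ≤ S.range) (x : X) (D : G →* Q)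
    (hD : Function.Surjective D)
    (hker : ∀ g, D g = 1 ↔ ∃ s c, S s ∈ K ∧ Commute (S c) x ∧ g = s * c) :
    Cfsg.splitClassCount S.range K x = Nat.card Q := by
  obtain ⟨f, hf⟩ : ∃ f : G → {y : X // Cfsg.IsConjUnder S.range x y},
      f = fun g => ⟨S g * x * (S g)⁻¹, S g, ⟨g, rfl⟩, rfl⟩ := ⟨_, rfl⟩
  let R : {y : X // Cfsg.IsConjUnder S.range x y} → {y : X // Cfsg.IsConjUnder S.range x y} → Prop :=
    fun y z => Cfsg.IsConjUnder K y.1 z.1
  have hR : Equivalence R := by
    constructor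
    · exact fun y => ⟨1, K.one_mem, by simp⟩
    · rintro y z ⟨k, hk, hz⟩
      exact ⟨k⁻¹, K.inv_mem hk, by rw [hz]; group⟩
    · rintro y z w ⟨k, hk, hz⟩ ⟨l, hl, hw⟩
      exact ⟨l * k, K.mul_mem hl hk, by rw [hw, hz]; group⟩
  have key : ∀ g g', R (f g) (f g') ↔ D g = D g' := by
    intro g g'
    simp only [R, hf]
    constructor
    · rintro ⟨k, hk, he⟩
      obtain ⟨s, rfl⟩ := hK hk
      have hc : Commute (S (g⁻¹ * s⁻¹ * g')) x := by
        simp only [map_mul, map_inv]
        show _ = _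
        calc (S g)⁻¹ * (S s)⁻¹ * S g' * x
            = (S g)⁻¹ * (S s)⁻¹ * (S g' * x * (S g')⁻¹) * S g' := by group
          _ = x * ((S g)⁻¹ * (S s)⁻¹ * S g') := by rw [he]; group
      have h1 : D s = 1 := (hker s).2 ⟨s, 1, hk, by simp, by simp⟩
      have h2 : D (g⁻¹ * s⁻¹ * g') = 1 := (hker _).2 ⟨1, _, by simp, hc, by simp⟩
      rw [map_mul, map_mul, map_inv, map_inv, h1, inv_one, mul_one, inv_mul_eq_one] at h2
      exact h2
    · intro h
      obtain ⟨s, c, hs, hc, he⟩ := (hker (g⁻¹ * g')).1 (by rw [map_mul, map_inv, h, inv_mul_cancel])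
      refine ⟨S g * S s * (S g)⁻¹, (inferInstance : K.Normal).conj_mem _ hs _, ?_⟩
      have hg' : g' = g * (s * c) := by rw [← he, mul_inv_cancel_left]
      rw [hg', map_mul, map_mul]
      calc S g * (S s * S c) * x * (S g * (S s * S c))⁻¹
          = S g * S s * (S c * x * (S c)⁻¹) * (S s)⁻¹ * (S g)⁻¹ := by group
        _ = S g * S s * x * (S s)⁻¹ * (S g)⁻¹ := by rw [hc.eq, mul_inv_cancel_right]
        _ = _ := by group
  choose g hg using hD
  refine (Nat.card_congr (Equiv.ofBijective (fun q => Quot.mk R (f (g q))) ⟨fun a b hab => ?_, ?_⟩)).symm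
  · have := (key _ _).1 ((Quot.eq (r := R)).1 hab |> fun h => (hR.eqvGen_iff).1 h)
    rwa [hg, hg] at this
  · intro y
    induction y using Quot.ind with
    | _ y =>
      obtain ⟨y, _, ⟨a, rfl⟩, rfl⟩ := y
      exact ⟨D a, Quot.sound (by
        have := (key (g (D a)) a).2 (hg _)
        simpa only [R, hf] using this)⟩

/-- Centralisers of conjugate elements. -/
theorem centralizer_conj_equiv {X : Type*} [Group X] (H : Subgroup X) (x h : X) (hh : h ∈ H) :
    Nonempty (↥(H ⊓ Subgroup.centralizer {h * x * h⁻¹}) ≃* ↥(H ⊓ Subgroup.centralizer {x})) := by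
  have heq : (H ⊓ Subgroup.centralizer {x}).map (MulAut.conj h).toMonoidHom =
      H ⊓ Subgroup.centralizer {h * x * h⁻¹} := by
    ext y
    simp only [Subgroup.mem_map, Subgroup.mem_inf, Subgroup.mem_centralizer_singleton_iff,
      MulEquiv.coe_toMonoidHom, MulAut.conj_apply]
    constructor
    · rintro ⟨z, ⟨hz, hzc⟩, rfl⟩
      refine ⟨H.mul_mem (H.mul_mem hh hz) (H.inv_mem hh), ?_⟩
      calc h * z * h⁻¹ * (h * x * h⁻¹) = h * (z * x) * h⁻¹ := by group
        _ = h * x * h⁻¹ * (h * z * h⁻¹) := by rw [hzc]; group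
    · rintro ⟨hy, hyc⟩
      refine ⟨h⁻¹ * y * h, ⟨H.mul_mem (H.mul_mem (H.inv_mem hh) hy) hh, ?_⟩, by group⟩
      calc h⁻¹ * y * h * x = h⁻¹ * (y * (h * x * h⁻¹)) * h := by group
        _ = x * (h⁻¹ * y * h) := by rw [hyc]; group
  rw [← heq]
  exact ⟨((H ⊓ Subgroup.centralizer {x}).equivMapOfInjective _ (MulAut.conj h).injective).symm⟩

variable {F : Type*} [Field F] {n : ℕ}

local notation "Mn" => Matrix (Fin n) (Fin n) F
local notation "PSLn" => Matrix.ProjectiveSpecialLinearGroup (Fin n) F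
local notation "sc" => Matrix.GeneralLinearGroup.scalar (Fin n)

/-- The action of `GL` on `PSL`. -/
def conjHom : GL (Fin n) F →* MulAut PSLn :=
  MonoidHom.mk' (fun g => semi g 1) fun g h => by rw [semi_mul', mapGL_one, mul_one]

theorem conjHom_apply (g : GL (Fin n) F) : conjHom g = semi g 1 := rfl

theorem range_conjHom : (conjHom : GL (Fin n) F →* MulAut PSLn).range = Cfsg.inndiagPSL n F := by
  ext y
  rw [mem_inndiag]
  exact ⟨fun ⟨g, hg⟩ => ⟨g, hg.symm⟩, fun ⟨g, hg⟩ => ⟨g, hg.symm⟩⟩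

theorem inn_le_range : Cfsg.Inn PSLn ≤ (conjHom : GL (Fin n) F →* MulAut PSLn).range := by
  rintro _ ⟨x, rfl⟩
  obtain ⟨s, rfl⟩ := QuotientGroup.mk_surjective x
  exact ⟨_, (inner_eq_semi s).symm⟩

theorem det_scalar (u : Fˣ) : Matrix.GeneralLinearGroup.det (sc u) = u ^ n := Units.ext (by
  show (Matrix.scalar (Fin n) (u : F)).det = _
  simp)

/-- A diagonal matrix. -/
def diagGL (v : Fin n → Fˣ) : GL (Fin n) F :=
  ⟨Matrix.diagonal fun i => (v i : F), Matrix.diagonal fun i => ((v i)⁻¹ : Fˣ),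
    by simp [Matrix.diagonal_mul_diagonal], by simp [Matrix.diagonal_mul_diagonal]⟩

theorem diagGL_coe (v : Fin n → Fˣ) : (diagGL v : Mn) = Matrix.diagonal fun i => (v i : F) := rfl

theorem det_diagGL (v : Fin n → Fˣ) : Matrix.GeneralLinearGroup.det (diagGL v) = ∏ i, v i :=
  Units.ext (by
    show (diagGL v : Mn).det = _
    rw [diagGL_coe, Matrix.det_diagonal, Units.coe_prod])

variable [Fintype F]

theorem card_quotient_sup (A : Subgroup Fˣ) :
    Nat.card (Fˣ ⧸ ((powMonoidHom n : Fˣ →* Fˣ).range ⊔ A)) = Nat.gcd n A.index := by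
  have h1 := Subgroup.index_map (powMonoidHom n : Fˣ →* Fˣ).range (QuotientGroup.mk' A)
  rw [QuotientGroup.ker_mk', MonoidHom.range_eq_top.2 (QuotientGroup.mk'_surjective A),
    Subgroup.index_top, mul_one] at h1
  rw [← Subgroup.index_eq_card, ← h1]
  have h2 : Subgroup.map (QuotientGroup.mk' A) (powMonoidHom n : Fˣ →* Fˣ).range =
      (powMonoidHom (α := Fˣ ⧸ A) n).range := by
    ext x
    constructor
    · rintro ⟨_, ⟨a, rfl⟩, rfl⟩
      exact ⟨QuotientGroup.mk' A a, by simp⟩
    · rintro ⟨y, rfl⟩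
      obtain ⟨a, rfl⟩ := QuotientGroup.mk_surjective y
      exact ⟨_, ⟨a, rfl⟩, by simp⟩
  rw [h2]
  have : IsCyclic (Fˣ ⧸ A) := isCyclic_of_surjective _ (QuotientGroup.mk'_surjective A)
  have h3 := Subgroup.card_mul_index (powMonoidHom (α := Fˣ ⧸ A) n).ker
  rw [Subgroup.index_ker] at h3
  have h4 := Subgroup.card_mul_index (powMonoidHom (α := Fˣ ⧸ A) n).range
  rw [← h3, mul_comm (Nat.card (powMonoidHom (α := Fˣ ⧸ A) n).ker)] at h4
  rw [Nat.eq_of_mul_eq_mul_left Nat.card_pos h4, IsCyclic.card_powMonoidHom_ker,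
    ← Subgroup.index_eq_card, Nat.gcd_comm]

/-- The fixed field of a field automorphism. -/
theorem exists_fixed_field (σ : F ≃+* F) :
    ∃ K : Subfield F, (∀ a, a ∈ K ↔ σ a = a) ∧ Fintype.card F = Nat.card K ^ orderOf σ := by
  classical
  have : Finite (F ≃+* F) :=
    Finite.of_injective (fun e : F ≃+* F => (e : F → F)) DFunLike.coe_injective
  have : Fintype (Subgroup.zpowers σ) := Fintype.ofFinite _
  refine ⟨FixedPoints.subfield (Subgroup.zpowers σ) F, fun a => ⟨fun h => h ⟨σ, Subgroup.mem_zpowers σ⟩,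
    fun h g => ?_⟩, ?_⟩
  · have hz : Subgroup.zpowers σ ≤ MulAction.stabilizer (F ≃+* F) a := by
      rw [Subgroup.zpowers_le, MulAction.mem_stabilizer_iff]
      exact h
    exact hz g.2
  · rw [← Nat.card_eq_fintype_card,
      Module.natCard_eq_pow_finrank (K := FixedPoints.subfield (Subgroup.zpowers σ) F),
      FixedPoints.finrank_eq_card, ← Nat.card_eq_fintype_card, Nat.card_zpowers]

omit [Fintype F] in
theorem card_fixedUnits {σ : F ≃+* F} {K : Subfield F} (hK : ∀ a, a ∈ K ↔ σ a = a) :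
    Nat.card (fixedUnits σ) = Nat.card K - 1 := by
  rw [← Nat.card_units]
  refine Nat.card_congr
    { toFun := fun t => Units.mk0 ⟨((t : Fˣ) : F), (hK _).2 t.2⟩
        (fun h => (t : Fˣ).ne_zero (congrArg Subtype.val h))
      invFun := fun t => ⟨Units.mk0 ((t : K) : F) (fun h => t.ne_zero (Subtype.ext h)),
        (hK _).1 (t : K).2⟩
      left_inv := fun t => Subtype.ext (Units.ext rfl)
      right_inv := fun t => Units.ext (Subtype.ext rfl) }

theorem orderOf_dvd_exponent (p f : ℕ) [Fact p.Prime] (hF : Fintype.card F = p ^ f) (σ : F ≃+* F) :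
    orderOf σ ∣ f := by
  obtain ⟨E⟩ := exists_ringAut_equiv (F := F) p f hF
  rw [← E.orderOf_eq]
  refine (orderOf_dvd_natCard _).trans (dvd_of_eq ?_)
  rw [Nat.card_congr Multiplicative.toAdd, Nat.card_zmod]

theorem card_fixed_field (p f : ℕ) [Fact p.Prime] (hF : Fintype.card F = p ^ f) {σ : F ≃+* F}
    {K : Subfield F} (h : Fintype.card F = Nat.card K ^ orderOf σ) :
    Nat.card K = p ^ (f / orderOf σ) := by
  have hd := orderOf_dvd_exponent p f hF σ
  rw [hF, ← Nat.div_mul_cancel hd, pow_mul] at h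
  exact (Nat.pow_left_injective (orderOf_pos' σ).ne' h).symm

/-! ### field automorphisms -/

omit [Fintype F] in
theorem commute_field_iff (hn : 2 ≤ n) (g : GL (Fin n) F) (σ : F ≃+* F) :
    Commute (conjHom g) (semi 1 σ : MulAut PSLn) ↔ ∃ c : Fˣ, g = sc c * mapGL σ g := by
  unfold Commute SemiconjBy
  rw [conjHom_apply, semi_mul', semi_mul', mapGL_one, mul_one, one_mul, semi_eq_semi hn]
  simp

theorem exists_fixed_of_commute (hn : 2 ≤ n) {g : GL (Fin n) F} {σ : F ≃+* F}
    (h : Commute (conjHom g) (semi 1 σ : MulAut PSLn)) :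
    ∃ (t : Fˣ) (g' : GL (Fin n) F), mapGL σ g' = g' ∧ g = sc t * g' := by
  obtain ⟨c, hc⟩ := (commute_field_iff hn g σ).1 h
  have hit : ∀ k, g = sc (∏ i ∈ Finset.range k, Units.map (σ ^ i : F ≃+* F).toMonoidHom c) *
      mapGL (σ ^ k) g := by
    intro k
    induction k with
    | zero => simp [mapGL_one]
    | succ k ih =>
      conv_lhs => rw [ih, hc, map_mul, mapGL_scalar]
      rw [Finset.prod_range_succ, map_mul sc, mul_assoc, pow_succ, mapGL_mul]
  have hN : normHom σ c = 1 := by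
    have := hit (orderOf σ)
    rw [pow_orderOf_eq_one, mapGL_one, right_eq_mul, ← map_one sc] at this
    rw [normHom_eq]
    exact scalar_injective (by omega) this
  obtain ⟨t, ht⟩ := exists_div_of_normHom_eq_one σ hN
  refine ⟨t, sc t⁻¹ * g, ?_, by rw [← mul_assoc, ← map_mul, mul_inv_cancel, map_one, one_mul]⟩
  rw [map_mul, mapGL_scalar, map_inv]
  conv_rhs => rw [hc, ← mul_assoc, ← map_mul]
  congr 2
  rw [eq_inv_mul_iff_mul_eq]
  rw [mul_inv_eq_iff_eq_mul, ht]

theorem split_field (hn : 2 ≤ n) (σ : F ≃+* F) :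
    Cfsg.splitClassCount (Cfsg.inndiagPSL n F) (Cfsg.Inn PSLn) (semi 1 σ) =
      Nat.gcd n (fixedUnits σ).index := by
  classical
  have : Nonempty (Fin n) := ⟨⟨0, by omega⟩⟩
  rw [← card_quotient_sup, ← range_conjHom]
  refine splitClassCount_eq conjHom _ inn_le_range _
    ((QuotientGroup.mk' _).comp Matrix.GeneralLinearGroup.det)
    ((QuotientGroup.mk'_surjective _).comp Matrix.GeneralLinearGroup.det_surjective) fun g => ?_
  rw [MonoidHom.comp_apply, QuotientGroup.mk'_apply, QuotientGroup.eq_one_iff, Subgroup.mem_sup]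
  constructor
  · rintro ⟨a, ha, b, hb, hab⟩
    refine ⟨g * (diagGL (Function.update 1 ⟨0, by omega⟩ b))⁻¹,
      diagGL (Function.update 1 ⟨0, by omega⟩ b), ?_, ?_, (inv_mul_cancel_right _ _).symm⟩
    · rw [conjHom_apply]
      refine (semi_mem_inn hn _).2 ?_
      rw [map_mul, map_inv, det_diagGL, Finset.prod_update_of_mem (Finset.mem_univ _)]
      simpa [← hab] using ha
    · rw [commute_field_iff hn]
      refine ⟨1, ?_⟩
      rw [map_one, one_mul]
      refine Units.ext ?_
      rw [mapGL_coe, diagGL_coe, Matrix.diagonal_map (map_zero σ)]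
      congr 1
      funext i
      by_cases hi : i = ⟨0, by omega⟩
      · subst hi
        simp only [Function.update_self]
        exact hb.symm
      · simp [hi]
  · rintro ⟨s, c, hs, hc, rfl⟩
    obtain ⟨t, g', hg', rfl⟩ := exists_fixed_of_commute hn hc
    refine ⟨Matrix.GeneralLinearGroup.det s * t ^ n,
      Subgroup.mul_mem _ ((semi_mem_inn hn s).1 hs) ⟨t, rfl⟩,
      Matrix.GeneralLinearGroup.det g', ?_, by rw [map_mul, map_mul, det_scalar, mul_assoc]⟩
    show σ (g' : Mn).det = (g' : Mn).det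
    conv_rhs => rw [← hg', mapGL_coe]
    exact RingHom.map_det σ.toRingHom (g' : Mn)

theorem centralizer_field (hn : 2 ≤ n) (σ : F ≃+* F) {F₀ : Type*} [Field F₀] (ι : F₀ →+* F)
    (hι : ∀ a, a ∈ ι.range ↔ σ a = a) :
    Nonempty (↥(Cfsg.inndiagPSL n F ⊓ Subgroup.centralizer {(semi 1 σ : MulAut PSLn)}) ≃*
      Matrix.ProjGenLinGroup (Fin n) F₀) := by
  have hn0 : Nonempty (Fin n) := ⟨⟨0, by omega⟩⟩
  let Θ : GL (Fin n) F₀ →* MulAut PSLn := conjHom.comp (Matrix.GeneralLinearGroup.map ι)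
  have hker : Θ.ker = Subgroup.center (GL (Fin n) F₀) := by
    ext g
    rw [MonoidHom.mem_ker, MonoidHom.comp_apply, conjHom_apply, semi_eq_one_iff hn,
      Matrix.GeneralLinearGroup.center_eq_range_scalar, MonoidHom.mem_range]
    constructor
    · rintro ⟨-, c, hc⟩
      have hd := congrArg (fun u : GL (Fin n) F => (u : Mn)) hc
      obtain ⟨i⟩ := hn0
      have hc0 : (g : Matrix (Fin n) (Fin n) F₀) i i ≠ 0 := by
        intro h0
        have := congrFun (congrFun hd i) i
        simp [h0] at this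
        exact c.ne_zero this.symm
      refine ⟨Units.mk0 _ hc0, Units.ext (Matrix.ext fun a b => ι.injective ?_)⟩
      have h1 := congrFun (congrFun hd i) i
      have h2 := congrFun (congrFun hd a) b
      simp [Matrix.diagonal_apply] at h1 h2 ⊢
      rcases eq_or_ne a b with rfl | hab <;> simp_all
    · rintro ⟨c, rfl⟩
      refine ⟨rfl, Units.map ι.toMonoidHom c, Units.ext ?_⟩
      show ((Matrix.scalar (Fin n) (c : F₀))).map ι = Matrix.scalar (Fin n) (ι c)
      simp [Matrix.diagonal_map (map_zero ι)]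
  have hrange : Θ.range = Cfsg.inndiagPSL n F ⊓ Subgroup.centralizer {(semi 1 σ : MulAut PSLn)} := by
    apply le_antisymm
    · rintro _ ⟨g, rfl⟩
      refine ⟨mem_inndiag.2 ⟨_, rfl⟩, Subgroup.mem_centralizer_singleton_iff.2 ?_⟩
      refine ((commute_field_iff hn _ σ).2 ⟨1, ?_⟩).eq
      rw [map_one, one_mul]
      exact Units.ext (Matrix.ext fun a b => ((hι _).1 ⟨_, rfl⟩).symm)
    · rintro y ⟨hy, hyc⟩
      obtain ⟨g, rfl⟩ := mem_inndiag.1 hy
      obtain ⟨t, g', hg', rfl⟩ := exists_fixed_of_commute hn (g := g)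
        (Subgroup.mem_centralizer_singleton_iff.1 hyc)
      rw [semi_scalar_mul]
      have hfix : ∀ a b, (g' : Mn) a b ∈ ι.range := fun a b =>
        (hι _).2 (congrFun (congrFun (congrArg (fun u : GL (Fin n) F => (u : Mn)) hg') a) b)
      choose M hM using hfix
      have hmap : (Matrix.of M).map ι = (g' : Mn) := Matrix.ext hM
      have hu : IsUnit (Matrix.of M) := by
        rw [Matrix.isUnit_iff_isUnit_det, isUnit_iff_ne_zero]
        intro h0
        have := congrArg ι h0
        rw [RingHom.map_det, RingHom.mapMatrix_apply, hmap, map_zero] at this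
        exact (isUnit_iff_ne_zero.1 ((Matrix.isUnit_iff_isUnit_det _).1 g'.isUnit)) this
      obtain ⟨u, hu⟩ := hu
      refine ⟨u, ?_⟩
      rw [MonoidHom.comp_apply, conjHom_apply]
      congr 1
      refine Units.ext ?_
      show (u : Matrix (Fin n) (Fin n) F₀).map ι = _
      rw [hu, hmap]
  exact ⟨(MulEquiv.subgroupCongr hrange.symm).trans ((QuotientGroup.quotientKerEquivRange Θ).symm.trans
    (QuotientGroup.quotientMulEquivOfEq hker))⟩

/-! ### graph-field automorphisms -/

/-- Unitary matrices for `σ`. -/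
def unitarySubgroup (σ : F ≃+* F) : Subgroup (GL (Fin n) F) where
  carrier := {g | mapGL σ (starGL g) = g}
  one_mem' := by
    refine Units.ext ?_
    rw [mapGL_coe, starGL_coe, inv_one, Units.val_one, Matrix.transpose_one,
      Matrix.map_one _ (map_zero σ) (map_one σ)]
  mul_mem' {a b} ha hb := by
    refine Units.ext ?_
    rw [mapGL_coe, starGL_coe, _root_.mul_inv_rev, Units.val_mul, Units.val_mul,
      Matrix.transpose_mul, Matrix.map_mul, ← starGL_coe, ← starGL_coe, ← mapGL_coe, ← mapGL_coe,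
      ha, hb]
  inv_mem' {a} ha := by
    rw [Set.mem_ofPred_eq] at ha ⊢
    have h1 : starGL a⁻¹ = (starGL a)⁻¹ := Units.ext (by
      rw [starGL_coe, starGL_inv_coe, inv_inv])
    rw [h1, map_inv, ha]

omit [Fintype F] in
theorem commute_graph_iff (hn : 3 ≤ n) (g : GL (Fin n) F) (σ : F ≃+* F) :
    Commute (conjHom g) (semi 1 σ * invT : MulAut PSLn) ↔
      ∃ c : Fˣ, g = sc c * mapGL σ (starGL g) := by
  unfold Commute SemiconjBy
  rw [conjHom_apply, mul_assoc (semi 1 σ), invT_mul_semi, ← mul_assoc, ← mul_assoc, semi_mul',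
    semi_mul', mapGL_one, mul_one, one_mul, mul_left_inj, semi_eq_semi (by omega)]
  simp

omit [Fintype F] in
theorem mapGL_starGL (σ : F ≃+* F) (g : GL (Fin n) F) : mapGL σ (starGL g) = starGL (mapGL σ g) :=
  Units.ext (by
    rw [mapGL_coe, starGL_coe, starGL_coe, ← map_inv, mapGL_coe, Matrix.transpose_map])

omit [Fintype F] in
theorem starGL_starGL (g : GL (Fin n) F) : starGL (starGL g) = g :=
  Units.ext (by rw [starGL_coe, starGL_inv_coe, Matrix.transpose_transpose])

omit [Fintype F] in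
theorem starGL_mul (g h : GL (Fin n) F) : starGL (g * h) = starGL g * starGL h :=
  Units.ext (by
    rw [starGL_coe, _root_.mul_inv_rev, Units.val_mul, Units.val_mul, Matrix.transpose_mul]
    rfl)

omit [Fintype F] in
theorem starGL_scalar (c : Fˣ) : starGL (sc c) = sc c⁻¹ :=
  Units.ext (by
    rw [starGL_coe, ← map_inv]
    show (Matrix.scalar (Fin n) ((c⁻¹ : Fˣ) : F))ᵀ = Matrix.scalar (Fin n) ((c⁻¹ : Fˣ) : F)
    simp)

theorem exists_unitary_of_commute (hn : 3 ≤ n) {g : GL (Fin n) F} {σ : F ≃+* F} (hσ : orderOf σ = 2)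
    (h : Commute (conjHom g) (semi 1 σ * invT : MulAut PSLn)) :
    ∃ (t : Fˣ) (g' : GL (Fin n) F), g' ∈ unitarySubgroup σ ∧ g = sc t * g' := by
  obtain ⟨c, hc⟩ := (commute_graph_iff hn g σ).1 h
  have h2 : σ * σ = 1 := by rw [← sq, ← hσ, pow_orderOf_eq_one]
  have hfix : c ∈ fixedUnits σ := by
    have e := congrArg (fun u => mapGL σ (starGL u)) hc
    simp only [starGL_mul, starGL_scalar, map_mul, mapGL_scalar, mapGL_starGL σ g,
      starGL_starGL, ← mapGL_mul, h2, mapGL_one] at e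
    rw [← mapGL_starGL] at e
    have e' : sc (Units.map σ.toMonoidHom c⁻¹) * g = sc c⁻¹ * g := by
      rw [← e]
      conv_rhs => rw [hc, ← mul_assoc, ← map_mul, inv_mul_cancel, map_one, one_mul]
    have h3 := scalar_injective (by omega) (mul_right_cancel e')
    rw [map_inv, _root_.inv_inj] at h3
    exact congrArg Units.val h3
  rw [← range_normHom] at hfix
  obtain ⟨t, ht⟩ := hfix
  refine ⟨t, sc t⁻¹ * g, ?_, by rw [← mul_assoc, ← map_mul, mul_inv_cancel, map_one, one_mul]⟩
  show mapGL σ (starGL (sc t⁻¹ * g)) = sc t⁻¹ * g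
  rw [starGL_mul, starGL_scalar, inv_inv, map_mul, mapGL_scalar]
  conv_rhs => rw [hc, ← mul_assoc, ← map_mul]
  congr 2
  rw [eq_inv_mul_iff_mul_eq, ← ht, normHom_eq, hσ, Finset.prod_range_succ, Finset.prod_range_one]
  exact Units.ext (by simp)

theorem split_graph (hn : 3 ≤ n) {σ : F ≃+* F} (hσ : orderOf σ = 2) :
    Cfsg.splitClassCount (Cfsg.inndiagPSL n F) (Cfsg.Inn PSLn) (semi 1 σ * invT) =
      Nat.gcd n (Nat.card (fixedUnits σ)) := by
  classical
  have : Nonempty (Fin n) := ⟨⟨0, by omega⟩⟩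
  rw [← range_normHom, ← Subgroup.index_ker, ← card_quotient_sup, ← range_conjHom]
  refine splitClassCount_eq conjHom _ inn_le_range _
    ((QuotientGroup.mk' _).comp Matrix.GeneralLinearGroup.det)
    ((QuotientGroup.mk'_surjective _).comp Matrix.GeneralLinearGroup.det_surjective) fun g => ?_
  rw [MonoidHom.comp_apply, QuotientGroup.mk'_apply, QuotientGroup.eq_one_iff, Subgroup.mem_sup]
  have hN : ∀ b : Fˣ, normHom σ b = b * Units.map σ.toMonoidHom b := fun b => by
    rw [normHom_eq, hσ, Finset.prod_range_succ, Finset.prod_range_one]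
    exact Units.ext (by simp)
  constructor
  · rintro ⟨a, ha, b, hb, hab⟩
    refine ⟨g * (diagGL (Function.update 1 ⟨0, by omega⟩ b))⁻¹,
      diagGL (Function.update 1 ⟨0, by omega⟩ b), ?_, ?_, (inv_mul_cancel_right _ _).symm⟩
    · rw [conjHom_apply]
      refine (semi_mem_inn (by omega) _).2 ?_
      rw [map_mul, map_inv, det_diagGL, Finset.prod_update_of_mem (Finset.mem_univ _)]
      simpa [← hab] using ha
    · rw [commute_graph_iff hn]
      refine ⟨1, ?_⟩
      rw [map_one, one_mul]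
      refine Units.ext ?_
      rw [mapGL_coe, starGL_coe]
      show _ = (Matrix.diagonal fun i => ((Function.update (1 : Fin n → Fˣ) ⟨0, by omega⟩ b i)⁻¹ : Fˣ).val)ᵀ.map σ
      rw [Matrix.diagonal_transpose, diagGL_coe, Matrix.diagonal_map (map_zero σ)]
      congr 1
      funext i
      by_cases hi : i = ⟨0, by omega⟩
      · subst hi
        simp only [Function.update_self]
        have hb' : b * Units.map σ.toMonoidHom b = 1 := (hN b).symm.trans hb
        have h' := congrArg Units.val (eq_inv_of_mul_eq_one_left hb')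
        rw [h', ← map_inv]
        rfl
      · simp [hi]
  · rintro ⟨s, c, hs, hc, rfl⟩
    obtain ⟨t, g', hg', rfl⟩ := exists_unitary_of_commute hn hσ hc
    refine ⟨Matrix.GeneralLinearGroup.det s * t ^ n,
      Subgroup.mul_mem _ ((semi_mem_inn (by omega) s).1 hs) ⟨t, rfl⟩,
      Matrix.GeneralLinearGroup.det g', ?_, by rw [map_mul, map_mul, det_scalar, mul_assoc]⟩
    rw [MonoidHom.mem_ker, hN]
    have h1 : Matrix.GeneralLinearGroup.det (starGL g') = (Matrix.GeneralLinearGroup.det g')⁻¹ := by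
      rw [← map_inv]
      exact Units.ext (Matrix.det_transpose _)
    have h2 : Matrix.GeneralLinearGroup.det g' =
        Units.map σ.toMonoidHom (Matrix.GeneralLinearGroup.det g')⁻¹ := by
      conv_lhs => rw [← show mapGL σ (starGL g') = g' from hg']
      rw [← h1]
      exact Units.ext (RingHom.map_det σ.toRingHom (starGL g' : Mn)).symm
    conv_lhs => arg 1; rw [h2]
    rw [← map_mul, inv_mul_cancel, map_one]

omit [Fintype F] in
theorem mem_GU_iff (q : ℕ) (σ : F ≃+* F) (hσ : ∀ a, σ a = a ^ q) (h2 : ∀ a, σ (σ a) = a)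
    (g : GL (Fin n) F) : g ∈ Cfsg.GU n F q ↔ g ∈ unitarySubgroup σ := by
  have hform : ∀ u v : Fin n → F, Cfsg.hermForm n F q u v = u ⬝ᵥ (σ ∘ v) := fun u v => by
    simp [Cfsg.hermForm, dotProduct, hσ]
  have hσg : ∀ v : Fin n → F, σ ∘ ((g : Mn) *ᵥ v) = (g : Mn).map σ *ᵥ (σ ∘ v) := fun v =>
    funext fun i => RingHom.map_mulVec σ.toRingHom _ _ i
  have h1 : g ∈ Cfsg.GU n F q ↔ (g : Mn)ᵀ * (g : Mn).map σ = 1 := by
    show (∀ u v, Cfsg.hermForm n F q ((g : Mn) *ᵥ u) ((g : Mn) *ᵥ v) = Cfsg.hermForm n F q u v) ↔ _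
    simp only [hform, hσg]
    constructor
    · intro h
      ext i j
      have e := h (Pi.single i 1) (Pi.single j 1)
      rw [show (σ : F → F) ∘ (Pi.single j 1) = (Pi.single j 1 : Fin n → F) by
        funext k
        rcases eq_or_ne k j with rfl | hk
        · simp
        · simp [hk]] at e
      simpa [Matrix.mulVec_single_one, Matrix.one_apply, Pi.single_apply, dotProduct,
        Matrix.mul_apply, eq_comm] using e
    · intro h u v
      rw [Matrix.dotProduct_mulVec, ← Matrix.mulVec_transpose, Matrix.mulVec_mulVec, dotProduct_comm]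
      rw [show ((g : Mn).map σ)ᵀ * (g : Mn) = ((g : Mn)ᵀ * (g : Mn).map σ)ᵀ by
        rw [Matrix.transpose_mul, Matrix.transpose_transpose], h, Matrix.transpose_one,
        Matrix.one_mulVec, dotProduct_comm]
  rw [h1]
  constructor
  · intro h
    show mapGL σ (starGL g) = g
    refine Units.ext ?_
    have e := congrArg (fun M : Mn => M.map σ) h
    simp only [Matrix.map_mul, Matrix.map_map] at e
    rw [show ⇑σ ∘ ⇑σ = id from funext h2, Matrix.map_id, Matrix.map_one _ (map_zero σ) (map_one σ)] at e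
    rw [mapGL_coe, starGL_coe]
    calc (((g⁻¹ : GL (Fin n) F) : Mn)ᵀ).map σ
        = (((g⁻¹ : GL (Fin n) F) : Mn)ᵀ).map σ * ((g : Mn)ᵀ.map σ * (g : Mn)) := by rw [e, mul_one]
      _ = (((g : Mn) * ((g⁻¹ : GL (Fin n) F) : Mn))ᵀ).map σ * (g : Mn) := by
          rw [← mul_assoc, ← Matrix.map_mul, ← Matrix.transpose_mul]
      _ = (g : Mn) := by
          rw [← Units.val_mul, mul_inv_cancel, Units.val_one, Matrix.transpose_one,
            Matrix.map_one _ (map_zero σ) (map_one σ), one_mul]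
  · intro h
    have e := congrArg (fun u : GL (Fin n) F => (u : Mn).map σ) (show mapGL σ (starGL g) = g from h)
    simp only [mapGL_coe, starGL_coe, Matrix.map_map] at e
    rw [show ⇑σ ∘ ⇑σ = id from funext h2, Matrix.map_id] at e
    rw [← e, ← Matrix.transpose_mul, ← Units.val_mul, inv_mul_cancel, Units.val_one,
      Matrix.transpose_one]

theorem centralizer_graph (hn : 3 ≤ n) {σ : F ≃+* F} (hσ : orderOf σ = 2) (q : ℕ)
    (hq : ∀ a, σ a = a ^ q) :
    Nonempty (↥(Cfsg.inndiagPSL n F ⊓ Subgroup.centralizer {(semi 1 σ * invT : MulAut PSLn)}) ≃*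
      Cfsg.PGU n F q) := by
  have h2 : σ * σ = 1 := by rw [← sq, ← hσ, pow_orderOf_eq_one]
  have hGU := mem_GU_iff (n := n) q σ hq (fun a => RingEquiv.congr_fun h2 a)
  let Θ : Cfsg.GU n F q →* MulAut PSLn := conjHom.comp (Cfsg.GU n F q).subtype
  have hker : Θ.ker = (Cfsg.Geo.scalars (Fin n) F).subgroupOf (Cfsg.GU n F q) := by
    ext g
    rw [MonoidHom.mem_ker, MonoidHom.comp_apply, conjHom_apply, semi_eq_one_iff (by omega),
      Subgroup.mem_subgroupOf]
    exact ⟨fun ⟨_, c, hc⟩ => ⟨c, hc.symm⟩, fun ⟨c, hc⟩ => ⟨rfl, c, hc.symm⟩⟩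
  have hrange : Θ.range =
      Cfsg.inndiagPSL n F ⊓ Subgroup.centralizer {(semi 1 σ * invT : MulAut PSLn)} := by
    apply le_antisymm
    · rintro _ ⟨⟨g, hg⟩, rfl⟩
      refine ⟨mem_inndiag.2 ⟨_, rfl⟩, Subgroup.mem_centralizer_singleton_iff.2 ?_⟩
      refine ((commute_graph_iff hn _ σ).2 ⟨1, ?_⟩).eq
      rw [map_one, one_mul]
      exact ((hGU g).1 hg).symm
    · rintro y ⟨hy, hyc⟩
      obtain ⟨g, rfl⟩ := mem_inndiag.1 hy
      obtain ⟨t, g', hg', rfl⟩ := exists_unitary_of_commute hn hσ (g := g)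
        (Subgroup.mem_centralizer_singleton_iff.1 hyc)
      exact ⟨⟨g', (hGU g').2 hg'⟩, (semi_scalar_mul t g').symm⟩
  exact ⟨(MulEquiv.subgroupCongr hrange.symm).trans ((QuotientGroup.quotientKerEquivRange Θ).symm.trans
    (QuotientGroup.quotientMulEquivOfEq hker))⟩

/-- The automorphism of order two of a finite field. -/
theorem involution_eq_pow (p f : ℕ) [Fact p.Prime] (hF : Fintype.card F = p ^ f) {σ : F ≃+* F}
    (hσ : orderOf σ = 2) : Even f ∧ ∀ a, σ a = a ^ p ^ (f / 2) := by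
  have hd : 2 ∣ f := hσ ▸ orderOf_dvd_exponent p f hF σ
  refine ⟨even_iff_two_dvd.2 hd, ?_⟩
  obtain ⟨K, hK, hcard⟩ := exists_fixed_field σ
  have hq := card_fixed_field p f hF hcard
  rw [hσ] at hq
  rw [hσ, hq] at hcard
  have hchar : CharP F p := by
    obtain ⟨p', hp'⟩ := CharP.exists F
    obtain ⟨a', hpp, hc⟩ := FiniteField.card F p'
    have hd' : p' ∣ p ^ f := by rw [← hF, hc]; exact dvd_pow_self p' a'.pos.ne'
    exact ((Nat.prime_dvd_prime_iff_eq hpp (Fact.out : p.Prime)).mp (hpp.dvd_of_dvd_pow hd')) ▸ hp'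
  let τ : F ≃+* F := iterateFrobeniusEquiv F p (f / 2)
  have hτ : ∀ a, τ a = a ^ p ^ (f / 2) := fun a => rfl
  have hτ2 : τ * τ = 1 := by
    refine RingEquiv.ext fun a => ?_
    show τ (τ a) = a
    rw [hτ, hτ, ← pow_mul, ← pow_add, show f / 2 + f / 2 = f by omega, ← hF, FiniteField.pow_card]
  have hτ1 : τ ≠ 1 := by
    intro h
    have hall : ∀ a : F, a ^ p ^ (f / 2) = a := fun a => by
      rw [← hτ, h]; rfl
    obtain ⟨u, hu⟩ := IsCyclic.exists_ofOrder_eq_natCard (α := Fˣ)
    have h1 : u ^ (p ^ (f / 2) - 1) = 1 := by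
      have h0 : u ^ p ^ (f / 2) = u := Units.ext (by push_cast; exact hall _)
      have h1' : 1 ≤ p ^ (f / 2) := Nat.one_le_pow _ _ (Fact.out : p.Prime).pos
      rw [show p ^ (f / 2) = (p ^ (f / 2) - 1) + 1 by omega, pow_succ] at h0
      simpa using h0
    have h3 := orderOf_dvd_of_pow_eq_one h1
    rw [hu, Nat.card_units, Nat.card_eq_fintype_card, hF] at h3
    have h4 : 2 ≤ p ^ (f / 2) := by
      refine (Fact.out : p.Prime).two_le.trans (Nat.le_self_pow ?_ p)
      have : f ≠ 0 := by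
        rintro rfl
        have := Fintype.one_lt_card (α := F)
        rw [hF] at this
        simp at this
      omega
    have h5 : p ^ f = p ^ (f / 2) * p ^ (f / 2) := by rw [← pow_add]; congr 1; omega
    have := Nat.le_of_dvd (by omega) h3
    have h6 : p ^ (f / 2) * 2 ≤ p ^ (f / 2) * p ^ (f / 2) := Nat.mul_le_mul_left _ h4
    omega
  intro a
  obtain ⟨E⟩ := exists_ringAut_equiv (F := F) p f hF
  have huniq : ∀ x : F ≃+* F, x * x = 1 → x ≠ 1 → Multiplicative.toAdd (E x) = ((f / 2 : ℕ) : ZMod f) := by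
    intro x hx hx1
    have hf0 : NeZero f := ⟨by rintro rfl; have := Fintype.one_lt_card (α := F); rw [hF] at this; simp at this⟩
    obtain ⟨k, hk⟩ : ∃ k, (Multiplicative.toAdd (E x)).val = k := ⟨_, rfl⟩
    have hkk : ((k + k : ℕ) : ZMod f) = 0 := by
      rw [Nat.cast_add, ← hk, ZMod.natCast_zmod_val, ← toAdd_mul, ← map_mul, hx, map_one, toAdd_one]
    have hk0 : k ≠ 0 := by
      rintro rfl
      apply hx1
      apply E.injective
      rw [map_one]
      exact Multiplicative.toAdd.injective (by rw [toAdd_one]; exact (ZMod.val_eq_zero _).1 hk)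
    have hkf : k < f := hk ▸ ZMod.val_lt _
    rw [ZMod.natCast_eq_zero_iff] at hkk
    obtain ⟨m, hm⟩ := hkk
    have : m = 1 := by rcases m with _ | _ | m <;> [omega; rfl; nlinarith]
    subst this
    rw [← ZMod.natCast_zmod_val (Multiplicative.toAdd (E x)), hk]
    congr 1
    omega
  have hσ2 : σ * σ = 1 := by rw [← sq, ← hσ, pow_orderOf_eq_one]
  have hσ1 : σ ≠ 1 := by rintro rfl; simp at hσ
  rw [← hτ, show σ = τ from E.injective (Multiplicative.toAdd.injective
    ((huniq σ hσ2 hσ1).trans (huniq τ hτ2 hτ1).symm))]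

end Cfsg.Agent.AutPSL
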