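import Mathlib.LinearAlgebra.Matrix.GeneralLinearGroup.Defs
import Mathlib.LinearAlgebra.LinearIndependent.Basic
import Mathlib.LinearAlgebra.Matrix.NonsingularInverse
import Mathlib.LinearAlgebra.Basis.VectorSpace
import Mathlib.LinearAlgebra.Matrix.ToLin
import Mathlib.FieldTheory.Finite.Basic
import Mathlib.GroupTheory.OrderOfElement
import Mathlib.Algebra.Ring.Aut

/-!
Galois descent for matrices over a finite field and hermitian congruence.
-/

set_option autoImplicit false

namespace Cfsg.Agent.AutPSL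

open Matrix

variable {F : Type*} [Field F] {n : ℕ}

local notation "Mn" => Matrix (Fin n) (Fin n) F

/-- Applying a field automorphism to an invertible matrix. -/
abbrev mapGL (σ : F ≃+* F) : GL (Fin n) F →* GL (Fin n) F :=
  Matrix.GeneralLinearGroup.map σ.toRingHom

theorem mapGL_coe (σ : F ≃+* F) (g : GL (Fin n) F) : ((mapGL σ g : GL (Fin n) F) : Mn) = (g : Mn).map σ :=
  rfl

theorem mapGL_mul (σ τ : F ≃+* F) (g : GL (Fin n) F) : mapGL (σ * τ) g = mapGL σ (mapGL τ g) :=
  Units.ext (by rw [mapGL_coe, mapGL_coe, mapGL_coe, Matrix.map_map]; rfl)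

theorem mapGL_one (g : GL (Fin n) F) : mapGL (1 : F ≃+* F) g = g := Units.ext (Matrix.map_id _)

theorem mapGL_scalar (σ : F ≃+* F) (c : Fˣ) :
    mapGL σ (Matrix.GeneralLinearGroup.scalar (Fin n) c) =
      Matrix.GeneralLinearGroup.scalar (Fin n) (Units.map σ.toMonoidHom c) := by
  refine Units.ext ?_
  show ((Matrix.scalar (Fin n) (c : F))).map σ = Matrix.scalar (Fin n) (σ c)
  simp [Matrix.diagonal_map (map_zero σ)]

theorem scalar_comm (c : Fˣ) (g : GL (Fin n) F) :
    Matrix.GeneralLinearGroup.scalar (Fin n) c * g = g * Matrix.GeneralLinearGroup.scalar (Fin n) c :=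
  Units.ext (Matrix.scalar_commute (c : F) (fun _ => Commute.all _ _) _).eq

theorem scalar_injective (hn : 1 ≤ n) :
    Function.Injective (Matrix.GeneralLinearGroup.scalar (Fin n) : Fˣ → GL (Fin n) F) := by
  intro a b h
  have := congrArg (fun g : GL (Fin n) F => (g : Mn) ⟨0, hn⟩ ⟨0, hn⟩) h
  exact Units.ext (by simpa using this)

/-- The twisted product `g σ(g) ⋯ σ^(k-1)(g)`. -/
def twist (σ : F ≃+* F) (g : GL (Fin n) F) : ℕ → GL (Fin n) F
  | 0 => 1
  | k + 1 => g * mapGL σ (twist σ g k)

/-- The semilinear map `v ↦ g σ(v)`, iterated. -/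
theorem twist_mulVec_succ (σ : F ≃+* F) (g : GL (Fin n) F) (k : ℕ) (v : Fin n → F) :
    (g : Mn) *ᵥ (σ ∘ ((twist σ g k : Mn) *ᵥ ((σ ^ k : F ≃+* F) ∘ v))) =
      (twist σ g (k + 1) : Mn) *ᵥ ((σ ^ (k + 1) : F ≃+* F) ∘ v) := by
  rw [twist, Units.val_mul, ← Matrix.mulVec_mulVec, mapGL_coe]
  congr 1
  funext i
  rw [Function.comp_apply, ← RingEquiv.coe_toRingHom, RingHom.map_mulVec, pow_succ']
  rfl

/-- The field automorphisms `σ ^ i`, `i < orderOf σ`, are linearly independent. -/
theorem linearIndependent_pow (σ : F ≃+* F) {c : Fin (orderOf σ) → F}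
    (h : ∀ a : F, ∑ i, c i * (σ ^ (i : ℕ)) a = 0) : ∀ i, c i = 0 := by
  have hli := linearIndependent_monoidHom F F
  have hinj : Function.Injective fun i : Fin (orderOf σ) => ((σ ^ (i : ℕ) : F ≃+* F) : F →* F) := by
    intro i j hij
    have hij' : σ ^ (i : ℕ) = σ ^ (j : ℕ) := RingEquiv.ext fun a => DFunLike.congr_fun hij a
    exact Fin.ext (pow_injOn_Iio_orderOf (Set.mem_Iio.2 i.2) (Set.mem_Iio.2 j.2) hij')
  have hli' := hli.comp _ hinj
  rw [Fintype.linearIndependent_iff] at hli'
  exact hli' c (funext fun a => by simpa using h a)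

/-- Descent: a matrix of twisted norm one is a twisted boundary. -/
theorem exists_descent (σ : F ≃+* F) (g : GL (Fin n) F) (hord : 0 < orderOf σ)
    (h : twist σ g (orderOf σ) = 1) : ∃ P : GL (Fin n) F, g * mapGL σ P = P := by
  obtain ⟨r, hr⟩ : ∃ r, orderOf σ = r + 1 := ⟨orderOf σ - 1, by omega⟩
  obtain ⟨T, hT⟩ : ∃ T : ℕ → (Fin n → F) → (Fin n → F),
      T = fun k v => (twist σ g k : Mn) *ᵥ ((σ ^ k : F ≃+* F) ∘ v) := ⟨_, rfl⟩
  let Fix : Set (Fin n → F) := {v | (g : Mn) *ᵥ (σ ∘ v) = v}
  have hend : ∀ v, T (r + 1) v = T 0 v := fun v => by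
    rw [hT]
    simp only
    rw [← hr, h, pow_orderOf_eq_one]
    simp [twist]
  have hTs : ∀ k v, (g : Mn) *ᵥ (σ ∘ T k v) = T (k + 1) v := fun k v => by
    rw [hT]; exact twist_mulVec_succ σ g k v
  have hfix : ∀ v, (∑ i ∈ Finset.range (r + 1), T i v) ∈ Fix := by
    intro v
    show (g : Mn) *ᵥ (σ ∘ ∑ i ∈ Finset.range (r + 1), T i v) = _
    have : (σ : F → F) ∘ (∑ i ∈ Finset.range (r + 1), T i v) =
        ∑ i ∈ Finset.range (r + 1), (σ : F → F) ∘ T i v := by
      funext j
      simp [Finset.sum_apply]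
    rw [this, Matrix.mulVec_sum, Finset.sum_congr rfl fun i _ => hTs i v,
      Finset.sum_range_succ (fun i => T (i + 1) v), Finset.sum_range_succ' (fun i => T i v), hend]
  have hspan : Submodule.span F Fix = ⊤ := by
    by_contra hne
    obtain ⟨φ, hφ0, hφ⟩ := Submodule.exists_le_ker_of_lt_top _ (lt_top_iff_ne_top.2 hne)
    apply hφ0
    refine LinearMap.ext fun v => ?_
    have key : ∀ a : F, ∑ i : Fin (orderOf σ), φ (T i v) * (σ ^ (i : ℕ)) a = 0 := by
      intro a
      have h1 : φ (∑ i ∈ Finset.range (r + 1), T i (a • v)) = 0 :=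
        hφ (Submodule.subset_span (hfix _))
      rw [map_sum, ← hr, ← Fin.sum_univ_eq_sum_range (fun i => φ (T i (a • v)))] at h1
      rw [← h1]
      refine Finset.sum_congr rfl fun i _ => ?_
      have : T i (a • v) = (σ ^ (i : ℕ)) a • T i v := by
        rw [hT]
        simp only
        rw [← Matrix.mulVec_smul]
        congr 1
        funext j
        simp
      rw [this, map_smul, smul_eq_mul, mul_comm]
    have h0 := linearIndependent_pow σ key ⟨0, hord⟩
    simp only [hT, pow_zero, twist, Units.val_one, Matrix.one_mulVec] at h0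
    exact h0
  obtain ⟨s, hsF, hs, hli⟩ := exists_linearIndependent F Fix
  rw [hspan] at hs
  let b : Module.Basis s F (Fin n → F) := Module.Basis.mk hli (by rw [Subtype.range_coe, hs])
  have : Finite s := Module.Finite.finite_basis b
  have : Fintype s := Fintype.ofFinite _
  have hcard : Fintype.card s = n := by
    rw [← Module.finrank_eq_card_basis b, Module.finrank_fin_fun]
  let e : Fin n ≃ s := (Fintype.equivFinOfCardEq hcard).symm
  have hP : IsUnit (Matrix.of fun i j => (e j).1 i : Mn) := by
    rw [← Matrix.linearIndependent_cols_iff_isUnit]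
    exact hli.comp e e.injective
  obtain ⟨P, hP⟩ := hP
  refine ⟨P, Units.ext ?_⟩
  rw [Units.val_mul, mapGL_coe, hP]
  ext i j
  exact congrFun (show (g : Mn) *ᵥ (σ ∘ (e j).1) = (e j).1 from hsF (e j).2) i

variable [Fintype F]

/-- The norm of the cyclic extension given by `σ`. -/
noncomputable def normHom (σ : F ≃+* F) : Fˣ →* Fˣ where
  toFun t := ∏ i : Fin (orderOf σ), Units.map (σ ^ (i : ℕ) : F ≃+* F).toMonoidHom t
  map_one' := by simp
  map_mul' a b := by simp [Finset.prod_mul_distrib]

/-- The units fixed by `σ`. -/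
def fixedUnits (σ : F ≃+* F) : Subgroup Fˣ where
  carrier := {t | σ (t : F) = t}
  one_mem' := map_one σ
  mul_mem' {a b} ha hb := by
    show σ ((a * b : Fˣ) : F) = _
    rw [Units.val_mul, map_mul, ha, hb]
  inv_mem' {a} ha := by
    show σ ((a⁻¹ : Fˣ) : F) = _
    rw [Units.val_inv_eq_inv_val, map_inv₀, ha]

omit [Fintype F] in
theorem orderOf_pos' [Finite F] (σ : F ≃+* F) : 0 < orderOf σ := by
  have : Finite (F ≃+* F) := Finite.of_injective (fun e : F ≃+* F => (e : F → F)) DFunLike.coe_injective
  exact orderOf_pos σ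

omit [Fintype F] in
theorem twist_scalar (σ : F ≃+* F) (c : Fˣ) (k : ℕ) :
    twist σ (Matrix.GeneralLinearGroup.scalar (Fin n) c) k = Matrix.GeneralLinearGroup.scalar (Fin n)
      (∏ i ∈ Finset.range k, Units.map (σ ^ i : F ≃+* F).toMonoidHom c) := by
  induction k with
  | zero => simp [twist]
  | succ k ih =>
    rw [twist, ih, mapGL_scalar, ← map_mul, Finset.prod_range_succ', mul_comm]
    congr 1
    rw [map_prod]
    congr 1
    exact Finset.prod_congr rfl fun i _ => Units.ext (by simp [pow_succ'])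

omit [Fintype F] in
theorem normHom_eq (σ : F ≃+* F) (c : Fˣ) :
    normHom σ c = ∏ i ∈ Finset.range (orderOf σ), Units.map (σ ^ i : F ≃+* F).toMonoidHom c := by
  rw [← Fin.prod_univ_eq_prod_range]
  rfl

/-- Hilbert's theorem 90. -/
theorem exists_div_of_normHom_eq_one (σ : F ≃+* F) {c : Fˣ} (h : normHom σ c = 1) :
    ∃ t : Fˣ, c * Units.map σ.toMonoidHom t = t := by
  obtain ⟨P, hP⟩ := exists_descent (n := 1) σ (Matrix.GeneralLinearGroup.scalar (Fin 1) c)
    (orderOf_pos' σ) (by rw [twist_scalar, ← normHom_eq, h, map_one])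
  have h0 : (P : Matrix (Fin 1) (Fin 1) F) 0 0 ≠ 0 := by
    intro h0
    have hu := (Matrix.isUnit_iff_isUnit_det _).1 P.isUnit
    rw [Matrix.det_unique] at hu
    simp [h0] at hu
  refine ⟨Units.mk0 _ h0, Units.ext ?_⟩
  have := congrArg (fun g : GL (Fin 1) F => (g : Matrix (Fin 1) (Fin 1) F) 0 0) hP
  simpa [mapGL_coe, Matrix.mul_apply] using this

/-- The norm is onto the fixed field. -/
theorem range_normHom (σ : F ≃+* F) : (normHom σ).range = fixedUnits σ := by
  have hle : (normHom σ).range ≤ fixedUnits σ := by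
    rintro _ ⟨t, rfl⟩
    show σ ((normHom σ t : Fˣ) : F) = _
    have hval : ((normHom σ t : Fˣ) : F) = ∏ i ∈ Finset.range (orderOf σ), (σ ^ i : F ≃+* F) t := by
      rw [normHom_eq, Units.coe_prod]
      rfl
    rw [hval, map_prod]
    obtain ⟨r, hr⟩ : ∃ r, orderOf σ = r + 1 := ⟨orderOf σ - 1, by have := orderOf_pos' σ; omega⟩
    rw [hr, Finset.prod_range_succ' (fun i => (σ ^ i : F ≃+* F) (t : F)),
      Finset.prod_range_succ (fun i => σ ((σ ^ i : F ≃+* F) (t : F)))]
    congr 1
    · exact Finset.prod_congr rfl fun i _ => by rw [pow_succ']; rfl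
    · rw [show σ ((σ ^ r : F ≃+* F) (t : F)) = (σ ^ (r + 1) : F ≃+* F) (t : F) by rw [pow_succ']; rfl,
        ← hr, pow_orderOf_eq_one, pow_zero]
  let δ : Fˣ →* Fˣ := MonoidHom.id Fˣ / Units.map σ.toMonoidHom
  have hδ : δ.ker = fixedUnits σ := by
    ext t
    rw [MonoidHom.mem_ker]
    show t / Units.map σ.toMonoidHom t = 1 ↔ _
    rw [div_eq_one, eq_comm, Units.ext_iff]
    rfl
  have hker : (normHom σ).ker ≤ δ.range := by
    intro c hc
    obtain ⟨t, ht⟩ := exists_div_of_normHom_eq_one σ (MonoidHom.mem_ker.1 hc)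
    refine ⟨t, ?_⟩
    show t / Units.map σ.toMonoidHom t = c
    rw [div_eq_iff_eq_mul, ht]
  refine Subgroup.eq_of_le_of_card_ge hle ?_
  have e1 := Subgroup.card_mul_index (normHom σ).ker
  rw [Subgroup.index_ker] at e1
  have e2 := Subgroup.card_mul_index δ.ker
  rw [Subgroup.index_ker, hδ] at e2
  have h3 : Nat.card (normHom σ).ker ≤ Nat.card δ.range :=
    Nat.le_of_dvd Nat.card_pos (Subgroup.card_dvd_of_le hker)
  have hpos : 0 < Nat.card (normHom σ).ker := Nat.card_pos
  by_contra hlt
  push Not at hlt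
  nlinarith [Nat.mul_lt_mul_of_pos_left hlt hpos, Nat.mul_le_mul_left (Nat.card (fixedUnits σ)) h3]

/-- Descent up to scalars. -/
theorem exists_descent_scalar (σ : F ≃+* F) (hn : 1 ≤ n) (g : GL (Fin n) F) (c : Fˣ)
    (h : twist σ g (orderOf σ) = Matrix.GeneralLinearGroup.scalar (Fin n) c) :
    ∃ (P : GL (Fin n) F) (t : Fˣ),
      g = Matrix.GeneralLinearGroup.scalar (Fin n) t * P * (mapGL σ P)⁻¹ := by
  have hc : c ∈ fixedUnits σ := by
    have h1 : twist σ g (orderOf σ + 1) = g * Matrix.GeneralLinearGroup.scalar (Fin n)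
        (Units.map σ.toMonoidHom c) := by rw [twist, h, mapGL_scalar]
    have h2 : ∀ k, twist σ g (k + 1) = twist σ g k * mapGL (σ ^ k) g := by
      intro k
      induction k with
      | zero => simp [twist, mapGL_one]
      | succ k ih =>
        conv_lhs => rw [twist, ih]
        rw [map_mul, ← mul_assoc, ← mapGL_mul, ← pow_succ']
        rfl
    rw [h2, h, pow_orderOf_eq_one, mapGL_one, scalar_comm] at h1
    exact congrArg Units.val (scalar_injective hn (mul_left_cancel h1)).symm
  rw [← range_normHom] at hc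
  obtain ⟨t, ht⟩ := hc
  obtain ⟨g', hg'⟩ : ∃ g', g' = Matrix.GeneralLinearGroup.scalar (Fin n) t⁻¹ * g := ⟨_, rfl⟩
  have hk : ∀ k, twist σ g' k = Matrix.GeneralLinearGroup.scalar (Fin n)
      (∏ i ∈ Finset.range k, Units.map (σ ^ i : F ≃+* F).toMonoidHom t⁻¹) * twist σ g k := by
    intro k
    induction k with
    | zero => simp [twist]
    | succ k ih =>
      rw [← twist_scalar] at ih ⊢
      rw [twist, twist, twist, ih, hg', map_mul, twist_scalar, mapGL_scalar]
      rw [mul_assoc, ← mul_assoc g, ← scalar_comm, mul_assoc, mul_assoc]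
  have h1 : twist σ g' (orderOf σ) = 1 := by
    rw [hk, h, ← normHom_eq, map_inv, ht, ← map_mul, inv_mul_cancel, map_one]
  obtain ⟨P, hP⟩ := exists_descent σ g' (orderOf_pos' σ) h1
  refine ⟨P, t, ?_⟩
  have e : g' = P * (mapGL σ P)⁻¹ := eq_mul_inv_of_mul_eq hP
  rw [mul_assoc, ← e, hg', ← mul_assoc, ← map_mul, mul_inv_cancel, map_one, one_mul]

/-- Hermitian matrices over a finite field are congruent to the identity. -/
theorem exists_congruent_one (σ : F ≃+* F) (hσ : orderOf σ = 2) (A : GL (Fin n) F)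
    (hA : ((A : Mn).map σ)ᵀ = (A : Mn)) :
    ∃ P : GL (Fin n) F, ((P : Mn).map σ)ᵀ * (A : Mn) * (P : Mn) = 1 := by
  have hσσ : ∀ a, σ (σ a) = a := fun a => by
    have h : σ ^ 2 = 1 := hσ ▸ pow_orderOf_eq_one σ
    rw [sq] at h
    exact RingEquiv.congr_fun h a
  obtain ⟨B, hB⟩ : ∃ B : (Fin n → F) → (Fin n → F) → F,
      B = fun u v => ((σ : F → F) ∘ u) ⬝ᵥ ((A : Mn) *ᵥ v) := ⟨_, rfl⟩
  have hswap : ∀ u v, B v u = σ (B u v) := by
    intro u v
    rw [hB]
    simp only
    have h1 : σ (((σ : F → F) ∘ u) ⬝ᵥ ((A : Mn) *ᵥ v)) = u ⬝ᵥ ((A : Mn).map σ *ᵥ ((σ : F → F) ∘ v)) := by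
      simp [dotProduct, Matrix.mulVec, map_sum, map_mul, hσσ]
    rw [h1, show (A : Mn).map σ = (A : Mn)ᵀ by
      conv_rhs => rw [← hA]
      simp, Matrix.mulVec_transpose, Matrix.dotProduct_mulVec, dotProduct_comm]
  have hadd : ∀ u v w, B u (v + w) = B u v + B u w := fun u v w => by
    simp [hB, Matrix.mulVec_add, dotProduct_add]
  have hsmul : ∀ (a : F) u v, B u (a • v) = a * B u v := fun a u v => by
    simp [hB, Matrix.mulVec_smul, dotProduct_smul]
  have hadd' : ∀ u v w, B (u + v) w = B u w + B v w := fun u v w => by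
    rw [hswap w, hadd, map_add, ← hswap, ← hswap]
  have hsmul' : ∀ (a : F) u v, B (a • u) v = σ a * B u v := fun a u v => by
    rw [hswap v, hsmul, map_mul, ← hswap]
  have hnd : ∀ w, (∀ x, B x w = 0) → w = 0 := by
    intro w hw
    apply Matrix.mulVec_injective_iff_isUnit.2 A.isUnit
    rw [Matrix.mulVec_zero]
    refine funext fun i => ?_
    have h := hw (Pi.single i 1)
    rw [hB] at h
    simp only at h
    rwa [show (σ : F → F) ∘ (Pi.single i 1) = (Pi.single i 1 : Fin n → F) by
      funext j; rcases eq_or_ne j i with rfl | hj <;> simp [*], single_one_dotProduct] at h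
  have hpol : ∀ z : F, (∀ a : F, σ a * z + a * σ z = 0) → z = 0 := by
    intro z hz
    let c : Fin (orderOf σ) → F := fun i => if (i : ℕ) = 0 then σ z else z
    have := linearIndependent_pow σ (c := c) (fun a => by
      rw [Fin.sum_univ_eq_sum_range (fun i => (if i = 0 then σ z else z) * (σ ^ i) a), hσ,
        Finset.sum_range_succ, Finset.sum_range_one]
      simp only [pow_zero, pow_one, if_pos, RingAut.one_apply, one_ne_zero, if_false]
      linear_combination hz a) ⟨1, by omega⟩
    simpa [c] using this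
  have key : ∀ k ≤ n, ∃ v : Fin k → Fin n → F, ∀ i j, B (v i) (v j) = if i = j then 1 else 0 := by
    intro k hk
    induction k with
    | zero => exact ⟨Fin.elim0, fun i => i.elim0⟩
    | succ k ih =>
      obtain ⟨v, hv⟩ := ih (by omega)
      let W : Submodule F (Fin n → F) :=
        { carrier := {w | ∀ i, B (v i) w = 0}
          zero_mem' := fun i => by simp [hB]
          add_mem' := fun {a b} ha hb i => by rw [hadd, ha, hb, add_zero]
          smul_mem' := fun a w hw i => by rw [hsmul, hw, mul_zero] }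
      have hproj : ∀ x, x - ∑ i, B (v i) x • v i ∈ W := by
        intro x j
        have hsum : ∀ (s : Finset (Fin k)), B (v j) (∑ i ∈ s, B (v i) x • v i) =
            ∑ i ∈ s, B (v i) x * B (v j) (v i) := by
          intro s
          induction s using Finset.induction_on with
          | empty => simp [hB]
          | insert a s ha ih => rw [Finset.sum_insert ha, hadd, hsmul, ih, Finset.sum_insert ha]
        have h := hadd (v j) (x - ∑ i, B (v i) x • v i) (∑ i, B (v i) x • v i)
        rw [sub_add_cancel, hsum] at h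
        simp only [hv, mul_ite, mul_one, mul_zero, Finset.sum_ite_eq, Finset.mem_univ, if_true] at h
        linear_combination -h
      obtain ⟨w, hw, hww⟩ : ∃ w ∈ W, B w w ≠ 0 := by
        by_contra! hall
        have h0 : ∀ u ∈ W, ∀ w ∈ W, B u w = 0 := by
          intro u hu w hw
          refine hpol _ fun a => ?_
          have h := hall _ (W.add_mem (W.smul_mem a hu) hw)
          simp only [hadd, hadd', hsmul, hsmul', hall u hu, hall w hw, hswap u w] at h
          linear_combination h
        have hW : W = ⊥ := by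
          refine (Submodule.eq_bot_iff _).2 fun w hw => hnd w fun x => ?_
          have h1 : B (x - ∑ i, B (v i) x • v i) w = 0 := h0 _ (hproj x) w hw
          have h2 : B (∑ i, B (v i) x • v i) w = 0 := by
            have : ∀ (s : Finset (Fin k)), B (∑ i ∈ s, B (v i) x • v i) w = 0 := by
              intro s
              induction s using Finset.induction_on with
              | empty => simp [hB]
              | insert a s ha ih => rw [Finset.sum_insert ha, hadd', hsmul', ih, hw, mul_zero, add_zero]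
            exact this _
          rw [← sub_add_cancel x (∑ i, B (v i) x • v i), hadd', h1, h2, add_zero]
        have hle : (⊤ : Submodule F (Fin n → F)) ≤ Submodule.span F (Set.range v) := by
          intro x _
          have := hproj x
          rw [hW, Submodule.mem_bot, sub_eq_zero] at this
          rw [this]
          exact Submodule.sum_mem _ fun i _ => Submodule.smul_mem _ _ (Submodule.subset_span ⟨i, rfl⟩)
        have h1 := Submodule.finrank_mono hle
        have h2 := finrank_range_le_card (R := F) v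
        rw [finrank_top, Module.finrank_fin_fun] at h1
        simp [Set.finrank] at h2
        omega
      have hz : Units.mk0 _ hww ∈ (normHom σ).range := by
        rw [range_normHom]
        exact (hswap w w).symm
      obtain ⟨t, ht⟩ := hz
      have ht' : σ (t : F) * (t : F) = B w w := by
        have h := congrArg Units.val ht
        rw [normHom_eq, hσ, Units.coe_prod, Finset.prod_range_succ, Finset.prod_range_one] at h
        rw [mul_comm]
        simpa using h
      refine ⟨Fin.cons ((t : F)⁻¹ • w) v, fun i j => ?_⟩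
      cases i using Fin.cases with
      | zero =>
        cases j using Fin.cases with
        | zero =>
          rw [Fin.cons_zero, hsmul, hsmul', if_pos rfl, map_inv₀, ← ht']
          field_simp [t.ne_zero, (map_ne_zero σ).2 t.ne_zero]
        | succ j =>
          rw [Fin.cons_zero, Fin.cons_succ, hsmul', hswap (v j), hw, map_zero, mul_zero,
            if_neg (Fin.succ_ne_zero j).symm]
      | succ i =>
        cases j using Fin.cases with
        | zero => rw [Fin.cons_zero, Fin.cons_succ, hsmul, hw, mul_zero, if_neg (Fin.succ_ne_zero i)]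
        | succ j =>
          rw [Fin.cons_succ, Fin.cons_succ, hv]
          simp [Fin.succ_inj]
  obtain ⟨v, hv⟩ := key n le_rfl
  have hmul : ((Matrix.of fun i j => v j i : Mn).map σ)ᵀ * (A : Mn) * (Matrix.of fun i j => v j i : Mn) = 1 := by
    ext i j
    rw [Matrix.one_apply, ← hv i j, hB, mul_assoc, Matrix.mul_apply]
    rfl
  have hu : IsUnit (Matrix.of fun i j => v j i : Mn) := by
    rw [Matrix.isUnit_iff_isUnit_det, isUnit_iff_ne_zero]
    intro h0
    have := congrArg Matrix.det hmul
    rw [Matrix.det_mul, h0, mul_zero, Matrix.det_one] at this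
    exact zero_ne_one this
  obtain ⟨P, hP⟩ := hu
  exact ⟨P, by rw [hP]; exact hmul⟩

end Cfsg.Agent.AutPSL
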