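import Cfsg.Agent.Lib.AutPSL.Main
import Mathlib.FieldTheory.Finite.Basic
import Mathlib.FieldTheory.Finite.GaloisField
import Mathlib.FieldTheory.Galois.Basic
import Mathlib.GroupTheory.SpecificGroups.Cyclic
import Mathlib.Algebra.Algebra.Equiv
import Mathlib.Data.Matrix.Basis
import Cfsg.Prelude.Def_KGroupFacts

/-!
Uniqueness in the normal form of automorphisms of `PSL_n`, and the structure of the outer
automorphism group.
-/

set_option autoImplicit false

namespace Cfsg.Agent.AutPSL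

open Matrix

variable {F : Type*} [Field F] {n : ℕ}

local notation "Mn" => Matrix (Fin n) (Fin n) F
local notation "SLn" => Matrix.SpecialLinearGroup (Fin n) F
local notation "PSLn" => Matrix.ProjectiveSpecialLinearGroup (Fin n) F

theorem mul_self_single {k l : Fin n} (h : k ≠ l) (b : F) :
    Matrix.single k l b * Matrix.single k l b = (0 : Mn) :=
  Matrix.single_mul_single_of_ne _ _ _ _ (Ne.symm h) _

/-- Two conjugate transvection classes have conjugate transvections. -/
theorem conj_single_of_mk_eq (g : GL (Fin n) F) (σ : F ≃+* F) {i j k l : Fin n} (hij : i ≠ j)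
    (hkl : k ≠ l) (a b : F)
    (h : (QuotientGroup.mk (slSemi g σ (Matrix.SpecialLinearGroup.transvection hij a)) : PSLn) =
      QuotientGroup.mk (Matrix.SpecialLinearGroup.transvection hkl b)) :
    (g : Mn) * Matrix.single i j (σ a) * ((g⁻¹ : GL (Fin n) F) : Mn) = Matrix.single k l b := by
  obtain ⟨c, -, hc⟩ := exists_smul_of_mk_eq h
  obtain ⟨P, hP⟩ : ∃ P, P = (g : Mn) * Matrix.single i j (σ a) * ((g⁻¹ : GL (Fin n) F) : Mn) :=
    ⟨_, rfl⟩
  rw [← hP]
  have hval : ((slSemi g σ (Matrix.SpecialLinearGroup.transvection hij a) : SLn) : Mn) = 1 + P := by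
    rw [slSemi_coe, hP, Matrix.SpecialLinearGroup.transvection_coe,
      Matrix.map_add _ (map_add σ), Matrix.map_one _ (map_zero σ) (map_one σ), mul_add, add_mul,
      mul_one, ← Units.val_mul, mul_inv_cancel, Units.val_one, Matrix.map_single]
  rw [hval, Matrix.SpecialLinearGroup.transvection_coe, smul_add] at hc
  have hPP : P * P = 0 := by
    rw [hP]
    simp only [mul_assoc, Units.inv_mul_cancel_left]
    rw [← mul_assoc (Matrix.single i j (σ a)), mul_self_single hij, zero_mul, mul_zero]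
  have hPe : P = (c - 1) • (1 : Mn) + c • Matrix.single k l b := by
    rw [sub_smul, one_smul, sub_add_eq_add_sub, eq_sub_iff_add_eq, add_comm]
    exact hc
  have h0 : ((c - 1) * (c - 1)) = 0 := by
    have h := congrFun (congrFun hPP k) k
    rw [hPe] at h
    simp only [add_mul, mul_add, smul_mul_assoc, mul_smul_comm, one_mul, mul_one,
      mul_self_single hkl, Matrix.add_apply, Matrix.smul_apply, Matrix.one_apply_eq,
      Matrix.zero_apply, smul_eq_mul] at h
    simpa [hkl.symm] using h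
  have hc1 : c = 1 := sub_eq_zero.1 (mul_self_eq_zero.1 h0)
  rw [hPe, hc1, sub_self, zero_smul, zero_add, one_smul]

theorem conj_single_one (g : GL (Fin n) F) (σ : F ≃+* F) {i j : Fin n} (hij : i ≠ j)
    (h : semi g σ = (1 : MulAut PSLn)) (a : F) :
    (g : Mn) * Matrix.single i j (σ a) * ((g⁻¹ : GL (Fin n) F) : Mn) = Matrix.single i j a :=
  conj_single_of_mk_eq g σ hij hij a a (by
    rw [← semi_mk, h, MulAut.one_apply])

/-- A semilinear map inducing the identity is a scalar. -/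
theorem semi_eq_one (hn : 2 ≤ n) {g : GL (Fin n) F} {σ : F ≃+* F}
    (h : semi g σ = (1 : MulAut PSLn)) : σ = 1 ∧ ∃ c : F, (g : Mn) = Matrix.scalar (Fin n) c := by
  have hcomm : ∀ i j : Fin n, i ≠ j → Commute (Matrix.single i j (1 : F)) (g : Mn) := by
    intro i j hij
    have e := conj_single_one g σ hij h 1
    rw [map_one] at e
    have e' := congrArg (· * (g : Mn)) e
    simp only [mul_assoc, Units.inv_mul] at e'
    rw [mul_one] at e'
    exact e'.symm
  obtain ⟨c, hc⟩ := Matrix.mem_range_scalar_iff_commute_single.2 hcomm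
  refine ⟨RingEquiv.ext fun a => ?_, c, hc.symm⟩
  have hne : (⟨0, by omega⟩ : Fin n) ≠ ⟨1, by omega⟩ := by simp
  have e := conj_single_one g σ hne h a
  have hsc : (g : Mn) * Matrix.single ⟨0, by omega⟩ ⟨1, by omega⟩ (σ a) =
      Matrix.single ⟨0, by omega⟩ ⟨1, by omega⟩ (σ a) * (g : Mn) := by
    rw [← hc]
    exact (Matrix.scalar_commute c (fun _ => Commute.all _ _) _).eq
  rw [hsc, mul_assoc, ← Units.val_mul, mul_inv_cancel, Units.val_one, mul_one] at e
  have := congrFun (congrFun e ⟨0, by omega⟩) ⟨1, by omega⟩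
  simpa using this

/-- For `n ≥ 3` the inverse-transpose automorphism is not semilinear. -/
theorem semi_ne_invT (hn : 3 ≤ n) (g : GL (Fin n) F) (σ : F ≃+* F) :
    semi g σ ≠ (invT : MulAut PSLn) := by
  intro h
  have key : ∀ i j : Fin n, ∀ hij : i ≠ j,
      (g : Mn) * Matrix.single i j 1 * ((g⁻¹ : GL (Fin n) F) : Mn) = Matrix.single j i (-1) := by
    intro i j hij
    have e := conj_single_of_mk_eq g σ hij hij.symm 1 (-1) (by
      rw [← semi_mk, h, invT_mk]
      congr 1
      apply Subtype.ext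
      rw [slInvT_coe, Matrix.SpecialLinearGroup.transvection_inv,
        Matrix.SpecialLinearGroup.transvection_coe, Matrix.SpecialLinearGroup.transvection_coe,
        Matrix.transpose_add, Matrix.transpose_one, Matrix.transpose_single])
    rwa [map_one] at e
  obtain ⟨i, j, k, hij, hjk, hik⟩ : ∃ i j k : Fin n, i ≠ j ∧ j ≠ k ∧ i ≠ k :=
    ⟨⟨0, by omega⟩, ⟨1, by omega⟩, ⟨2, by omega⟩, by simp, by simp, by simp⟩
  have h1 : (g : Mn) * Matrix.single i k 1 * ((g⁻¹ : GL (Fin n) F) : Mn) =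
      ((g : Mn) * Matrix.single i j 1 * ((g⁻¹ : GL (Fin n) F) : Mn)) *
      ((g : Mn) * Matrix.single j k 1 * ((g⁻¹ : GL (Fin n) F) : Mn)) := by
    simp only [mul_assoc, Units.inv_mul_cancel_left]
    rw [← mul_assoc (Matrix.single i j (1 : F)), Matrix.single_mul_single_same, mul_one]
  rw [key i k hik, key i j hij, key j k hjk, Matrix.single_mul_single_of_ne _ _ _ _ hik] at h1
  have := congrFun (congrFun h1 k) i
  simp at this

theorem invT_semi (g : GL (Fin n) F) (σ : F ≃+* F) :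
    ∃ g' : GL (Fin n) F, (invT * semi g σ : MulAut PSLn) = semi g' σ * invT := by
  obtain ⟨g', hg', hg''⟩ : ∃ g' : GL (Fin n) F,
      (g' : Mn) = ((g⁻¹ : GL (Fin n) F) : Mn)ᵀ ∧
      ((g'⁻¹ : GL (Fin n) F) : Mn) = (g : Mn)ᵀ :=
    ⟨⟨((g⁻¹ : GL (Fin n) F) : Mn)ᵀ, (g : Mn)ᵀ,
      by rw [← Matrix.transpose_mul, ← Units.val_mul, mul_inv_cancel, Units.val_one,
        Matrix.transpose_one],
      by rw [← Matrix.transpose_mul, ← Units.val_mul, inv_mul_cancel, Units.val_one,
        Matrix.transpose_one]⟩, rfl, rfl⟩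
  refine ⟨g', MulEquiv.ext fun x => ?_⟩
  induction x using QuotientGroup.induction_on with
  | _ s =>
    refine congrArg QuotientGroup.mk ?_
    apply Subtype.ext
    show (((slSemi g σ s)⁻¹ : SLn) : Mn)ᵀ = (g' : Mn) *
      (((s⁻¹ : SLn) : Mn)ᵀ).map σ * ((g'⁻¹ : GL (Fin n) F) : Mn)
    rw [← map_inv, slSemi_coe, hg', hg'', Matrix.transpose_mul, Matrix.transpose_mul,
      Matrix.transpose_map, mul_assoc]

/-- The powers of the inverse-transpose automorphism. -/
def invTPow (e : ZMod 2) : MulAut PSLn := if e = 0 then 1 else invT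

theorem invTPow_add (a b : ZMod 2) :
    (invTPow a * invTPow b : MulAut PSLn) = invTPow (a + b) := by
  have h01 : ∀ x : ZMod 2, x = 0 ∨ x = 1 := by decide
  rcases h01 a with rfl | rfl <;> rcases h01 b with rfl | rfl <;>
    simp [invTPow, invT_mul_invT, show (1 : ZMod 2) + 1 = 0 by decide]

/-- `β` has field part `σ` and graph part `e`. -/
def HasType (β : MulAut PSLn) (σ : F ≃+* F) (e : ZMod 2) : Prop :=
  ∃ g : GL (Fin n) F, β = semi g σ * invTPow e

theorem semi_inv (g : GL (Fin n) F) (σ : F ≃+* F) :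
    ∃ g', (semi g σ : MulAut PSLn)⁻¹ = semi g' σ⁻¹ := by
  refine ⟨Matrix.GeneralLinearGroup.map σ.symm.toRingHom g⁻¹, ?_⟩
  rw [inv_eq_iff_mul_eq_one, semi_mul, mul_inv_cancel, ← semi_one]
  congr 1
  refine Units.ext ?_
  rw [Units.val_mul, Units.val_one]
  show (g : Mn) * ((((g⁻¹ : GL (Fin n) F) : Mn)).map σ.symm).map σ = 1
  rw [Matrix.map_map, show ⇑σ ∘ ⇑σ.symm = id from funext σ.apply_symm_apply, Matrix.map_id,
    ← Units.val_mul, mul_inv_cancel, Units.val_one]

theorem HasType.mul {β γ : MulAut PSLn} {σ τ : F ≃+* F} {a b : ZMod 2} (h₁ : HasType β σ a)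
    (h₂ : HasType γ τ b) : HasType (β * γ) (σ * τ) (a + b) := by
  obtain ⟨g, rfl⟩ := h₁
  obtain ⟨h, rfl⟩ := h₂
  obtain ⟨h', hh⟩ : ∃ h', (invTPow a * semi h τ : MulAut PSLn) = semi h' τ * invTPow a := by
    unfold invTPow
    split_ifs
    · exact ⟨h, by rw [one_mul, mul_one]⟩
    · exact invT_semi h τ
  refine ⟨g * Matrix.GeneralLinearGroup.map σ.toRingHom h', ?_⟩
  rw [← semi_mul, ← invTPow_add a b]
  simp only [mul_assoc]
  rw [← mul_assoc (invTPow a : MulAut PSLn) (semi h τ), hh]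
  simp only [mul_assoc]

theorem hasType_semi (g : GL (Fin n) F) (σ : F ≃+* F) :
    HasType (semi g σ : MulAut PSLn) σ 0 := ⟨g, by simp [invTPow]⟩

theorem hasType_invT : HasType (invT : MulAut PSLn) 1 1 := ⟨1, by simp [invTPow, semi_one]⟩

theorem HasType.unique (hn : 2 ≤ n) {β : MulAut PSLn} {σ τ : F ≃+* F} {a b : ZMod 2}
    (h₁ : HasType β σ a) (h₂ : HasType β τ b) (hab : n = 2 → a = b) : σ = τ ∧ a = b := by
  obtain ⟨g, rfl⟩ := h₁
  obtain ⟨h, he⟩ := h₂
  obtain ⟨h', hh⟩ := semi_inv h τ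
  have e : semi (h' * Matrix.GeneralLinearGroup.map (τ⁻¹ : F ≃+* F).toRingHom g) (τ⁻¹ * σ) =
      (invTPow (b + a) : MulAut PSLn) := by
    have e' := congrArg (fun x => (semi h τ : MulAut PSLn)⁻¹ * x * invTPow a) he
    simp only [← mul_assoc, inv_mul_cancel, one_mul, invTPow_add] at e'
    rw [mul_assoc, invTPow_add, show a + a = 0 from CharTwo.add_self_eq_zero a] at e'
    rw [← semi_mul, ← hh, ← e']
    simp [invTPow]
  by_cases hc : b + a = 0
  · rw [invTPow, if_pos hc] at e
    refine ⟨(inv_mul_eq_one.1 (semi_eq_one hn e).1).symm, ?_⟩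
    exact (CharTwo.add_eq_zero.1 hc).symm
  · exfalso
    rw [invTPow, if_neg hc] at e
    rcases hn.lt_or_eq with h3 | h2
    · exact semi_ne_invT h3 _ _ e
    · exact hc (by rw [hab h2.symm]; exact CharTwo.add_self_eq_zero b)

/-- For `n = 2` the inverse-transpose automorphism is conjugation. -/
theorem invT_two : ∃ g : GL (Fin 2) F,
    (invT : MulAut (Matrix.ProjectiveSpecialLinearGroup (Fin 2) F)) = semi g 1 := by
  obtain ⟨w, hw⟩ : ∃ w : Matrix.SpecialLinearGroup (Fin 2) F,
      (w : Matrix (Fin 2) (Fin 2) F) = !![0, 1; -1, 0] :=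
    ⟨⟨_, by simp [Matrix.det_fin_two]⟩, rfl⟩
  refine ⟨Matrix.SpecialLinearGroup.toGL w, MulEquiv.ext fun x => ?_⟩
  induction x using QuotientGroup.induction_on with
  | _ s =>
    refine congrArg QuotientGroup.mk (Subtype.ext ?_)
    show ((s⁻¹ : Matrix.SpecialLinearGroup (Fin 2) F) : Matrix (Fin 2) (Fin 2) F)ᵀ =
      (w : Matrix (Fin 2) (Fin 2) F) * (s : Matrix (Fin 2) (Fin 2) F).map (1 : F ≃+* F) *
        ((w⁻¹ : Matrix.SpecialLinearGroup (Fin 2) F) : Matrix (Fin 2) (Fin 2) F)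
    rw [Matrix.SpecialLinearGroup.coe_inv, Matrix.SpecialLinearGroup.coe_inv, hw,
      Matrix.adjugate_fin_two, Matrix.adjugate_fin_two]
    ext i j
    fin_cases i <;> fin_cases j <;> simp [Matrix.mul_apply, Matrix.vecMul, dotProduct, Fin.sum_univ_two]

theorem inner_eq_semi (s : SLn) :
    (MulAut.conj (QuotientGroup.mk s : PSLn) : MulAut PSLn) =
      semi (Matrix.SpecialLinearGroup.toGL s) 1 := MulEquiv.ext fun x => by
  induction x using QuotientGroup.induction_on with
  | _ t =>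
    rw [MulAut.conj_apply, ← QuotientGroup.mk_inv, ← QuotientGroup.mk_mul, ← QuotientGroup.mk_mul,
      semi_mk]
    refine congrArg QuotientGroup.mk (Subtype.ext ?_)
    rw [slSemi_coe, Matrix.SpecialLinearGroup.coe_mul, Matrix.SpecialLinearGroup.coe_mul, ← map_inv]
    rfl

theorem semi_scalar_mul (c : Fˣ) (g : GL (Fin n) F) :
    (semi (Matrix.GeneralLinearGroup.scalar (Fin n) c * g) 1 : MulAut PSLn) = semi g 1 := by
  refine MulEquiv.ext fun x => ?_
  induction x using QuotientGroup.induction_on with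
  | _ s =>
    refine congrArg QuotientGroup.mk (Subtype.ext ?_)
    show ((Matrix.GeneralLinearGroup.scalar (Fin n) c * g : GL (Fin n) F) : Mn) *
        (s : Mn).map (1 : F ≃+* F) *
        (((Matrix.GeneralLinearGroup.scalar (Fin n) c * g)⁻¹ : GL (Fin n) F) : Mn) =
      (g : Mn) * (s : Mn).map (1 : F ≃+* F) * ((g⁻¹ : GL (Fin n) F) : Mn)
    rw [_root_.mul_inv_rev, ← map_inv, Units.val_mul, Units.val_mul]
    have hsc : ∀ u : Fˣ, ((Matrix.GeneralLinearGroup.scalar (Fin n) u : GL (Fin n) F) : Mn) =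
        Matrix.scalar (Fin n) (u : F) := fun u => rfl
    rw [hsc, hsc]
    rw [show Matrix.scalar (Fin n) (c : F) * (g : Mn) * (s : Mn).map (1 : F ≃+* F) *
        (((g⁻¹ : GL (Fin n) F) : Mn) * Matrix.scalar (Fin n) ((c⁻¹ : Fˣ) : F)) =
      Matrix.scalar (Fin n) (c : F) * ((g : Mn) * (s : Mn).map (1 : F ≃+* F) *
        ((g⁻¹ : GL (Fin n) F) : Mn)) * Matrix.scalar (Fin n) ((c⁻¹ : Fˣ) : F) by
      simp only [mul_assoc]]
    rw [(Matrix.scalar_commute (c : F) (fun _ => Commute.all _ _) _).eq, mul_assoc,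
      ← map_mul, ← Units.val_mul, mul_inv_cancel, Units.val_one, map_one, mul_one]

/-- Conjugation by `g` is inner exactly when `det g` is an `n`-th power. -/
theorem semi_mem_inn (hn : 2 ≤ n) (g : GL (Fin n) F) :
    (semi g 1 : MulAut PSLn) ∈ (MulAut.conj : PSLn →* MulAut PSLn).range ↔
      Matrix.GeneralLinearGroup.det g ∈ (powMonoidHom n : Fˣ →* Fˣ).range := by
  have hsc : ∀ u : Fˣ, Matrix.GeneralLinearGroup.det (Matrix.GeneralLinearGroup.scalar (Fin n) u) =
      u ^ n := fun u => Units.ext (by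
    show (Matrix.scalar (Fin n) (u : F)).det = _
    simp)
  constructor
  · rintro ⟨x, hx⟩
    obtain ⟨s, rfl⟩ := QuotientGroup.mk_surjective x
    rw [inner_eq_semi] at hx
    obtain ⟨t, ht⟩ := semi_inv (Matrix.SpecialLinearGroup.toGL s) (1 : F ≃+* F)
    have h1 : (semi ((Matrix.SpecialLinearGroup.toGL s)⁻¹ * g) 1 : MulAut PSLn) = 1 := by
      have e : semi ((Matrix.SpecialLinearGroup.toGL s)⁻¹) 1 * semi g 1 =
          (semi ((Matrix.SpecialLinearGroup.toGL s)⁻¹ * g) 1 : MulAut PSLn) := by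
        rw [semi_mul, mul_one]
        congr 2
      rw [← e, ← hx, semi_mul, mul_one, ← semi_one]
      congr 1
      exact inv_mul_cancel (Matrix.SpecialLinearGroup.toGL s)
    obtain ⟨-, c, hc⟩ := semi_eq_one hn h1
    have hc0 : c ≠ 0 := by
      rintro rfl
      have hu : IsUnit (((Matrix.SpecialLinearGroup.toGL s)⁻¹ * g : GL (Fin n) F) : Mn) :=
        Units.isUnit _
      have : Nonempty (Fin n) := ⟨⟨0, by omega⟩⟩
      rw [hc, map_zero, Matrix.isUnit_iff_isUnit_det, Matrix.det_zero] at hu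
      exact not_isUnit_zero hu
    refine ⟨Units.mk0 c hc0, ?_⟩
    have e : g = Matrix.SpecialLinearGroup.toGL s * Matrix.GeneralLinearGroup.scalar (Fin n) (Units.mk0 c hc0) := by
      rw [← mul_inv_cancel_left (Matrix.SpecialLinearGroup.toGL s) g]
      congr 1
      exact Units.ext hc
    rw [e, map_mul, hsc, powMonoidHom_apply]
    rw [show Matrix.GeneralLinearGroup.det (Matrix.SpecialLinearGroup.toGL s) = 1 from Units.ext s.2,
      one_mul]
  · rintro ⟨c, hc⟩
    rw [powMonoidHom_apply] at hc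
    have hd : ((Matrix.GeneralLinearGroup.scalar (Fin n) c⁻¹ * g : GL (Fin n) F) : Mn).det = 1 := by
      have : Matrix.GeneralLinearGroup.det (Matrix.GeneralLinearGroup.scalar (Fin n) c⁻¹ * g) = 1 := by
        rw [map_mul, hsc, inv_pow, hc, inv_mul_cancel]
      exact congrArg Units.val this
    obtain ⟨w, hw⟩ : ∃ w : SLn, Matrix.SpecialLinearGroup.toGL w =
        Matrix.GeneralLinearGroup.scalar (Fin n) c⁻¹ * g := ⟨⟨_, hd⟩, Units.ext rfl⟩
    refine ⟨QuotientGroup.mk w, ?_⟩
    rw [inner_eq_semi, hw, semi_scalar_mul]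

variable [Fintype F]

theorem exists_hasType (hn : 2 ≤ n) (β : MulAut PSLn) :
    ∃ (σ : F ≃+* F) (e : ZMod 2), HasType β σ e ∧ (n = 2 → e = 0) := by
  obtain ⟨g, σ, h | ⟨h3, h⟩⟩ := aut_eq hn β
  · exact ⟨σ, 0, ⟨g, by simp [invTPow, h]⟩, fun _ => rfl⟩
  · obtain ⟨g', hg'⟩ := invT_semi g σ
    refine ⟨σ, 1, ⟨g', ?_⟩, fun h2 => absurd h2 (by omega)⟩
    rw [h, hg', invTPow, if_neg (by decide)]

/-- The automorphism group of a finite field is cyclic of order `f`. -/
theorem exists_ringAut_equiv (p f : ℕ) [Fact p.Prime] (hF : Fintype.card F = p ^ f) :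
    Nonempty ((F ≃+* F) ≃* Multiplicative (ZMod f)) := by
  obtain ⟨p', hp'⟩ := CharP.exists F
  obtain ⟨a', hpp, hcard⟩ := FiniteField.card F p'
  have hd : p' ∣ p ^ f := by rw [← hF, hcard]; exact dvd_pow_self p' a'.pos.ne'
  obtain rfl := (Nat.prime_dvd_prime_iff_eq hpp (Fact.out : p.Prime)).mp (hpp.dvd_of_dvd_pow hd)
  let _ : Algebra (ZMod p') F := ZMod.algebra F p'
  have hfin : Module.finrank (ZMod p') F = f := by
    have h := Module.card_eq_pow_finrank (K := ZMod p') (V := F)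
    rw [hF, ZMod.card] at h
    exact (Nat.pow_right_injective hpp.two_le h).symm
  let E : (F ≃+* F) ≃* Gal(F/ZMod p') :=
    { toFun := fun σ => AlgEquiv.ofRingEquiv (f := σ) fun x => RingHom.congr_fun
        (Subsingleton.elim (σ.toRingHom.comp (algebraMap (ZMod p') F)) (algebraMap (ZMod p') F)) x
      invFun := fun σ => σ.toRingEquiv
      left_inv := fun σ => RingEquiv.ext fun x => rfl
      right_inv := fun σ => AlgEquiv.ext fun x => rfl
      map_mul' := fun σ τ => AlgEquiv.ext fun x => rfl }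
  have hcard' : Nat.card Gal(F/ZMod p') = f := by rw [IsGalois.card_aut_eq_finrank, hfin]
  refine ⟨E.trans ((zmodCyclicMulEquiv (G := Gal(F/ZMod p')) inferInstance).symm.trans ?_)⟩
  rw [hcard']

theorem card_quotient_powMonoidHom {q : ℕ} (hq : Fintype.card F = q) :
    Nat.card (Fˣ ⧸ (powMonoidHom n : Fˣ →* Fˣ).range) = Nat.gcd n (q - 1) := by
  have h1 := Subgroup.card_mul_index (powMonoidHom n : Fˣ →* Fˣ).ker
  rw [Subgroup.index_ker] at h1
  have h2 := Subgroup.card_mul_index (powMonoidHom n : Fˣ →* Fˣ).range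
  rw [← h1, mul_comm (Nat.card (powMonoidHom n : Fˣ →* Fˣ).ker)] at h2
  rw [← Subgroup.index_eq_card, Nat.eq_of_mul_eq_mul_left Nat.card_pos h2,
    IsCyclic.card_powMonoidHom_ker, Nat.card_units, Nat.card_eq_fintype_card, hq, Nat.gcd_comm]

/-- The map from the outer automorphism group to the field and graph parts. -/
theorem exists_outer_hom (hn : 2 ≤ n) :
    ∃ φ : (MulAut PSLn ⧸ Cfsg.Inn PSLn) →* (F ≃+* F) × Multiplicative (ZMod 2),
      (∀ σ : F ≃+* F, (σ, 1) ∈ φ.range) ∧
      (3 ≤ n → (1, Multiplicative.ofAdd (1 : ZMod 2)) ∈ φ.range) ∧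
      (n = 2 → ∀ x, (φ x).2 = 1) ∧
      Nonempty (φ.ker ≃* Fˣ ⧸ (powMonoidHom n : Fˣ →* Fˣ).range) := by
  classical
  choose fld gr hT h2 using fun β : MulAut PSLn => exists_hasType hn β
  have huniq : ∀ (β : MulAut PSLn) σ e, HasType β σ e → (n = 2 → e = 0) → fld β = σ ∧ gr β = e :=
    fun β σ e h he => (hT β).unique hn h fun hn2 => by rw [h2 β hn2, he hn2]
  let Φ : MulAut PSLn →* (F ≃+* F) × Multiplicative (ZMod 2) :=
    MonoidHom.mk' (fun β => (fld β, Multiplicative.ofAdd (gr β))) fun β γ => by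
      obtain ⟨e1, e2⟩ := huniq _ _ _ ((hT β).mul (hT γ)) fun hn2 => by
        rw [h2 β hn2, h2 γ hn2, add_zero]
      rw [e1, e2, ofAdd_add]
      rfl
  have hsemi : ∀ g σ, Φ (semi g σ) = (σ, 1) := by
    intro g σ
    obtain ⟨e1, e2⟩ := huniq _ _ _ (hasType_semi g σ) fun _ => rfl
    show (fld _, Multiplicative.ofAdd (gr _)) = _
    rw [e1, e2, ofAdd_zero]
  have hinn : Cfsg.Inn PSLn ≤ Φ.ker := by
    rintro _ ⟨x, rfl⟩
    obtain ⟨s, rfl⟩ := QuotientGroup.mk_surjective x
    rw [MonoidHom.mem_ker, inner_eq_semi, hsemi]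
    rfl
  refine ⟨QuotientGroup.lift _ Φ hinn, fun σ => ⟨QuotientGroup.mk (semi 1 σ), hsemi 1 σ⟩,
    fun h3 => ⟨QuotientGroup.mk invT, ?_⟩, fun hn2 x => ?_, ?_⟩
  · obtain ⟨e1, e2⟩ := huniq _ _ _ hasType_invT fun h => absurd h (by omega)
    show (fld _, Multiplicative.ofAdd (gr _)) = _
    rw [e1, e2]
  · induction x using QuotientGroup.induction_on with
    | _ β =>
      show Multiplicative.ofAdd (gr β) = 1
      rw [h2 β hn2, ofAdd_zero]
  · let D : GL (Fin n) F →* Fˣ ⧸ (powMonoidHom n : Fˣ →* Fˣ).range :=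
      (QuotientGroup.mk' _).comp Matrix.GeneralLinearGroup.det
    let S : GL (Fin n) F →* MulAut PSLn := MonoidHom.mk' (fun g => semi g 1) fun g h => by
      rw [semi_mul, mul_one]
      congr 2
    let Ψ : GL (Fin n) F →* (MulAut PSLn ⧸ Cfsg.Inn PSLn) := (QuotientGroup.mk' _).comp S
    have hker : Ψ.ker = D.ker := by
      ext g
      rw [MonoidHom.mem_ker, MonoidHom.mem_ker]
      show (QuotientGroup.mk (semi g 1) : MulAut PSLn ⧸ Cfsg.Inn PSLn) = 1 ↔
        (QuotientGroup.mk (Matrix.GeneralLinearGroup.det g) : Fˣ ⧸ _) = 1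
      rw [QuotientGroup.eq_one_iff, QuotientGroup.eq_one_iff, semi_mem_inn hn]
    have hrange : (QuotientGroup.lift _ Φ hinn).ker = Ψ.range := by
      ext x
      induction x using QuotientGroup.induction_on with
      | _ β =>
        constructor
        · intro hx
          have hx' : (fld β, Multiplicative.ofAdd (gr β)) = ((1 : F ≃+* F), (1 : Multiplicative (ZMod 2))) := hx
          obtain ⟨g, hg⟩ := hT β
          obtain ⟨h1', h2'⟩ := Prod.ext_iff.1 hx'
          simp only at h1' h2'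
          rw [h1', show gr β = 0 from Multiplicative.ofAdd.injective
            (h2'.trans ofAdd_zero.symm)] at hg
          exact ⟨g, congrArg QuotientGroup.mk (by rw [hg]; simp [invTPow, S])⟩
        · rintro ⟨g, hg⟩
          rw [← hg]
          exact hsemi g 1
    have : Nonempty (Fin n) := ⟨⟨0, by omega⟩⟩
    have hsurj : Function.Surjective D :=
      (QuotientGroup.mk'_surjective _).comp Matrix.GeneralLinearGroup.det_surjective
    exact ⟨((MulEquiv.subgroupCongr hrange).trans (QuotientGroup.quotientKerEquivRange Ψ).symm).trans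
      ((QuotientGroup.quotientMulEquivOfEq hker).trans
        (QuotientGroup.quotientKerEquivOfSurjective D hsurj))⟩

end Cfsg.Agent.AutPSL
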