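import Cfsg.Prelude.Def_LieTypeDatum
import Cfsg.Agent.Lib.AutPSL.Outer
import Cfsg.Agent.Lib.AutPSL.Descent

/-!
Field and graph-field automorphisms of `PSL_n`: conjugacy in the inner-diagonal coset, centralisers.
-/

set_option autoImplicit false

namespace Cfsg.Agent.AutPSL

open Matrix

variable {F : Type*} [Field F] {n : ℕ}

local notation "Mn" => Matrix (Fin n) (Fin n) F
local notation "PSLn" => Matrix.ProjectiveSpecialLinearGroup (Fin n) F
local notation "sc" => Matrix.GeneralLinearGroup.scalar (Fin n)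

theorem semi_mul' (g h : GL (Fin n) F) (σ τ : F ≃+* F) :
    semi g σ * semi h τ = (semi (g * mapGL σ h) (σ * τ) : MulAut PSLn) := semi_mul g h σ τ

theorem semi_eq_one_iff (hn : 2 ≤ n) {g : GL (Fin n) F} {σ : F ≃+* F} :
    semi g σ = (1 : MulAut PSLn) ↔ σ = 1 ∧ ∃ c : Fˣ, g = sc c := by
  constructor
  · intro h
    obtain ⟨h1, c, hc⟩ := semi_eq_one hn h
    refine ⟨h1, ?_⟩
    have hc0 : c ≠ 0 := by
      rintro rfl
      have : Nonempty (Fin n) := ⟨⟨0, by omega⟩⟩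
      have hu := g.isUnit
      rw [hc, map_zero] at hu
      exact not_isUnit_zero hu
    exact ⟨Units.mk0 c hc0, Units.ext hc⟩
  · rintro ⟨rfl, c, rfl⟩
    have := semi_scalar_mul (n := n) (F := F) c 1
    rwa [mul_one, semi_one] at this

theorem semi_pow (g : GL (Fin n) F) (σ : F ≃+* F) (k : ℕ) :
    (semi g σ : MulAut PSLn) ^ k = semi (twist σ g k) (σ ^ k) := by
  induction k with
  | zero => simp [twist, semi_one]
  | succ k ih => rw [pow_succ', ih, semi_mul', pow_succ']; rfl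

theorem semi_left (P : GL (Fin n) F) : (semi P 1 : MulAut PSLn)⁻¹ = semi P⁻¹ 1 := by
  rw [inv_eq_iff_mul_eq_one, semi_mul', mapGL_one, mul_inv_cancel, one_mul, semi_one]

theorem semi_conj (P : GL (Fin n) F) (σ : F ≃+* F) :
    semi P 1 * semi 1 σ * (semi P 1)⁻¹ = (semi (P * (mapGL σ P)⁻¹) σ : MulAut PSLn) := by
  rw [semi_left, semi_mul', semi_mul', map_one, mul_one, one_mul, mul_one, map_inv]

theorem semi_eq_semi (hn : 2 ≤ n) {g h : GL (Fin n) F} {σ τ : F ≃+* F} :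
    semi g σ = (semi h τ : MulAut PSLn) ↔ σ = τ ∧ ∃ c : Fˣ, g = sc c * h := by
  constructor
  · intro e
    obtain rfl := ((hasType_semi g σ).unique hn (e ▸ hasType_semi h τ) fun _ => rfl).1
    refine ⟨rfl, ?_⟩
    have e' : (semi (h⁻¹ * g) 1 : MulAut PSLn) = 1 := by
      have : (semi h⁻¹ 1 * semi g σ : MulAut PSLn) = semi h⁻¹ 1 * semi h σ := by rw [e]
      rw [semi_mul', semi_mul', mapGL_one, mapGL_one, one_mul, inv_mul_cancel] at this
      calc semi (h⁻¹ * g) 1 = semi (h⁻¹ * g) σ * (semi 1 σ : MulAut PSLn)⁻¹ := by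
            rw [eq_mul_inv_iff_mul_eq, semi_mul', mapGL_one, mul_one, one_mul]
        _ = 1 := by rw [this, mul_inv_cancel]
    obtain ⟨-, c, hc⟩ := (semi_eq_one_iff hn).1 e'
    exact ⟨c, by rw [scalar_comm, ← hc, mul_inv_cancel_left]⟩
  · rintro ⟨rfl, c, rfl⟩
    rw [show (semi (sc c * h) σ : MulAut PSLn) = semi (sc c * h) 1 * semi 1 σ by
      rw [semi_mul', mapGL_one, mul_one, one_mul], semi_scalar_mul, semi_mul', mapGL_one, mul_one,
      one_mul]

theorem mem_inndiag {δ : MulAut PSLn} :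
    δ ∈ Cfsg.inndiagPSL n F ↔ ∃ g : GL (Fin n) F, δ = semi g 1 := by
  constructor
  · intro h
    induction h using Subgroup.closure_induction with
    | mem x hx =>
      obtain ⟨g, hg⟩ := hx
      refine ⟨g, MulEquiv.ext fun y => ?_⟩
      induction y using QuotientGroup.induction_on with
      | _ s => exact hg s (slSemi g 1 s) (slSemi_coe g 1 s)
    | one => exact ⟨1, semi_one.symm⟩
    | mul a b _ _ ha hb =>
      obtain ⟨g, rfl⟩ := ha
      obtain ⟨h, rfl⟩ := hb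
      exact ⟨g * h, by rw [semi_mul', mapGL_one, mul_one]⟩
    | inv a _ ha =>
      obtain ⟨g, rfl⟩ := ha
      exact ⟨g⁻¹, semi_left g⟩
  · rintro ⟨g, rfl⟩
    refine Subgroup.subset_closure ⟨g, fun s s' hs => congrArg QuotientGroup.mk (Subtype.ext ?_)⟩
    rw [hs]; rfl

theorem eq_of_isStdFieldAut {σ : F ≃+* F} {φ : MulAut PSLn} (h : Cfsg.IsStdFieldAutPSL σ φ) :
    φ = semi 1 σ := by
  refine MulEquiv.ext fun y => ?_
  induction y using QuotientGroup.induction_on with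
  | _ s =>
    refine h s (slSemi 1 σ s) ?_
    rw [slSemi_coe, inv_one, Units.val_one, one_mul, mul_one]

theorem eq_of_isInvT {γ : MulAut PSLn} (h : Cfsg.IsInverseTransposeAutPSL γ) : γ = invT := by
  refine MulEquiv.ext fun y => ?_
  induction y using QuotientGroup.induction_on with
  | _ s => exact h s (slInvT s) (slInvT_coe s)

/-- The transposed inverse. -/
def starGL (g : GL (Fin n) F) : GL (Fin n) F :=
  ⟨((g⁻¹ : GL (Fin n) F) : Mn)ᵀ, (g : Mn)ᵀ,
    by rw [← Matrix.transpose_mul, ← Units.val_mul, mul_inv_cancel, Units.val_one,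
      Matrix.transpose_one],
    by rw [← Matrix.transpose_mul, ← Units.val_mul, inv_mul_cancel, Units.val_one,
      Matrix.transpose_one]⟩

theorem starGL_coe (g : GL (Fin n) F) : (starGL g : Mn) = ((g⁻¹ : GL (Fin n) F) : Mn)ᵀ := rfl

theorem starGL_inv_coe (g : GL (Fin n) F) : (((starGL g)⁻¹ : GL (Fin n) F) : Mn) = (g : Mn)ᵀ := rfl

theorem invT_mul_semi (g : GL (Fin n) F) (σ : F ≃+* F) :
    (invT * semi g σ : MulAut PSLn) = semi (starGL g) σ * invT := by
  refine MulEquiv.ext fun x => ?_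
  induction x using QuotientGroup.induction_on with
  | _ s =>
    refine congrArg QuotientGroup.mk ?_
    apply Subtype.ext
    show (((slSemi g σ s)⁻¹ : Matrix.SpecialLinearGroup (Fin n) F) : Mn)ᵀ = (starGL g : Mn) *
      (((s⁻¹ : Matrix.SpecialLinearGroup (Fin n) F) : Mn)ᵀ).map σ *
        (((starGL g)⁻¹ : GL (Fin n) F) : Mn)
    rw [← map_inv, slSemi_coe, starGL_coe, starGL_inv_coe, Matrix.transpose_mul,
      Matrix.transpose_mul, Matrix.transpose_map, mul_assoc]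

theorem semi_mul_invT_sq (g : GL (Fin n) F) (σ : F ≃+* F) :
    ((semi g σ * invT) ^ 2 : MulAut PSLn) = semi (g * mapGL σ (starGL g)) (σ * σ) := by
  rw [sq, mul_assoc, ← mul_assoc invT, invT_mul_semi, mul_assoc (semi (starGL g) σ), invT_mul_invT,
    mul_one, semi_mul']

theorem semi_conj_graph (P : GL (Fin n) F) (σ : F ≃+* F) :
    semi P 1 * (semi 1 σ * invT) * (semi P 1)⁻¹ =
      (semi (P * mapGL σ (starGL P⁻¹)) σ * invT : MulAut PSLn) := by
  rw [semi_left, mul_assoc, mul_assoc (semi 1 σ), invT_mul_semi, ← mul_assoc, ← mul_assoc,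
    semi_mul', semi_mul', map_one, mul_one, one_mul, mul_one]

variable [Fintype F]

omit [Fintype F] in
theorem semi_ne_invT' (hn : 3 ≤ n) (g : GL (Fin n) F) (σ : F ≃+* F) :
    (semi g σ * invT : MulAut PSLn) ≠ 1 := fun h => semi_ne_invT hn g σ (by
  have e := congrArg (· * invT) h
  simpa [mul_assoc, invT_mul_invT] using e)

/-- Field automorphism cosets: prime order elements are conjugate. -/
theorem conj_of_pow_eq_one (hn : 2 ≤ n) (g : GL (Fin n) F) (σ : F ≃+* F)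
    (h : (semi g σ : MulAut PSLn) ^ orderOf σ = 1) :
    ∃ P : GL (Fin n) F, semi P 1 * semi 1 σ * (semi P 1)⁻¹ = (semi g σ : MulAut PSLn) := by
  rw [semi_pow, semi_eq_one_iff hn] at h
  obtain ⟨-, c, hc⟩ := h
  obtain ⟨P, t, hP⟩ := exists_descent_scalar σ (by omega) g c hc
  refine ⟨P, ?_⟩
  rw [semi_conj, semi_eq_semi hn]
  exact ⟨rfl, t⁻¹, by rw [hP, mul_assoc (sc t), ← mul_assoc (sc t⁻¹), ← map_mul, inv_mul_cancel,
    map_one, one_mul]⟩

omit [Fintype F] in
theorem orderOf_semi_one (hn : 2 ≤ n) (σ : F ≃+* F) :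
    orderOf (semi 1 σ : MulAut PSLn) = orderOf σ := by
  have hpow : ∀ k, (semi 1 σ : MulAut PSLn) ^ k = semi 1 (σ ^ k) := by
    intro k
    induction k with
    | zero => simp [semi_one]
    | succ k ih => rw [pow_succ, ih, semi_mul', map_one, mul_one, pow_succ]
  refine orderOf_eq_orderOf_iff.2 fun k => ?_
  rw [hpow, semi_eq_one_iff hn]
  exact ⟨fun h => h.1, fun h => ⟨h, 1, (map_one _).symm⟩⟩

/-- Graph-field cosets: involutions are conjugate. -/
theorem conj_graph_of_sq_eq_one (hn : 3 ≤ n) (g : GL (Fin n) F) (σ : F ≃+* F) (hσ : orderOf σ = 2)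
    (h : (semi g σ * invT : MulAut PSLn) ^ 2 = 1) :
    ∃ P : GL (Fin n) F,
      semi P 1 * (semi 1 σ * invT) * (semi P 1)⁻¹ = (semi g σ * invT : MulAut PSLn) := by
  have hσσ : ∀ a, σ (σ a) = a := fun a => by
    have h : σ ^ 2 = 1 := hσ ▸ pow_orderOf_eq_one σ
    rw [sq] at h
    exact RingEquiv.congr_fun h a
  rw [semi_mul_invT_sq, semi_eq_one_iff (by omega)] at h
  obtain ⟨-, c, hc⟩ := h
  have h1 : (g : Mn) = (c : F) • ((g : Mn).map σ)ᵀ := by
    have e : g = sc c * (mapGL σ (starGL g))⁻¹ := eq_mul_inv_of_mul_eq hc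
    conv_lhs => rw [e]
    rw [Units.val_mul, ← map_inv, mapGL_coe, starGL_inv_coe, Matrix.transpose_map]
    show Matrix.scalar (Fin n) (c : F) * _ = _
    rw [Matrix.scalar_apply, ← Matrix.smul_one_eq_diagonal, smul_mul_assoc, one_mul]
  have hcc : (c : F) * σ (c : F) = 1 := by
    have hn0 : (g : Mn) ≠ 0 := by
      intro h0
      have : Nonempty (Fin n) := ⟨⟨0, by omega⟩⟩
      have hu := g.isUnit
      rw [h0] at hu
      exact not_isUnit_zero hu
    obtain ⟨i, j, hij⟩ : ∃ i j, (g : Mn) i j ≠ 0 := by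
      by_contra! h0
      exact hn0 (Matrix.ext h0)
    have e1 : (g : Mn) i j = (c : F) * σ ((g : Mn) j i) := congrFun (congrFun h1 i) j
    have e2 : (g : Mn) j i = (c : F) * σ ((g : Mn) i j) := congrFun (congrFun h1 j) i
    rw [e2, map_mul, hσσ, ← mul_assoc] at e1
    exact mul_right_cancel₀ hij (by rw [one_mul]; exact e1.symm)
  obtain ⟨t, ht⟩ := exists_div_of_normHom_eq_one σ (c := c) (Units.ext (by
    rw [normHom_eq, hσ, Units.coe_prod, Finset.prod_range_succ, Finset.prod_range_one, Units.val_one]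
    simpa using hcc))
  obtain ⟨u, hu⟩ : ∃ u : Fˣ, u = t⁻¹ := ⟨_, rfl⟩
  have hu' : (u : F) * (c : F) = σ (u : F) := by
    have e := congrArg Units.val ht
    have e' : (c : F) * σ (t : F) = (t : F) := e
    rw [hu, Units.val_inv_eq_inv_val, map_inv₀]
    field_simp [t.ne_zero, (map_ne_zero σ).2 t.ne_zero]
    linear_combination e'
  have hA : (((sc u * g : GL (Fin n) F) : Mn).map σ)ᵀ = ((sc u * g : GL (Fin n) F) : Mn) := by
    have hs : ∀ v : Fˣ, ((sc v * g : GL (Fin n) F) : Mn) = (v : F) • (g : Mn) := fun v => by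
      rw [Units.val_mul]
      show Matrix.scalar (Fin n) (v : F) * _ = _
      rw [Matrix.scalar_apply, ← Matrix.smul_one_eq_diagonal, smul_mul_assoc, one_mul]
    rw [hs]
    conv_rhs => rw [h1, smul_smul, hu']
    ext i j
    simp
  obtain ⟨Q, hQ⟩ := exists_congruent_one σ hσ _ hA
  obtain ⟨P, hP⟩ : ∃ P : GL (Fin n) F, P = mapGL σ (starGL Q) := ⟨_, rfl⟩
  refine ⟨P, ?_⟩
  rw [semi_conj_graph]
  congr 1
  rw [semi_eq_semi (by omega)]
  refine ⟨rfl, u, Units.ext ?_⟩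
  rw [Units.val_mul, mapGL_coe, starGL_coe, inv_inv, hP, mapGL_coe, starGL_coe,
    Matrix.transpose_map, Matrix.transpose_transpose, Matrix.map_map]
  rw [show ⇑σ ∘ ⇑σ = id from funext hσσ, Matrix.map_id]
  have hval : ((sc u * g : GL (Fin n) F) : Mn) =
      ((mapGL σ (starGL Q) : GL (Fin n) F) : Mn) * ((Q⁻¹ : GL (Fin n) F) : Mn) := by
    rw [mapGL_coe, starGL_coe]
    have e1 : ((Q : Mn).map σ)ᵀ * ((sc u * g : GL (Fin n) F) : Mn) = ((Q⁻¹ : GL (Fin n) F) : Mn) := by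
      calc ((Q : Mn).map σ)ᵀ * ((sc u * g : GL (Fin n) F) : Mn)
          = ((Q : Mn).map σ)ᵀ * ((sc u * g : GL (Fin n) F) : Mn) * (Q : Mn) *
              ((Q⁻¹ : GL (Fin n) F) : Mn) := (Units.mul_inv_cancel_right _ Q).symm
        _ = _ := by rw [hQ, one_mul]
    have e2 : (((Q⁻¹ : GL (Fin n) F) : Mn)ᵀ).map σ * ((Q : Mn).map σ)ᵀ = 1 := by
      rw [Matrix.transpose_map, ← Matrix.transpose_mul, ← Matrix.map_mul, ← Units.val_mul,
        mul_inv_cancel, Units.val_one, Matrix.map_one _ (map_zero σ) (map_one σ), Matrix.transpose_one]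
    conv_rhs => arg 2; rw [← e1]
    rw [← mul_assoc, e2, one_mul]
  rw [mapGL_coe, starGL_coe, Matrix.transpose_map] at hval
  exact hval.symm

omit [Fintype F] in
/-- The inner-diagonal group is normal. -/
theorem inndiag_normal {δ : MulAut PSLn} (α : MulAut PSLn) (hδ : δ ∈ Cfsg.inndiagPSL n F)
    {g : GL (Fin n) F} {σ : F ≃+* F} {e : ZMod 2} (hα : α = semi g σ * invTPow e) :
    α * δ * α⁻¹ ∈ Cfsg.inndiagPSL n F := by
  obtain ⟨d, rfl⟩ := mem_inndiag.1 hδ
  rw [mem_inndiag, hα]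
  obtain ⟨d', hd'⟩ : ∃ d', (invTPow e * semi d 1 : MulAut PSLn) = semi d' 1 * invTPow e := by
    unfold invTPow
    split_ifs
    · exact ⟨d, by rw [one_mul, mul_one]⟩
    · exact ⟨_, invT_mul_semi d 1⟩
  refine ⟨g * mapGL σ d' * g⁻¹, ?_⟩
  rw [_root_.mul_inv_rev, mul_assoc (semi g σ), hd']
  calc semi g σ * (semi d' 1 * invTPow e) * ((invTPow e)⁻¹ * (semi g σ)⁻¹)
      = semi g σ * semi d' 1 * (semi g σ : MulAut PSLn)⁻¹ := by group
    _ = semi (g * mapGL σ d' * g⁻¹) 1 := by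
      rw [mul_inv_eq_iff_eq_mul, semi_mul', semi_mul', mapGL_one, inv_mul_cancel_right, mul_one,
        one_mul]

omit [Fintype F] in
theorem invTPow_one : (invTPow (1 : ZMod 2) : MulAut PSLn) = invT := if_neg (by decide)

theorem ringAut_comm (σ τ : F ≃+* F) : σ * τ = τ * σ := by
  obtain ⟨p, hp⟩ := CharP.exists F
  obtain ⟨a, hpp, hcard⟩ := FiniteField.card F p
  have : Fact p.Prime := ⟨hpp⟩
  obtain ⟨E⟩ := exists_ringAut_equiv (F := F) p a hcard
  exact E.injective (by rw [map_mul, map_mul, mul_comm])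

/-- The type of an automorphism is invariant under conjugation. -/
theorem hasType_conj (hn : 2 ≤ n) {x : MulAut PSLn} {σ : F ≃+* F} {j : ZMod 2}
    (h : HasType x σ j) (α : MulAut PSLn) : HasType (α⁻¹ * x * α) σ j := by
  obtain ⟨τ, e, h₁, he⟩ := exists_hasType hn α⁻¹
  obtain ⟨τ', e', h₂, he'⟩ := exists_hasType hn α
  have h1 : HasType (1 : MulAut PSLn) 1 0 := semi_one (n := n) (F := F) ▸ hasType_semi 1 1
  have h12 := h₁.mul h₂
  rw [inv_mul_cancel] at h12
  obtain ⟨hτ, hee⟩ := h12.unique hn h1 fun h2 => by rw [he h2, he' h2, add_zero]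
  have := (h₁.mul h).mul h₂
  rwa [ringAut_comm τ σ, mul_assoc σ, hτ, mul_one, add_comm e j, add_assoc, hee, add_zero] at this

/-- The classes of the field automorphisms. -/
theorem exists_conj_field (hn : 2 ≤ n) {x : MulAut PSLn} (hx : Cfsg.IsFieldAutClassPSL x) :
    ∃ (σ : F ≃+* F) (P : GL (Fin n) F), σ ≠ 1 ∧ orderOf x = orderOf σ ∧
      x = semi P 1 * semi 1 σ * (semi P 1)⁻¹ := by
  obtain ⟨α, σ, hσ, hφ⟩ := hx
  have hφ' := eq_of_isStdFieldAut hφ
  have hx' : x = α⁻¹ * semi 1 σ * α := by rw [← hφ']; group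
  have hord : orderOf x = orderOf σ := by
    rw [← orderOf_semi_one (n := n) hn σ, hx',
      show α⁻¹ * semi 1 σ * α = MulAut.conj α⁻¹ (semi 1 σ) by rw [MulAut.conj_apply, inv_inv],
      MulEquiv.orderOf_eq]
  obtain ⟨g, hg⟩ := hasType_conj hn (hasType_semi 1 σ) α
  rw [← hx', invTPow, if_pos rfl, mul_one] at hg
  obtain ⟨P, hP⟩ := conj_of_pow_eq_one hn g σ (by rw [← hg, ← hord, pow_orderOf_eq_one])
  exact ⟨σ, P, hσ, hord, by rw [hP, hg]⟩

/-- The classes of the involutory graph-field automorphisms. -/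
theorem exists_conj_graph {x : MulAut PSLn} (hx : Cfsg.IsGraphFieldAutClassPSL x)
    {r : ℕ} (hr : r.Prime) (hxr : orderOf x = r) :
    r = 2 ∧ 3 ≤ n ∧ ∃ (σ : F ≃+* F) (P : GL (Fin n) F), orderOf σ = 2 ∧
      x = semi P 1 * (semi 1 σ * invT) * (semi P 1)⁻¹ := by
  obtain ⟨hn, α, φ, γ, σ, hσ, hφ, hγ, heq⟩ := hx
  rw [eq_of_isStdFieldAut hφ, eq_of_isInvT hγ] at heq
  have hx' : x = α⁻¹ * (semi 1 σ * invT) * α := by rw [← heq]; group
  have hr2 : r = 2 := by
    obtain ⟨y, hy⟩ : ∃ y : MulAut PSLn, y = semi 1 σ * invT := ⟨_, rfl⟩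
    have hyr : orderOf y = r := by
      rw [← hxr, hx', ← hy, show α⁻¹ * y * α = MulAut.conj α⁻¹ y by rw [MulAut.conj_apply, inv_inv],
        MulEquiv.orderOf_eq]
    by_contra h2
    obtain ⟨k, hk⟩ := hr.odd_of_ne_two h2
    have h1 : y ^ (2 * k + 1) = 1 := by rw [← hk, ← hyr, pow_orderOf_eq_one]
    rw [pow_succ, pow_mul, hy, semi_mul_invT_sq, semi_pow, ← mul_assoc, semi_mul'] at h1
    exact semi_ne_invT' hn _ _ h1
  obtain ⟨g, hg⟩ := hasType_conj (by omega)
    (show HasType (semi 1 σ * invT : MulAut PSLn) σ 1 from ⟨1, by rw [invTPow_one]⟩) α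
  rw [← hx', invTPow_one] at hg
  have h2 : (semi g σ * invT : MulAut PSLn) ^ 2 = 1 := by
    rw [← hg, ← hr2, ← hxr, pow_orderOf_eq_one]
  have hσ2 : orderOf σ = 2 := by
    have hsq := h2
    rw [semi_mul_invT_sq, semi_eq_one_iff (by omega)] at hsq
    have : Fact (Nat.Prime 2) := ⟨Nat.prime_two⟩
    exact orderOf_eq_prime (by rw [sq]; exact hsq.1) hσ
  obtain ⟨P, hP⟩ := conj_graph_of_sq_eq_one hn g σ hσ2 h2
  exact ⟨hr2, hn, σ, P, hσ2, by rw [hP, hg]⟩

end Cfsg.Agent.AutPSL
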