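import Cfsg.Agent.Lib.AutPSL.GraphInv

/-!
Classification of the involutory graph automorphisms of `PSL_n`.
-/

set_option autoImplicit false

namespace Cfsg.Agent.AutPSL

open Matrix
open Cfsg
open Cfsg.Agent.SimForms (Cong GSim detSub IsAltM mPlus mMinus mOdd a0 aOdd)

variable {F : Type*} [Field F] {n : ℕ}

local notation "Mn" => Matrix (Fin n) (Fin n) F
local notation "GLn" => GL (Fin n) F

theorem alt_of_skew (h2 : (2 : F) ≠ 0) {A : Mn} (h : Aᵀ = -A) : IsAltM A := fun v => by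
  have e : SimForms.bl A v v = -SimForms.bl A v v := by
    conv_lhs => rw [SimForms.bl, Matrix.dotProduct_mulVec, ← Matrix.mulVec_transpose, h,
      Matrix.neg_mulVec, neg_dotProduct, dotProduct_comm]
    rfl
  exact (mul_eq_zero.1 (show (2 : F) * SimForms.bl A v v = 0 by linear_combination e)).resolve_left h2

theorem not_alt_of_sym (h2 : (2 : F) ≠ 0) {ι : Type} [Fintype ι] [DecidableEq ι] [Nonempty ι]
    {A : Matrix ι ι F} (hu : IsUnit A) (hA : Aᵀ = A) : ¬ IsAltM A := fun H => by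
  obtain ⟨i⟩ := ‹Nonempty ι›
  have := SimForms.eq_zero_of_bl hu (x := Pi.single i 1) fun y => by
    have h := H (y + Pi.single i 1)
    rw [SimForms.bl_add_left, SimForms.bl_add_right, SimForms.bl_add_right, H, H,
      SimForms.bl_comm hA (Pi.single i 1) y] at h
    exact (mul_eq_zero.1 (show (2 : F) * SimForms.bl A y (Pi.single i 1) = 0 by linear_combination h)).resolve_left h2
  simp at this

theorem cong_odd_dim [Finite F] (h2 : (2 : F) ≠ 0) {m : ℕ} (hnm : n = 2 * m + 1) {A : GLn}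
    (hA : (A : Mn)ᵀ = (A : Mn) ∨ (A : Mn)ᵀ = -(A : Mn)) :
    Cong (A : Mn) (mOdd F m) := by
  rcases hA with hA | hA
  · exact SimForms.cong_of_odd h2 (by rw [Fintype.card_fin]; exact ⟨m, hnm⟩)
      (by simp; omega) A.isUnit hA (SimForms.mOdd_unit h2 m) (SimForms.mOdd_symm m)
  · obtain ⟨m', hm', -⟩ := SimForms.cong_alt A.isUnit (alt_of_skew h2 hA)
    rw [Fintype.card_fin] at hm'
    omega

theorem exists_aniso [Finite F] (h2 : (2 : F) ≠ 0) :
    ∃ a b : F, ∀ z₁ z₂ : F, z₁ ^ 2 + a * z₁ * z₂ + b * z₂ ^ 2 = 0 → z₁ = 0 ∧ z₂ = 0 := by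
  haveI := Fintype.ofFinite F
  obtain ⟨d, hd⟩ := FiniteField.exists_nonsquare (F := F) (fun h => h2 (by
    haveI := ringChar.of_eq h; exact CharTwo.two_eq_zero))
  refine ⟨0, -d, fun x y h => ?_⟩
  have hy : y = 0 := by
    by_contra hy
    exact hd ⟨x / y, by field_simp; linear_combination -h⟩
  rw [hy] at h
  exact ⟨(pow_eq_zero_iff two_ne_zero).1 (by linear_combination h), hy⟩

theorem plus_not_cong_minus [Finite F] (h2 : (2 : F) ≠ 0) {m : ℕ} (hm : 1 ≤ m) {a b : F}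
    (hab : ∀ z₁ z₂ : F, z₁ ^ 2 + a * z₁ * z₂ + b * z₂ ^ 2 = 0 → z₁ = 0 ∧ z₂ = 0) :
    ¬ Cong (mPlus F m) (mMinus (m - 1) a b) := fun h => by
  have h1 := SimForms.square_of_cong (by simp; omega) (by simp) h
  rw [SimForms.det_mPlus, SimForms.det_mMinus, Nat.sub_add_cancel hm, ← mul_assoc, ← pow_add,
    ← two_mul, pow_mul, neg_one_sq, one_pow, one_mul] at h1
  exact SimForms.disc_nonsquare h2 hab h1

theorem cong_plus_or_minus [Fintype F] (h2 : (2 : F) ≠ 0) {m : ℕ} (hm : 1 ≤ m) (hnm : n = 2 * m)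
    {a b : F} (hab : ∀ z₁ z₂ : F, z₁ ^ 2 + a * z₁ * z₂ + b * z₂ ^ 2 = 0 → z₁ = 0 ∧ z₂ = 0)
    {A : GLn} (hA : (A : Mn)ᵀ = (A : Mn)) :
    Cong (A : Mn) (mPlus F m) ∨ Cong (A : Mn) (mMinus (m - 1) a b) := by
  haveI : Nonempty (Fin n) := ⟨⟨0, by omega⟩⟩
  have hAd : (A : Mn).det ≠ 0 := ((Matrix.isUnit_iff_isUnit_det _).1 A.isUnit).ne_zero
  by_cases hsq : IsSquare ((A : Mn).det * (-1) ^ m)
  · exact Or.inl (SimForms.cong_of_square h2 (by simp; omega) A.isUnit hA (SimForms.mPlus_unit m)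
      (SimForms.mPlus_symm m) (by rwa [SimForms.det_mPlus]))
  · refine Or.inr (SimForms.cong_of_square h2 (by simp; omega) A.isUnit hA
      (SimForms.mMinus_unit h2 _ hab) (SimForms.mMinus_symm _ a b) ?_)
    rw [SimForms.det_mMinus, Nat.sub_add_cancel hm, ← mul_assoc,
      Orth.isSquare_mul_nonsquare h2 (mul_ne_zero hAd (pow_ne_zero _ (neg_ne_zero.2 one_ne_zero)))
        (fun h => SimForms.disc_nonsquare h2 hab (by rw [h]; exact ⟨0, by ring⟩))
        (SimForms.disc_nonsquare h2 hab)]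
    exact hsq

theorem cong_J_of_alt {A : GLn} {m : ℕ} (hnm : n = 2 * m) (hA : IsAltM (A : Mn)) :
    Cong (A : Mn) (Matrix.J (Fin m) F) := by
  obtain ⟨m', hm', h⟩ := SimForms.cong_alt A.isUnit hA
  rw [Fintype.card_fin] at hm'
  obtain rfl : m' = m := by omega
  exact h

theorem sym_of_char_two [CharP F 2] {A : GLn}
    (hA : (A : Mn)ᵀ = (A : Mn) ∨ (A : Mn)ᵀ = -(A : Mn)) : (A : Mn)ᵀ = (A : Mn) := by
  rcases hA with hA | hA
  · exact hA
  · rw [hA]; ext i j; simp [CharTwo.neg_eq]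

theorem cong_odd_dim_two [CharP F 2] [Finite F] {m : ℕ} (hnm : n = 2 * m + 1) {A : GLn}
    (hA : (A : Mn)ᵀ = (A : Mn) ∨ (A : Mn)ᵀ = -(A : Mn)) : Cong (A : Mn) (aOdd F m) := by
  have hna : ¬ IsAltM (A : Mn) := fun h => by
    obtain ⟨m', hm', -⟩ := SimForms.cong_alt A.isUnit h
    rw [Fintype.card_fin] at hm'
    omega
  rcases SimForms.cong_nonalt A.isUnit (sym_of_char_two hA) hna with ⟨m', _, hm', -⟩ | ⟨m', hm', h⟩ <;>
    rw [Fintype.card_fin] at hm'
  · omega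
  · obtain rfl : m' = m := by omega
    exact h

theorem cong_even_dim_two [CharP F 2] [Finite F] {m : ℕ} (hm : 0 < m) (hnm : n = 2 * m) {A : GLn}
    (hA : (A : Mn)ᵀ = (A : Mn)) (hna : ¬ IsAltM (A : Mn)) : Cong (A : Mn) (a0 F m hm) := by
  rcases SimForms.cong_nonalt A.isUnit hA hna with ⟨m', _, hm', h⟩ | ⟨m', hm', -⟩ <;>
    rw [Fintype.card_fin] at hm'
  · obtain rfl : m' = m := by omega
    exact h
  · omega

theorem pgo_of_cong (hn : 2 ≤ n) (h2 : (2 : F) ≠ 0) {ι : Type} [Fintype ι] [DecidableEq ι]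
    {M : Matrix ι ι F} (hM : Mᵀ = M) {Q : (ι → F) → F} (hQ : ∀ v, SimForms.bl M v v = 2 * Q v)
    {A : GLn} (h : Cong (A : Mn) M) :
    Nonempty (↥(Cfsg.inndiagPSL n F ⊓ Subgroup.centralizer {grf A}) ≃* Cfsg.PGO F Q) := by
  obtain ⟨e⟩ := centralizer_of_cong hn h
  obtain ⟨e'⟩ := SimForms.projQuot_congr (SimForms.quadSim_eq h2 hM hQ).symm
  exact ⟨e.trans e'⟩

theorem J_symm_or (m : ℕ) : (Matrix.J (Fin m) F)ᵀ = -Matrix.J (Fin m) F := Matrix.J_transpose _ _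

theorem J_unit (m : ℕ) : IsUnit (Matrix.J (Fin m) F) :=
  (Matrix.isUnit_iff_isUnit_det _).2 (isUnit_iff_ne_zero.2 (SimForms.det_J_ne m))

theorem pow_card_plus {m : ℕ} (hm : 2 ≤ m) [Finite F] :
    Nat.card (Orth.oGroup (Orth.qPlus F m)) < Nat.card (Cfsg.PGSp m F) ∧
      ∀ a b : F, (∀ z₁ z₂ : F, z₁ ^ 2 + a * z₁ * z₂ + b * z₂ ^ 2 = 0 → z₁ = 0 ∧ z₂ = 0) →
        Nat.card (Orth.oGroup (Orth.qMinus F (m - 1) a b)) < Nat.card (Cfsg.PGSp m F) := by
  obtain ⟨k, rfl⟩ : ∃ k, m = k + 1 := ⟨m - 1, by omega⟩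
  set q := Nat.card F with hq
  have hq2 : 2 ≤ q := Finite.one_lt_card
  set P := ∏ i ∈ Finset.range k, (q ^ (2 * (i + 1)) - 1) with hP
  have hP0 : 0 < P := Finset.prod_pos fun i _ =>
    Nat.sub_pos_of_lt (Nat.one_lt_pow (by omega) (by omega))
  obtain ⟨N, hN⟩ : ∃ N, q ^ (k + 1) = N := ⟨_, rfl⟩
  have hN4 : 4 ≤ N := hN ▸ (Nat.pow_le_pow_left hq2 2).trans (Nat.pow_le_pow_right (by omega) (by omega))
  have hsq : q ^ (2 * (k + 1)) = N * N := by rw [← hN, ← pow_add, two_mul]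
  have hsp : Nat.card (Cfsg.PGSp (k + 1) F) = q ^ ((k + 1) * k) * N * (N * N - 1) * P := by
    rw [SimForms.card_pgsp (by omega), Finset.prod_range_succ, ← hq, hsq, ← hP, ← hN]
    rw [show (k + 1) ^ 2 = (k + 1) * k + (k + 1) by ring, pow_add]
    ring
  have hprod : N * N - 1 = (N - 1) * (N + 1) := by
    rw [Nat.sub_mul, one_mul, Nat.mul_add, mul_one]; omega
  have hqk : 0 < q ^ ((k + 1) * k) := pow_pos (by omega) _
  refine ⟨?_, fun a b hab => ?_⟩
  · rw [Orth.card_oGroup_qPlus, hsp, ← hq, hN, ← hP, hprod]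
    have h : 2 * (N - 1) < N * ((N - 1) * (N + 1)) :=
      calc 2 * (N - 1) < N * (N - 1) * 1 + (N * (N - 1)) * N := by nlinarith [Nat.sub_pos_of_lt (show 1 < N by omega)]
        _ = _ := by ring
    calc 2 * q ^ ((k + 1) * k) * (N - 1) * P = q ^ ((k + 1) * k) * P * (2 * (N - 1)) := by ring
      _ < q ^ ((k + 1) * k) * P * (N * ((N - 1) * (N + 1))) :=
          Nat.mul_lt_mul_of_pos_left h (Nat.mul_pos hqk hP0)
      _ = _ := by ring
  · rw [Nat.add_sub_cancel, Orth.card_oGroup_qMinus hab, hsp, ← hq, hN, ← hP, hprod]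
    have h : 2 * (N + 1) < N * ((N - 1) * (N + 1)) := by
      have h1 : 2 < N * (N - 1) := by
        calc 2 < 4 * 1 := by norm_num
          _ ≤ N * (N - 1) := Nat.mul_le_mul hN4 (by omega)
      calc 2 * (N + 1) < N * (N - 1) * (N + 1) := Nat.mul_lt_mul_of_pos_right h1 (by omega)
        _ = _ := by ring
    calc 2 * q ^ ((k + 1) * k) * (N + 1) * P = q ^ ((k + 1) * k) * P * (2 * (N + 1)) := by ring
      _ < q ^ ((k + 1) * k) * P * (N * ((N - 1) * (N + 1))) :=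
          Nat.mul_lt_mul_of_pos_left h (Nat.mul_pos hqk hP0)
      _ = _ := by ring

/-- The symplectic type is recognised by the centraliser. -/
theorem not_pgsp_of_sym [Fintype F] (h2 : (2 : F) ≠ 0) {m : ℕ} (hm : 2 ≤ m) (hnm : n = 2 * m)
    {A : GLn} (hA : (A : Mn)ᵀ = (A : Mn)) :
    ¬ Nonempty (↥(Cfsg.inndiagPSL n F ⊓ Subgroup.centralizer {grf A}) ≃* Cfsg.PGSp m F) := by
  rintro ⟨e⟩
  obtain ⟨a, b, hab⟩ := exists_aniso (F := F) h2
  haveI : Nonempty (Fin n) := ⟨⟨0, by omega⟩⟩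
  have key : ∀ {ι : Type} [Fintype ι] [DecidableEq ι] [Nonempty ι] (Q : QuadraticForm F (ι → F))
      (M : Matrix ι ι F), IsUnit M → Mᵀ = M → Even (Fintype.card ι) →
      (∀ v, SimForms.bl M v v = 2 * Q v) → Cong (A : Mn) M →
      Nat.card (Cfsg.PGSp m F) = Nat.card (Orth.oGroup Q) := by
    intro ι _ _ _ Q M hu hM hev hQ hc
    obtain ⟨e'⟩ := centralizer_of_cong (by omega) hc
    rw [← Nat.card_congr e.toEquiv, Nat.card_congr e'.toEquiv,
      SimForms.card_projQuot (fun h => not_isUnit_zero (h ▸ hu))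
        (SimForms.exists_mult_symm h2 hev hu hM)]
    rw [← Orth.card_isometryGroup Q rfl]
    refine Nat.card_congr (MulEquiv.subgroupCongr (Subgroup.ext fun g => ?_)).toEquiv
    rw [SimForms.mem_Isom, Orth.mem_isometryGroup]
    constructor
    · intro hg v
      refine mul_left_cancel₀ h2 ?_
      rw [← hQ, ← hQ, SimForms.bl_mulVec, hg]
    · intro hg
      have hv : ∀ v, SimForms.bl M ((g : Matrix ι ι F) *ᵥ v) ((g : Matrix ι ι F) *ᵥ v) = SimForms.bl M v v :=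
        fun v => by rw [hQ, hQ, hg]
      refine SimForms.eq_of_bl fun u v => ?_
      rw [← SimForms.bl_mulVec]
      have h := hv (u + v)
      rw [Matrix.mulVec_add] at h
      simp only [SimForms.bl_add_left, SimForms.bl_add_right, SimForms.bl_comm hM v u,
        SimForms.bl_comm hM ((g : Matrix ι ι F) *ᵥ v) ((g : Matrix ι ι F) *ᵥ u), hv] at h
      exact mul_left_cancel₀ h2 (by linear_combination h)
  obtain ⟨hp, hmi⟩ := pow_card_plus (F := F) hm
  rcases cong_plus_or_minus h2 (by omega) hnm hab hA with hc | hc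
  · haveI : Nonempty (Fin m ⊕ Fin m) := ⟨Sum.inl ⟨0, by omega⟩⟩
    exact hp.ne' (key (Orth.qPlus F m) _ (SimForms.mPlus_unit m) (SimForms.mPlus_symm m) (by simp)
      (fun v => by rw [Orth.coe_qPlus]; exact SimForms.bl_mPlus m v) hc)
  · exact (hmi a b hab).ne' (key (Orth.qMinus F (m - 1) a b) _ (SimForms.mMinus_unit h2 _ hab)
      (SimForms.mMinus_symm _ a b) (by simp; exact ⟨m - 1 + 1, by omega⟩)
      (fun v => by rw [Orth.coe_qMinus]; exact SimForms.bl_mMinus _ a b v) hc)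

end Cfsg.Agent.AutPSL
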