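import Cfsg.Agent.Lib.SimForms.Groups
import Cfsg.Agent.Lib.AutPSL.Centralizer

/-!
Involutory graph automorphisms of `PSL_n`: forms up to similarity.
-/

set_option autoImplicit false

namespace Cfsg.Agent.AutPSL

open Matrix
open Cfsg
open Cfsg.Agent.SimForms (Cong GSim detSub)

variable {F : Type*} [Field F] {n : ℕ}

local notation "Mn" => Matrix (Fin n) (Fin n) F
local notation "PSLn" => Matrix.ProjectiveSpecialLinearGroup (Fin n) F
local notation "GLn" => GL (Fin n) F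
local notation "sc" => Matrix.GeneralLinearGroup.scalar (Fin n)

/-- The graph automorphism of a matrix. -/
noncomputable def grf (A : GLn) : MulAut PSLn := semi A 1 * invT

theorem grf_one : (grf 1 : MulAut PSLn) = invT := by rw [grf, semi_one, one_mul]

theorem sc_mul_coe (a : Fˣ) (g : GLn) : ((sc a * g : GLn) : Mn) = (a : F) • (g : Mn) := by
  show Matrix.scalar (Fin n) (a : F) * (g : Mn) = _
  rw [Matrix.scalar_apply, ← Matrix.smul_one_eq_diagonal, smul_mul_assoc, one_mul]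

theorem semi_scal (hn : 2 ≤ n) {g h : GLn} :
    (semi g 1 : MulAut PSLn) = semi h 1 ↔ ∃ a : Fˣ, (g : Mn) = (a : F) • (h : Mn) := by
  rw [semi_eq_semi hn]
  constructor
  · rintro ⟨-, a, ha⟩
    exact ⟨a, by rw [ha, sc_mul_coe]⟩
  · rintro ⟨a, ha⟩
    exact ⟨rfl, a, Units.ext (by rw [sc_mul_coe, ha])⟩

theorem semi_grf (P A : GLn) : (semi P 1 : MulAut PSLn) * grf A * (semi P 1)⁻¹ =
    grf (P * A * starGL P⁻¹) := by
  rw [semi_left, grf, grf, mul_assoc, mul_assoc (semi A 1), invT_mul_semi, ← mul_assoc, ← mul_assoc,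
    semi_mul', semi_mul']
  simp only [one_mul, mapGL_one]

theorem grf_eq_iff (hn : 2 ≤ n) (A B : GLn) :
    grf A = grf B ↔ ∃ a : Fˣ, (A : Mn) = (a : F) • (B : Mn) := by
  rw [grf, grf, mul_left_inj, semi_scal hn]

theorem isGraph_grf (hn : 3 ≤ n) (A : GLn) : Cfsg.IsGraphAutClassPSL (grf A) := by
  refine ⟨hn, semi A 1, invT, ⟨A, fun s s' hs => congrArg QuotientGroup.mk (Subtype.ext ?_)⟩, ?_, rfl⟩
  · rw [hs]; rfl
  · intro s s' hs
    exact congrArg QuotientGroup.mk (Subtype.ext ((slInvT_coe s).trans hs.symm))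

variable [Fintype F]

omit [Fintype F] in
theorem grf_sq (hn : 2 ≤ n) (A : GLn) :
    grf A ^ 2 = 1 ↔ ∃ c : Fˣ, (A : Mn) = (c : F) • (A : Mn)ᵀ := by
  rw [grf, semi_mul_invT_sq, mul_one, mapGL_one, ← semi_one, semi_scal hn]
  constructor
  · rintro ⟨c, hc⟩
    refine ⟨c, ?_⟩
    rw [Units.val_mul, starGL_coe, Units.val_one] at hc
    have h := congrArg (· * (A : Mn)ᵀ) hc
    simp only [Matrix.mul_assoc, Matrix.smul_mul, Matrix.one_mul] at h
    rwa [← Matrix.transpose_mul, ← Units.val_mul, mul_inv_cancel, Units.val_one, Matrix.transpose_one,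
      Matrix.mul_one] at h
  · rintro ⟨c, hc⟩
    refine ⟨c, ?_⟩
    rw [Units.val_mul, starGL_coe, Units.val_one]
    conv_lhs => arg 1; rw [hc]
    rw [Matrix.smul_mul, ← Matrix.transpose_mul, ← Units.val_mul, inv_mul_cancel, Units.val_one,
      Matrix.transpose_one]

omit [Fintype F] in
theorem sym_or_skew (hn : 0 < n) {A : GLn} {c : Fˣ} (hc : (A : Mn) = (c : F) • (A : Mn)ᵀ) :
    (A : Mn)ᵀ = (A : Mn) ∨ (A : Mn)ᵀ = -(A : Mn) := by
  haveI : Nonempty (Fin n) := ⟨⟨0, hn⟩⟩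
  have e : ((c : F) * c) • (A : Mn) = (1 : F) • (A : Mn) := by
    conv_rhs => rw [one_smul, hc]; arg 2; rw [hc, Matrix.transpose_smul, Matrix.transpose_transpose]
    rw [smul_smul]
  have hcc := SimForms.smul_cancel (fun h => not_isUnit_zero (h ▸ A.isUnit)) e
  rcases mul_self_eq_one_iff.1 hcc with h | h <;> rw [h] at hc
  · exact Or.inl (by simpa using hc.symm)
  · refine Or.inr ?_
    conv_rhs => rw [hc]
    simp

omit [Fintype F] in
/-- Involutory graph automorphisms. -/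
theorem exists_grf (hn : 3 ≤ n) {γ : MulAut PSLn} (h : Cfsg.IsGraphAutClassPSL γ) (h2 : orderOf γ = 2) :
    ∃ A : GLn, γ = grf A ∧ ((A : Mn)ᵀ = (A : Mn) ∨ (A : Mn)ᵀ = -(A : Mn)) := by
  obtain ⟨-, δ, ι, hδ, hι, rfl⟩ := h
  obtain ⟨A, hA⟩ := mem_inndiag.1 (Subgroup.subset_closure hδ :
    δ ∈ Cfsg.inndiagPSL n F)
  rw [eq_of_isInvT hι, hA] at h2 ⊢
  refine ⟨A, rfl, ?_⟩
  obtain ⟨c, hc⟩ := (grf_sq (by omega) A).1 (by rw [← h2]; exact pow_orderOf_eq_one _)
  exact sym_or_skew (by omega) hc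

omit [Fintype F] in
theorem orderOf_grf (hn : 3 ≤ n) {A : GLn} (h : (A : Mn)ᵀ = (A : Mn) ∨ (A : Mn)ᵀ = -(A : Mn)) :
    orderOf (grf A) = 2 := by
  refine orderOf_eq_prime ((grf_sq (by omega) A).2 ?_) (semi_ne_invT' hn A 1)
  rcases h with h | h
  · exact ⟨1, by rw [h, Units.val_one, one_smul]⟩
  · exact ⟨-1, by rw [h, Units.val_neg, Units.val_one, neg_one_smul, neg_neg]⟩

omit [Fintype F] in
theorem star_inv_coe (P : GLn) : (starGL P⁻¹ : Mn) = (P : Mn)ᵀ := by
  rw [starGL_coe, inv_inv]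

omit [Fintype F] in
theorem conj_grf (hn : 2 ≤ n) (A B : GLn) :
    Cfsg.IsConjUnder (Cfsg.inndiagPSL n F) (grf A) (grf B) ↔ Cong (A : Mn) (B : Mn) := by
  constructor
  · rintro ⟨h, hh, e⟩
    obtain ⟨P, rfl⟩ := mem_inndiag.1 hh
    rw [semi_grf, grf_eq_iff hn] at e
    obtain ⟨a, ha⟩ := e
    rw [Units.val_mul, Units.val_mul, star_inv_coe] at ha
    refine ⟨(P : Mn)ᵀ, (((P⁻¹ : GLn) : Mn))ᵀ, a⁻¹, ?_, ?_, ?_⟩
    · rw [← Matrix.transpose_mul, ← Units.val_mul, inv_mul_cancel, Units.val_one, Matrix.transpose_one]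
    · rw [← Matrix.transpose_mul, ← Units.val_mul, mul_inv_cancel, Units.val_one, Matrix.transpose_one]
    · rw [Matrix.transpose_transpose, ha, smul_smul, Units.inv_mul, one_smul]
  · rintro ⟨P, Q, c, h1, h2, h3⟩
    let g : GLn := ⟨Pᵀ, Qᵀ, by rw [← Matrix.transpose_mul, h2, Matrix.transpose_one],
      by rw [← Matrix.transpose_mul, h1, Matrix.transpose_one]⟩
    refine ⟨semi g 1, mem_inndiag.2 ⟨g, rfl⟩, ?_⟩
    rw [semi_grf, grf_eq_iff hn]
    refine ⟨c⁻¹, ?_⟩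
    rw [Units.val_mul, Units.val_mul, star_inv_coe]
    show _ = ((c⁻¹ : Fˣ) : F) • (Pᵀ * (A : Mn) * Pᵀᵀ)
    rw [Matrix.transpose_transpose, h3, smul_smul, Units.inv_mul, one_smul]

omit [Fintype F] in
theorem commute_grf (hn : 2 ≤ n) (A h : GLn) :
    Commute (conjHom (starGL h)) (grf A) ↔ h ∈ GSim (A : Mn) := by
  have key : (semi (starGL h) 1 : MulAut PSLn) * grf A * (semi (starGL h) 1)⁻¹ = grf A ↔
      h ∈ GSim (A : Mn) := by
    rw [semi_grf, grf_eq_iff hn, SimForms.mem_GSim]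
    have e : ((starGL h * A * starGL (starGL h)⁻¹ : GLn) : Mn) =
        ((h⁻¹ : GLn) : Mn)ᵀ * (A : Mn) * ((h⁻¹ : GLn) : Mn) := by
      rw [Units.val_mul, Units.val_mul, star_inv_coe, starGL_coe, Matrix.transpose_transpose]
    rw [e]
    constructor
    · rintro ⟨a, ha⟩
      refine ⟨a⁻¹, ?_⟩
      have e1 := congrArg (fun X => (h : Mn)ᵀ * X * (h : Mn)) ha
      simp only [Matrix.mul_smul, Matrix.smul_mul] at e1
      rw [show (h : Mn)ᵀ * (((h⁻¹ : GLn) : Mn)ᵀ * (A : Mn) * ((h⁻¹ : GLn) : Mn)) * (h : Mn) =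
          (((h⁻¹ : GLn) : Mn) * (h : Mn))ᵀ * (A : Mn) * (((h⁻¹ : GLn) : Mn) * (h : Mn)) by
        simp only [Matrix.transpose_mul, Matrix.mul_assoc], ← Units.val_mul, inv_mul_cancel,
        Units.val_one, Matrix.transpose_one, Matrix.one_mul, Matrix.mul_one] at e1
      conv_rhs => rw [e1, smul_smul, ← Units.val_mul, inv_mul_cancel, Units.val_one, one_smul]
    · rintro ⟨c, hc⟩
      refine ⟨c⁻¹, ?_⟩
      have e1 : ((h⁻¹ : GLn) : Mn)ᵀ * ((h : Mn)ᵀ * (A : Mn) * (h : Mn)) * ((h⁻¹ : GLn) : Mn) = (A : Mn) := by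
        rw [show ((h⁻¹ : GLn) : Mn)ᵀ * ((h : Mn)ᵀ * (A : Mn) * (h : Mn)) * ((h⁻¹ : GLn) : Mn) =
            ((h : Mn) * ((h⁻¹ : GLn) : Mn))ᵀ * (A : Mn) * ((h : Mn) * ((h⁻¹ : GLn) : Mn)) by
          simp only [Matrix.transpose_mul, Matrix.mul_assoc], ← Units.val_mul, mul_inv_cancel,
          Units.val_one, Matrix.transpose_one, Matrix.one_mul, Matrix.mul_one]
      rw [hc, Matrix.mul_smul, Matrix.smul_mul] at e1
      conv_rhs => rw [← e1, smul_smul, ← Units.val_mul, inv_mul_cancel, Units.val_one, one_smul]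
  rw [← key, conjHom_apply, mul_inv_eq_iff_eq_mul]
  rfl

omit [Fintype F] in
theorem centralizer_grf (hn : 2 ≤ n) (A : GLn) :
    Nonempty (↥(Cfsg.inndiagPSL n F ⊓ Subgroup.centralizer {grf A}) ≃*
      Cfsg.projQuot (GSim (A : Mn))) := by
  let f : ↥(GSim (A : Mn)) →* ↥(Cfsg.inndiagPSL n F ⊓ Subgroup.centralizer {grf A}) :=
    MonoidHom.mk' (fun h => ⟨conjHom (starGL h.1), by
      refine ⟨?_, ?_⟩
      · show conjHom _ ∈ _
        rw [← range_conjHom]; exact ⟨_, rfl⟩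
      · exact Subgroup.mem_centralizer_singleton_iff.2 ((commute_grf hn A h.1).2 h.2).eq⟩)
      fun a b => Subtype.ext (by
        show conjHom (starGL ((a * b : ↥(GSim (A : Mn))) : GLn)) = _
        rw [Subgroup.coe_mul, starGL_mul, map_mul]; rfl)
  have hsurj : Function.Surjective f := by
    rintro ⟨y, hy, hyc⟩
    rw [SetLike.mem_coe, ← range_conjHom] at hy
    obtain ⟨g, rfl⟩ := hy
    have hg : starGL g ∈ GSim (A : Mn) := (commute_grf hn A _).1 (by
      rw [starGL_starGL]; exact Subgroup.mem_centralizer_singleton_iff.1 hyc)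
    exact ⟨⟨_, hg⟩, Subtype.ext (by show conjHom (starGL (starGL g)) = _; rw [starGL_starGL])⟩
  have hker : f.ker = (Geo.scalars (Fin n) F).subgroupOf (GSim (A : Mn)) := by
    ext h
    rw [MonoidHom.mem_ker, Subgroup.mem_subgroupOf, SimForms.mem_scalars, Subtype.ext_iff]
    show semi (starGL h.1) 1 = 1 ↔ _
    rw [← semi_one, semi_scal hn]
    have hs : ∀ (g : GLn) (a : Fˣ), (g : Mn) = (a : F) • ((1 : GLn) : Mn) → g = sc a := fun g a e =>
      Units.ext (by rw [e, Units.val_one]; show _ = Matrix.scalar (Fin n) (a : F); rw [Matrix.scalar_apply, Matrix.smul_one_eq_diagonal])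
    constructor
    · rintro ⟨a, ha⟩
      refine ⟨a⁻¹, ?_⟩
      have e := congrArg starGL (hs _ _ ha)
      rw [starGL_starGL, starGL_scalar] at e
      rw [e]
      show Matrix.scalar (Fin n) ((a⁻¹ : Fˣ) : F) = _
      rw [Matrix.scalar_apply, Matrix.smul_one_eq_diagonal]
    · rintro ⟨a, ha⟩
      refine ⟨a⁻¹, ?_⟩
      rw [hs (h : GLn) a (by rw [Units.val_one]; exact ha), starGL_scalar]
      show Matrix.scalar (Fin n) ((a⁻¹ : Fˣ) : F) = _
      rw [Matrix.scalar_apply, Units.val_one, Matrix.smul_one_eq_diagonal]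
  exact ⟨((QuotientGroup.quotientMulEquivOfEq hker.symm).trans
    (QuotientGroup.quotientKerEquivOfSurjective f hsurj)).symm⟩

omit [Fintype F] in
theorem det_starGL (g : GLn) :
    Matrix.GeneralLinearGroup.det (starGL g) = (Matrix.GeneralLinearGroup.det g)⁻¹ := by
  rw [← map_inv]
  exact Units.ext (Matrix.det_transpose _)

/-- The number of `PSL`-classes. -/
theorem split_grf (hn : 2 ≤ n) (A : GLn) :
    Cfsg.splitClassCount (Cfsg.inndiagPSL n F) (Cfsg.Inn PSLn) (grf A) =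
      Nat.card (Fˣ ⧸ detSub (A : Mn)) := by
  haveI : (Cfsg.Inn PSLn).Normal := ⟨fun x hx a => by
    obtain ⟨y, rfl⟩ := hx
    exact ⟨a y, MulEquiv.ext fun z => by simp [MulAut.conj_apply, map_mul, map_inv]⟩⟩
  have hpow : (powMonoidHom n : Fˣ →* Fˣ).range ≤ detSub (A : Mn) := by
    rintro _ ⟨a, rfl⟩
    exact ⟨sc a, SimForms.scalar_mem_gsim (A : Mn) a, det_scalar a⟩
  rw [← range_conjHom]
  refine splitClassCount_eq conjHom _ inn_le_range _
    ((QuotientGroup.mk' (detSub (A : Mn))).comp Matrix.GeneralLinearGroup.det)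
    ((QuotientGroup.mk'_surjective _).comp fun u => ⟨diagGL (Function.update (fun _ => 1) ⟨0, by omega⟩ u), by
      rw [det_diagGL, Finset.prod_update_of_mem (Finset.mem_univ _)]; simp⟩) fun g => ?_
  rw [MonoidHom.comp_apply, QuotientGroup.mk'_apply, QuotientGroup.eq_one_iff]
  constructor
  · rintro ⟨h, hh, e⟩
    refine ⟨g * starGL h, (starGL h)⁻¹, ?_, ?_, (mul_inv_cancel_right _ _).symm⟩
    · exact (semi_mem_inn hn _).2 (by rw [map_mul, det_starGL, ← e, mul_inv_cancel]; exact one_mem _)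
    · rw [map_inv]
      exact ((commute_grf hn A h).2 hh).inv_left
  · rintro ⟨s, c, hs, hc, rfl⟩
    rw [map_mul]
    refine mul_mem (hpow ((semi_mem_inn hn s).1 hs)) ?_
    have h1 : starGL c ∈ GSim (A : Mn) := (commute_grf hn A _).1 (by rw [starGL_starGL]; exact hc)
    have h2 := Subgroup.mem_map_of_mem Matrix.GeneralLinearGroup.det h1
    rw [det_starGL] at h2
    have h3 := inv_mem h2
    rwa [inv_inv] at h3

omit [Fintype F] in
/-- A matrix on `Fin n` from a model. -/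
theorem exists_model {ι : Type} [Fintype ι] [DecidableEq ι] (hι : Fintype.card ι = n)
    {M : Matrix ι ι F} (hM : IsUnit M) :
    ∃ A : GLn, Cong (A : Mn) M ∧ (Mᵀ = M → (A : Mn)ᵀ = (A : Mn)) ∧
      (Mᵀ = -M → (A : Mn)ᵀ = -(A : Mn)) := by
  obtain ⟨e⟩ : Nonempty (Fin n ≃ ι) := Fintype.card_eq.1 (by rw [Fintype.card_fin, hι])
  refine ⟨((Matrix.isUnit_submatrix_equiv e e).2 hM).unit, (SimForms.cong_reindex e M).symm, fun h => ?_, fun h => ?_⟩
  · show (M.submatrix e e)ᵀ = _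
    rw [Matrix.transpose_submatrix, h]; rfl
  · show (M.submatrix e e)ᵀ = _
    rw [Matrix.transpose_submatrix, h]; rfl

omit [Fintype F] in
theorem centralizer_of_cong (hn : 2 ≤ n) {A : GLn} {ι : Type} [Fintype ι] [DecidableEq ι]
    {M : Matrix ι ι F} (h : Cong (A : Mn) M) :
    Nonempty (↥(Cfsg.inndiagPSL n F ⊓ Subgroup.centralizer {grf A}) ≃* Cfsg.projQuot (GSim M)) := by
  obtain ⟨e⟩ := centralizer_grf hn A
  obtain ⟨e'⟩ := h.iso
  exact ⟨e.trans e'⟩

end Cfsg.Agent.AutPSL
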