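import Cfsg.Agent.Lib.AutPSL.Stabilizers
import Mathlib.Algebra.Ring.Aut
import Mathlib.LinearAlgebra.Matrix.GeneralLinearGroup.Defs
import Mathlib.GroupTheory.Subgroup.Center

/-!
Standard automorphisms of `PSL_n` and the dichotomy points/hyperplanes.
-/

set_option autoImplicit false

namespace Cfsg.Agent.AutPSL

open Matrix Projectivization MulAction
open scoped LinearAlgebra.Projectivization

variable {F : Type*} [Field F] {n : ℕ}

local notation "Vn" => Fin n → F
local notation "SLn" => Matrix.SpecialLinearGroup (Fin n) F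
local notation "PSLn" => Matrix.ProjectiveSpecialLinearGroup (Fin n) F

/-- An automorphism of `SL` descends to `PSL`. -/
def descend : MulAut SLn →* MulAut PSLn where
  toFun e := QuotientGroup.congr _ _ e (Subgroup.characteristic_iff_map_eq.1 inferInstance e)
  map_one' := MulEquiv.ext fun x => by
    induction x using QuotientGroup.induction_on with | _ s => rfl
  map_mul' a b := MulEquiv.ext fun x => by
    induction x using QuotientGroup.induction_on with | _ s => rfl

@[simp] theorem descend_mk (e : MulAut SLn) (s : SLn) :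
    descend e (QuotientGroup.mk s : PSLn) = QuotientGroup.mk (e s) := rfl

/-- The inverse-transpose automorphism of `SL`. -/
def slInvT : MulAut SLn where
  toFun s := s⁻¹.transpose
  invFun s := s⁻¹.transpose
  left_inv s := Subtype.ext (by
    simp only [Matrix.SpecialLinearGroup.coe_transpose, Matrix.SpecialLinearGroup.coe_inv,
      Matrix.adjugate_transpose, Matrix.transpose_transpose]
    rw [← Matrix.SpecialLinearGroup.coe_inv, ← Matrix.SpecialLinearGroup.coe_inv, inv_inv])
  right_inv s := Subtype.ext (by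
    simp only [Matrix.SpecialLinearGroup.coe_transpose, Matrix.SpecialLinearGroup.coe_inv,
      Matrix.adjugate_transpose, Matrix.transpose_transpose]
    rw [← Matrix.SpecialLinearGroup.coe_inv, ← Matrix.SpecialLinearGroup.coe_inv, inv_inv])
  map_mul' s t := Subtype.ext (by
    simp [Matrix.SpecialLinearGroup.coe_transpose, Matrix.transpose_mul])

theorem slInvT_coe (s : SLn) :
    ((slInvT s : SLn) : Matrix (Fin n) (Fin n) F) =
      ((s⁻¹ : SLn) : Matrix (Fin n) (Fin n) F)ᵀ := rfl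

theorem slInvT_slInvT (s : SLn) : slInvT (slInvT s) = s := slInvT.left_inv s

/-- The inverse-transpose automorphism of `PSL`. -/
def invT : MulAut PSLn := descend slInvT

@[simp] theorem invT_mk (s : SLn) :
    invT (QuotientGroup.mk s : PSLn) = QuotientGroup.mk (slInvT s) := rfl

theorem invT_mul_invT : (invT : MulAut PSLn) * invT = 1 := MulEquiv.ext fun x => by
  induction x using QuotientGroup.induction_on with
  | _ s => simp [slInvT_slInvT]

/-- Conjugation by an invertible matrix composed with a field automorphism applied to the entries. -/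
def slSemi (g : GL (Fin n) F) (σ : F ≃+* F) : MulAut SLn where
  toFun s := ⟨(g : Matrix (Fin n) (Fin n) F) * (s : Matrix (Fin n) (Fin n) F).map σ *
    ((g⁻¹ : GL (Fin n) F) : Matrix (Fin n) (Fin n) F), by
      rw [Matrix.det_units_conj, ← RingEquiv.mapMatrix_apply, ← RingEquiv.map_det, s.2, map_one]⟩
  invFun s := ⟨(((g⁻¹ : GL (Fin n) F) : Matrix (Fin n) (Fin n) F) *
    (s : Matrix (Fin n) (Fin n) F) * (g : Matrix (Fin n) (Fin n) F)).map σ.symm, by
      rw [← RingEquiv.mapMatrix_apply, ← RingEquiv.map_det, Matrix.det_units_conj', s.2, map_one]⟩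
  left_inv s := Subtype.ext (by
    simp [mul_assoc, Matrix.map_map, show ⇑σ.symm ∘ ⇑σ = id from funext σ.symm_apply_apply, Matrix.map_id])
  right_inv s := Subtype.ext (by
    simp [mul_assoc, Matrix.map_map, show ⇑σ ∘ ⇑σ.symm = id from funext σ.apply_symm_apply,
      Matrix.map_id])
  map_mul' s t := Subtype.ext (by
    show (g : Matrix (Fin n) (Fin n) F) * ((s * t : SLn) : Matrix (Fin n) (Fin n) F).map σ *
        ((g⁻¹ : GL (Fin n) F) : Matrix (Fin n) (Fin n) F) =
      ((g : Matrix (Fin n) (Fin n) F) * (s : Matrix (Fin n) (Fin n) F).map σ *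
        ((g⁻¹ : GL (Fin n) F) : Matrix (Fin n) (Fin n) F)) *
      ((g : Matrix (Fin n) (Fin n) F) * (t : Matrix (Fin n) (Fin n) F).map σ *
        ((g⁻¹ : GL (Fin n) F) : Matrix (Fin n) (Fin n) F))
    rw [Matrix.SpecialLinearGroup.coe_mul, Matrix.map_mul]
    simp [mul_assoc])

theorem slSemi_coe (g : GL (Fin n) F) (σ : F ≃+* F) (s : SLn) :
    ((slSemi g σ s : SLn) : Matrix (Fin n) (Fin n) F) = (g : Matrix (Fin n) (Fin n) F) *
      (s : Matrix (Fin n) (Fin n) F).map σ * ((g⁻¹ : GL (Fin n) F) : Matrix (Fin n) (Fin n) F) :=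
  rfl

/-- The automorphism of `PSL` induced by the semilinear map `v ↦ g σ(v)`. -/
def semi (g : GL (Fin n) F) (σ : F ≃+* F) : MulAut PSLn := descend (slSemi g σ)

@[simp] theorem semi_mk (g : GL (Fin n) F) (σ : F ≃+* F) (s : SLn) :
    semi g σ (QuotientGroup.mk s : PSLn) = QuotientGroup.mk (slSemi g σ s) := rfl

theorem semi_mul (g h : GL (Fin n) F) (σ τ : F ≃+* F) :
    semi g σ * semi h τ = (semi (g * Matrix.GeneralLinearGroup.map σ.toRingHom h) (σ * τ) :
      MulAut PSLn) := MulEquiv.ext fun x => by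
  induction x using QuotientGroup.induction_on with
  | _ s =>
    refine congrArg QuotientGroup.mk (Subtype.ext ?_)
    have hval : ∀ u : GL (Fin n) F,
        (Matrix.GeneralLinearGroup.map σ.toRingHom u : Matrix (Fin n) (Fin n) F) =
          (u : Matrix (Fin n) (Fin n) F).map σ := fun u => rfl
    show (g : Matrix (Fin n) (Fin n) F) * ((h : Matrix (Fin n) (Fin n) F) *
        (s : Matrix (Fin n) (Fin n) F).map τ * ((h⁻¹ : GL (Fin n) F) : Matrix (Fin n) (Fin n) F)).map σ *
        ((g⁻¹ : GL (Fin n) F) : Matrix (Fin n) (Fin n) F) =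
      ((g * Matrix.GeneralLinearGroup.map σ.toRingHom h : GL (Fin n) F) : Matrix (Fin n) (Fin n) F) *
        (s : Matrix (Fin n) (Fin n) F).map (σ * τ : F ≃+* F) *
        (((g * Matrix.GeneralLinearGroup.map σ.toRingHom h)⁻¹ : GL (Fin n) F) : Matrix (Fin n) (Fin n) F)
    rw [_root_.mul_inv_rev, ← map_inv, Units.val_mul, Units.val_mul, hval, hval]
    simp only [Matrix.map_mul, Matrix.map_map, mul_assoc]
    rfl

theorem semi_one : (semi 1 1 : MulAut PSLn) = 1 := MulEquiv.ext fun x => by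
  induction x using QuotientGroup.induction_on with
  | _ s => exact congrArg QuotientGroup.mk (Subtype.ext (by simp [slSemi_coe]))

/-- The image of a subspace. -/
abbrev smulW (s : SLn) (W : Submodule F Vn) : Submodule F Vn :=
  W.map (Matrix.mulVecLin (s : Matrix (Fin n) (Fin n) F))

theorem mem_smulW {s : SLn} {W : Submodule F Vn} {v : Vn} :
    v ∈ smulW s W ↔ ((s⁻¹ : SLn) : Matrix (Fin n) (Fin n) F) *ᵥ v ∈ W := by
  constructor
  · rintro ⟨w, hw, rfl⟩
    show ((s⁻¹ : SLn) : Matrix (Fin n) (Fin n) F) *ᵥ (s : Matrix (Fin n) (Fin n) F) *ᵥ w ∈ W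
    rwa [inv_mulVec']
  · exact fun h => ⟨_, h, inv_mulVec s v⟩

theorem mem_Sst_smulW {s u : SLn} {W : Submodule F Vn} :
    u ∈ Sst (smulW s W) ↔ s⁻¹ * u * s ∈ Sst W := by
  constructor
  · intro h v
    have := h ((s : Matrix (Fin n) (Fin n) F) *ᵥ v)
    rwa [mem_smulW, mem_smulW, inv_mulVec', ← coe_mul_mulVec, ← coe_mul_mulVec] at this
  · intro h v
    have := h (((s⁻¹ : SLn) : Matrix (Fin n) (Fin n) F) *ᵥ v)
    rw [mem_smulW, mem_smulW]
    rwa [coe_mul_mulVec, inv_mulVec, coe_mul_mulVec] at this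

theorem smulW_ne_bot {s : SLn} {W : Submodule F Vn} (hW : W ≠ ⊥) : smulW s W ≠ ⊥ := fun h => by
  obtain ⟨v, hv, hv0⟩ := Submodule.exists_mem_ne_zero_of_ne_bot hW
  have : (s : Matrix (Fin n) (Fin n) F) *ᵥ v ∈ smulW s W := ⟨v, hv, rfl⟩
  rw [h, Submodule.mem_bot] at this
  exact hv0 (mulVec_injective s (this.trans (Matrix.mulVec_zero _).symm))

variable [Fintype F]

/-- Up to the inverse-transpose automorphism points go to points. -/
theorem pointsToPoints_or (hn : 2 ≤ n) (β : MulAut PSLn) :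
    PointsToPoints β ∨ (3 ≤ n ∧ PointsToPoints (invT * β)) := by
  have hnt : Nontrivial (Fin n) := Fin.nontrivial_iff_two_le.2 hn
  obtain ⟨x₀, hx₀⟩ : ∃ x₀ : ℙ F Vn, x₀ = Projectivization.mk F (Pi.single ⟨0, by omega⟩ 1)
      (by simp) := ⟨_, rfl⟩
  obtain ⟨W, hW, hW', hβW⟩ := stabImage_eq_Sst hn β x₀
  have htrans : MulAction.IsPretransitive SLn (ℙ F Vn) :=
    MulAction.isPretransitive_of_is_two_pretransitive
  have hW1 : 1 ≤ Module.finrank F W := by
    rw [Nat.one_le_iff_ne_zero, Ne, Submodule.finrank_eq_zero]; exact hW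
  have hWn : Module.finrank F W < n := by
    have := Submodule.finrank_lt hW'
    simpa using this
  by_cases h1 : Module.finrank F W = 1
  · refine Or.inl (pointsToPoints_of_line hn β fun x => ?_)
    obtain ⟨s, rfl⟩ := MulAction.exists_smul_eq SLn x₀ x
    obtain ⟨t, ht⟩ := QuotientGroup.mk_surjective (β (QuotientGroup.mk s))
    refine ⟨t • Projectivization.mk'' W h1, ?_⟩
    ext u
    rw [stabImage_smul β x₀ ht.symm, hβW, show Sst W = MulAction.stabilizer SLn
      (Projectivization.mk'' W h1) by rw [stabilizer_eq_Sst, Projectivization.submodule_mk''],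
      MulAction.mem_stabilizer_iff,
      MulAction.mem_stabilizer_iff, mul_smul, mul_smul, inv_smul_eq_iff]
  by_cases hlast : Module.finrank F W = n - 1
  · refine Or.inr ⟨by omega, pointsToPoints_of_line hn _ fun x => ?_⟩
    obtain ⟨w, hw0, hWw⟩ : ∃ w : Vn, w ≠ 0 ∧ ∀ v, v ∈ W ↔ w ⬝ᵥ v = 0 := by
      obtain ⟨f, hf0, hfW⟩ := Submodule.exists_le_ker_of_lt_top W (lt_top_iff_ne_top.2 hW')
      have hfr : Module.finrank F (LinearMap.ker f) < n := by
        have := Submodule.finrank_lt (s := LinearMap.ker f) (by rwa [Ne, LinearMap.ker_eq_top])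
        simpa using this
      have hker : W = LinearMap.ker f :=
        Submodule.eq_of_le_of_finrank_le hfW (by omega)
      have hfv : ∀ v, (fun k => f (Pi.single k 1)) ⬝ᵥ v = f v := fun v => by
        conv_rhs => rw [pi_eq_sum_univ' v, map_sum]
        simp [dotProduct, map_smul, mul_comm]
      refine ⟨fun k => f (Pi.single k 1), fun h => hf0 (LinearMap.ext fun v => ?_), fun v => ?_⟩
      · rw [← hfv, h, zero_dotProduct, LinearMap.zero_apply]
      · rw [hfv, hker, LinearMap.mem_ker]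
    have hkey : ∀ u : SLn, slInvT u ∈ Sst W ↔
        u ∈ MulAction.stabilizer SLn (Projectivization.mk F w hw0) := by
      intro u
      have hT : ∀ v, w ⬝ᵥ ((slInvT u⁻¹ : SLn) : Matrix (Fin n) (Fin n) F) *ᵥ v =
          ((u : Matrix (Fin n) (Fin n) F) *ᵥ w) ⬝ᵥ v := by
        intro v
        rw [slInvT_coe, inv_inv, Matrix.dotProduct_mulVec, Matrix.vecMul_transpose]
      rw [← (Sst W).inv_mem_iff, ← map_inv, MulAction.mem_stabilizer_iff, smul_mk_eq u hw0,
        Projectivization.mk_eq_mk_iff']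
      constructor
      · intro h
        obtain ⟨k, hk⟩ := Function.ne_iff.1 hw0
        refine ⟨((u : Matrix (Fin n) (Fin n) F) *ᵥ w) k * (w k)⁻¹, funext fun l => ?_⟩
        have hv : w ⬝ᵥ (Pi.single l 1 - (w l * (w k)⁻¹) • Pi.single k 1 : Vn) = 0 := by
          simp [dotProduct_sub, dotProduct_smul, mul_assoc, inv_mul_cancel₀ hk]
        have h2 := (hWw _).1 ((h _).2 ((hWw _).2 hv))
        rw [hT] at h2
        simp [dotProduct_sub, dotProduct_smul, sub_eq_zero] at h2
        rw [h2]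
        simp only [Pi.smul_apply, smul_eq_mul]
        ring
      · rintro ⟨a, ha⟩
        refine mem_Sst_of_forall fun v hv => (hWw _).2 ?_
        rw [hT, ← ha, smul_dotProduct, (hWw v).1 hv, smul_zero]
    obtain ⟨s, rfl⟩ := MulAction.exists_smul_eq SLn x₀ x
    obtain ⟨t, ht⟩ := QuotientGroup.mk_surjective ((invT * β : MulAut PSLn) (QuotientGroup.mk s))
    refine ⟨t • Projectivization.mk F w hw0, ?_⟩
    ext u
    have hinv : ∀ z : PSLn, invT (invT z) = z := fun z => MulEquiv.congr_fun invT_mul_invT z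
    have hbase : ∀ u, u ∈ stabImage (invT * β) x₀ ↔ slInvT u ∈ stabImage β x₀ := by
      intro u
      simp only [stabImage, Subgroup.mem_comap]
      constructor
      · rintro ⟨y, hy, hyu⟩
        refine ⟨y, hy, ?_⟩
        have h := congrArg (invT : MulAut PSLn) hyu
        rw [MulEquiv.coe_toMonoidHom, MulAut.mul_apply, hinv] at h
        exact h
      · rintro ⟨y, hy, hyu⟩
        refine ⟨y, hy, ?_⟩
        rw [MulEquiv.coe_toMonoidHom] at hyu ⊢
        rw [MulAut.mul_apply, hyu]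
        exact congrArg QuotientGroup.mk (slInvT_slInvT u)
    rw [stabImage_smul _ x₀ ht.symm, hbase, hβW, hkey, MulAction.mem_stabilizer_iff,
      MulAction.mem_stabilizer_iff, mul_smul, mul_smul, inv_smul_eq_iff]
  exfalso
  -- four vectors witnessing two kinds of position
  obtain ⟨w, w', c, c', hw, hw', hWC, hli⟩ : ∃ w w' c c' : Vn, w ∈ W ∧ w' ∈ W ∧
      (∀ a b : F, a • c + b • c' ∈ W → a = 0 ∧ b = 0) ∧
      LinearIndependent F ![w, w', c, c'] := by
    obtain ⟨C, hC⟩ := W.exists_isCompl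
    have hdim : Module.finrank F W + Module.finrank F C = n := by
      rw [Submodule.finrank_add_eq_of_isCompl hC, Module.finrank_fin_fun]
    obtain ⟨f, hf⟩ : ∃ f : Fin 2 → W, LinearIndependent F f :=
      exists_linearIndependent_of_le_finrank (by omega)
    obtain ⟨g, hg⟩ : ∃ g : Fin 2 → C, LinearIndependent F g :=
      exists_linearIndependent_of_le_finrank (by omega)
    refine ⟨f 0, f 1, g 0, g 1, (f 0).2, (f 1).2, fun a b h => ?_, ?_⟩
    · have hm : a • (g 0 : Vn) + b • (g 1 : Vn) ∈ W ⊓ C :=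
        ⟨h, C.add_mem (C.smul_mem _ (g 0).2) (C.smul_mem _ (g 1).2)⟩
      rw [hC.disjoint.eq_bot, Submodule.mem_bot] at hm
      have h01 := Fintype.linearIndependent_iff.1 hg ![a, b]
        (Subtype.ext (by simpa [Fin.sum_univ_two] using hm))
      exact ⟨h01 0, h01 1⟩
    rw [Fintype.linearIndependent_iff]
    intro a ha
    simp [Fin.sum_univ_four] at ha
    have hmem : (a 0 • (f 0 : Vn) + a 1 • (f 1 : Vn)) ∈ W ⊓ C := by
      refine ⟨W.add_mem (W.smul_mem _ (f 0).2) (W.smul_mem _ (f 1).2), ?_⟩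
      have : a 0 • (f 0 : Vn) + a 1 • (f 1 : Vn) = -(a 2 • (g 0 : Vn) + a 3 • (g 1 : Vn)) := by
        linear_combination (norm := module) ha
      rw [this]
      exact C.neg_mem (C.add_mem (C.smul_mem _ (g 0).2) (C.smul_mem _ (g 1).2))
    rw [hC.disjoint.eq_bot, Submodule.mem_bot] at hmem
    have h01 := Fintype.linearIndependent_iff.1 hf ![a 0, a 1]
      (Subtype.ext (by simpa [Fin.sum_univ_two] using hmem))
    have hg' : a 2 • (g 0 : Vn) + a 3 • (g 1 : Vn) = 0 := by
      linear_combination (norm := module) ha - hmem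
    have h23 := Fintype.linearIndependent_iff.1 hg ![a 2, a 3]
      (Subtype.ext (by simpa [Fin.sum_univ_two] using hg'))
    intro i
    fin_cases i
    exacts [h01 0, h01 1, h23 0, h23 1]
  obtain ⟨φ, hφ⟩ := exists_dotProduct hli ![1, 0, 0, 0]
  obtain ⟨ψ, hψ⟩ := exists_dotProduct hli ![0, 1, 0, 0]
  obtain ⟨t₁, ht₁⟩ := exists_transvection c φ (by simpa using hφ 2)
  obtain ⟨t', ht'⟩ := exists_transvection c' ψ (by simpa using hψ 3)
  have hmap₁ : ∀ v, v ∈ W → (v ∈ smulW t₁ W ↔ φ ⬝ᵥ v = 0) := by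
    intro v hv
    rw [mem_smulW]
    have h : ((t₁⁻¹ : SLn) : Matrix (Fin n) (Fin n) F) *ᵥ v = v - (φ ⬝ᵥ v) • c := by
      apply mulVec_injective t₁
      show (t₁ : Matrix (Fin n) (Fin n) F) *ᵥ _ = (t₁ : Matrix (Fin n) (Fin n) F) *ᵥ _
      rw [inv_mulVec, ht₁]
      simp only [dotProduct_sub, dotProduct_smul, show φ ⬝ᵥ c = 0 by simpa using hφ 2]
      simp
    rw [h, W.sub_mem_iff_right hv]
    exact ⟨fun h => (hWC (φ ⬝ᵥ v) 0 (by simpa using h)).1, fun h => by simp [h]⟩
  obtain ⟨t₂, ht₂⟩ : ∃ t₂, t₂ = t' * t₁ := ⟨_, rfl⟩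
  have hmap₂ : ∀ v, v ∈ W → (v ∈ smulW t₂ W ↔ φ ⬝ᵥ v = 0 ∧ ψ ⬝ᵥ v = 0) := by
    intro v hv
    rw [mem_smulW]
    have h : ((t₂⁻¹ : SLn) : Matrix (Fin n) (Fin n) F) *ᵥ v =
        v - (φ ⬝ᵥ v) • c - (ψ ⬝ᵥ v) • c' := by
      apply mulVec_injective t₂
      simp only [inv_mulVec]
      rw [ht₂, coe_mul_mulVec, ht₁, ht']
      simp [dotProduct_sub, dotProduct_smul, dotProduct_add,
        show φ ⬝ᵥ c = 0 by simpa using hφ 2, show φ ⬝ᵥ c' = 0 by simpa using hφ 3,
        show ψ ⬝ᵥ c = 0 by simpa using hψ 2, show ψ ⬝ᵥ c' = 0 by simpa using hψ 3]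
      module
    rw [h, sub_sub, W.sub_mem_iff_right hv]
    exact ⟨fun h => hWC _ _ h, fun h => by simp [h.1, h.2]⟩
  obtain ⟨y₁, hy₁⟩ := QuotientGroup.mk_surjective (β.symm (QuotientGroup.mk t₁))
  obtain ⟨y₂, hy₂⟩ := QuotientGroup.mk_surjective (β.symm (QuotientGroup.mk t₂))
  have him : ∀ (y t : SLn), QuotientGroup.mk y = β.symm (QuotientGroup.mk t) →
      stabImage β (y • x₀) = Sst (smulW t W) := by
    intro y t h
    ext u
    rw [stabImage_smul β x₀ (t := t) (by rw [h, MulEquiv.apply_symm_apply]), hβW, mem_Sst_smulW]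
  have hne : ∀ (y t : SLn), QuotientGroup.mk y = β.symm (QuotientGroup.mk t) →
      smulW t W ≠ W → y • x₀ ≠ x₀ := by
    intro y t h hd he
    have := him y t h
    rw [he, hβW] at this
    exact hd (Sst_injective (smulW_ne_bot hW) hW this.symm)
  have hd₁ : smulW t₁ W ≠ W := fun h => by
    have := (hmap₁ w hw).1 (by rw [h]; exact hw)
    simp [show φ ⬝ᵥ w = 1 by simpa using hφ 0] at this
  have hd₂ : smulW t₂ W ≠ W := fun h => by
    have := ((hmap₂ w hw).1 (by rw [h]; exact hw)).1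
    simp [show φ ⬝ᵥ w = 1 by simpa using hφ 0] at this
  obtain ⟨s, hs0, hs⟩ : ∃ s : SLn, s • x₀ = x₀ ∧ s • (y₁ • x₀) = y₂ • x₀ :=
    MulAction.is_two_pretransitive_iff.1 inferInstance (hne y₁ t₁ hy₁ hd₁).symm
      (hne y₂ t₂ hy₂ hd₂).symm
  obtain ⟨t, ht⟩ := QuotientGroup.mk_surjective (β (QuotientGroup.mk s))
  have htW : t ∈ Sst W := by
    rw [← hβW, stabImage, Subgroup.mem_comap, QuotientGroup.mk'_apply, ht]
    exact ⟨_, ⟨s, hs0, rfl⟩, rfl⟩
  have h2 : smulW t (smulW t₁ W) = smulW t₂ W := by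
    refine Sst_injective (smulW_ne_bot (smulW_ne_bot hW)) (smulW_ne_bot hW) ?_
    ext u
    rw [mem_Sst_smulW, ← him y₁ t₁ hy₁, ← stabImage_smul β _ ht.symm, hs, him y₂ t₂ hy₂]
  have hle : Module.finrank F (W ⊓ smulW t₂ W : Submodule F Vn) <
      Module.finrank F (W ⊓ smulW t₁ W : Submodule F Vn) := by
    refine Submodule.finrank_lt_finrank_of_lt (lt_of_le_of_ne (fun v hv => ?_) fun h => ?_)
    · exact ⟨hv.1, (hmap₁ v hv.1).2 ((hmap₂ v hv.1).1 hv.2).1⟩
    · have : w' ∈ W ⊓ smulW t₁ W := ⟨hw', (hmap₁ w' hw').2 (by simpa using hφ 1)⟩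
      rw [← h] at this
      have := ((hmap₂ w' hw').1 this.2).2
      simp [show ψ ⬝ᵥ w' = 1 by simpa using hψ 1] at this
  have heq : (W ⊓ smulW t₂ W : Submodule F Vn) = smulW t (W ⊓ smulW t₁ W) := by
    ext v
    rw [mem_smulW, Submodule.mem_inf, Submodule.mem_inf, ← h2, mem_smulW]
    rw [(Sst W).inv_mem htW v]
  rw [heq, (LinearEquiv.finrank_eq (Submodule.equivMapOfInjective _ (mulVec_injective t) _)).symm]
    at hle
  exact lt_irrefl _ hle

end Cfsg.Agent.AutPSL
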