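import Cfsg.Agent.Lib.AutPSL.Automorphisms

/-!
The permutation of points attached to an automorphism preserves lines; normalisation of a frame.
-/

set_option autoImplicit false

namespace Cfsg.Agent.AutPSL

open Matrix Projectivization MulAction
open scoped LinearAlgebra.Projectivization

variable {F : Type*} [Field F] {n : ℕ}

local notation "Vn" => Fin n → F
local notation "SLn" => Matrix.SpecialLinearGroup (Fin n) F
local notation "PSLn" => Matrix.ProjectiveSpecialLinearGroup (Fin n) F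

/-- `z` lies on the line through `x` and `y`. -/
def OnLine (x y z : ℙ F Vn) : Prop := z.rep ∈ Submodule.span F ({x.rep, y.rep} : Set Vn)

/-- The class of a non-zero vector. -/
abbrev pt (v : Vn) (hv : v ≠ 0) : ℙ F Vn := Projectivization.mk F v hv

theorem exists_rep_smul (v : Vn) (hv : v ≠ 0) : ∃ a : F, a ≠ 0 ∧ (pt v hv).rep = a • v := by
  obtain ⟨a, ha⟩ := (Projectivization.mk_eq_mk_iff' F _ v (pt v hv).rep_nonzero hv).1
    ((pt v hv).mk_rep)
  refine ⟨a, fun h => (pt v hv).rep_nonzero ?_, ha.symm⟩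
  rw [← ha, h, zero_smul]

theorem mem_span_pair_smul {u v w : Vn} {a b c : F} (ha : a ≠ 0) (hb : b ≠ 0) (hc : c ≠ 0) :
    c • w ∈ Submodule.span F ({a • u, b • v} : Set Vn) ↔
      ∃ x y : F, x • u + y • v = w := by
  rw [Submodule.mem_span_pair]
  constructor
  · rintro ⟨x, y, h⟩
    refine ⟨c⁻¹ * (x * a), c⁻¹ * (y * b), ?_⟩
    rw [← smul_smul, ← smul_smul c⁻¹, ← smul_add, ← smul_smul x, ← smul_smul y, h, smul_smul,
      inv_mul_cancel₀ hc, one_smul]
  · rintro ⟨x, y, rfl⟩
    refine ⟨c * x * a⁻¹, c * y * b⁻¹, ?_⟩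
    rw [smul_smul, smul_smul, smul_add, smul_smul, smul_smul, mul_assoc (c * x),
      inv_mul_cancel₀ ha, mul_assoc (c * y), inv_mul_cancel₀ hb, mul_one, mul_one]

theorem onLine_mk {u v w : Vn} (hu : u ≠ 0) (hv : v ≠ 0) (hw : w ≠ 0) :
    OnLine (pt u hu) (pt v hv) (pt w hw) ↔ ∃ a b : F, a • u + b • v = w := by
  obtain ⟨a, ha, ha'⟩ := exists_rep_smul u hu
  obtain ⟨b, hb, hb'⟩ := exists_rep_smul v hv
  obtain ⟨c, hc, hc'⟩ := exists_rep_smul w hw
  rw [OnLine, ha', hb', hc', mem_span_pair_smul ha hb hc]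

theorem pt_eq_iff {v w : Vn} (hv : v ≠ 0) (hw : w ≠ 0) :
    pt v hv = pt w hw ↔ ∃ a : F, a • w = v := Projectivization.mk_eq_mk_iff' F _ _ _ _

variable [Fintype F]

theorem orbit_on_line {x y z : ℙ F Vn} (hz : OnLine x y z) (hzx : z ≠ x) (hzy : z ≠ y) :
    Nat.card {w : ℙ F Vn | ∃ s : SLn, s • x = x ∧ s • y = y ∧ s • z = w} ≤ Fintype.card F - 1 := by
  induction x using Projectivization.ind with | _ u hu =>
  induction y using Projectivization.ind with | _ v hv =>
  induction z using Projectivization.ind with | _ w hw =>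
  obtain ⟨a, b, rfl⟩ := (onLine_mk hu hv hw).1 hz
  have ha : a ≠ 0 := by rintro rfl; exact hzy ((pt_eq_iff hw hv).2 ⟨b, by simp⟩)
  have hb : b ≠ 0 := by rintro rfl; exact hzx ((pt_eq_iff hw hu).2 ⟨a, by simp⟩)
  have hne : ∀ c : Fˣ, a • u + ((c : F) * b) • v ≠ 0 := by
    intro c h
    apply hzy
    refine (pt_eq_iff hw hv).2 ⟨b - (c : F) * b, ?_⟩
    rw [sub_smul, eq_comm, ← sub_eq_zero]
    linear_combination (norm := module) h
  let f : Fˣ → ℙ F Vn := fun c => pt (a • u + ((c : F) * b) • v) (hne c)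
  have hsub : {w' : ℙ F Vn | ∃ s : SLn, s • pt u hu = pt u hu ∧ s • pt v hv = pt v hv ∧
      s • pt (a • u + b • v) hw = w'} ⊆ Set.range f := by
    rintro w' ⟨s, hsu, hsv, rfl⟩
    rw [smul_mk_eq s hu, pt, Projectivization.mk_eq_mk_iff'] at hsu
    rw [smul_mk_eq s hv, pt, Projectivization.mk_eq_mk_iff'] at hsv
    obtain ⟨c, hc⟩ := hsu
    obtain ⟨d, hd⟩ := hsv
    have hc0 : c ≠ 0 := by
      rintro rfl
      exact hu (mulVec_injective s (by simp only [← hc, zero_smul, Matrix.mulVec_zero]))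
    have hd0 : d ≠ 0 := by
      rintro rfl
      exact hv (mulVec_injective s (by simp only [← hd, zero_smul, Matrix.mulVec_zero]))
    refine ⟨Units.mk0 (d / c) (div_ne_zero hd0 hc0), ?_⟩
    show pt _ _ = _
    rw [smul_mk_eq s hw, pt_eq_iff]
    refine ⟨c⁻¹, ?_⟩
    rw [Matrix.mulVec_add, Matrix.mulVec_smul, Matrix.mulVec_smul, ← hc, ← hd, smul_add, smul_smul,
      smul_smul, smul_smul, smul_smul, Units.val_mk0]
    congr 2
    · field_simp
    · field_simp
  calc Nat.card {w' : ℙ F Vn | ∃ s : SLn, s • pt u hu = pt u hu ∧ s • pt v hv = pt v hv ∧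
        s • pt (a • u + b • v) hw = w'} ≤ Nat.card (Set.range f) :=
        Nat.card_mono (Set.toFinite _) hsub
    _ ≤ Nat.card Fˣ := Finite.card_range_le f
    _ = Fintype.card F - 1 := by rw [Nat.card_units, Nat.card_eq_fintype_card]

theorem orbit_off_line {x y z : ℙ F Vn} (hxy : x ≠ y) (hz : ¬ OnLine x y z) :
    Fintype.card F ≤ Nat.card {w : ℙ F Vn | ∃ s : SLn, s • x = x ∧ s • y = y ∧ s • z = w} := by
  induction x using Projectivization.ind with | _ u hu =>
  induction y using Projectivization.ind with | _ v hv =>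
  induction z using Projectivization.ind with | _ w hw =>
  rw [onLine_mk hu hv hw] at hz
  push Not at hz
  have hli : LinearIndependent F ![u, v, w] := by
    rw [Fintype.linearIndependent_iff]
    intro c hc
    simp [Fin.sum_univ_three] at hc
    have h2 : c 2 = 0 := by
      by_contra h2
      refine hz (-(c 2)⁻¹ * c 0) (-(c 2)⁻¹ * c 1) ?_
      calc (-(c 2)⁻¹ * c 0) • u + (-(c 2)⁻¹ * c 1) • v
          = -(c 2)⁻¹ • (c 0 • u + c 1 • v + c 2 • w) + ((c 2)⁻¹ * c 2) • w := by module
        _ = w := by rw [hc, smul_zero, zero_add, inv_mul_cancel₀ h2, one_smul]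
    rw [h2, zero_smul, add_zero] at hc
    have h1 : c 1 = 0 := by
      by_contra h1
      refine hxy ((pt_eq_iff hu hv).2 ?_)
      rcases eq_or_ne (c 0) 0 with h0 | h0
      · rw [h0, zero_smul, zero_add] at hc
        exact absurd ((smul_eq_zero.1 hc).resolve_left h1) hv
      · refine ⟨-(c 0)⁻¹ * c 1, ?_⟩
        calc (-(c 0)⁻¹ * c 1) • v
            = -(c 0)⁻¹ • (c 0 • u + c 1 • v) + ((c 0)⁻¹ * c 0) • u := by module
          _ = u := by rw [hc, smul_zero, zero_add, inv_mul_cancel₀ h0, one_smul]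
    rw [h1, zero_smul, add_zero] at hc
    have h0 := (smul_eq_zero.1 hc).resolve_right hu
    intro i
    fin_cases i
    exacts [h0, h1, h2]
  obtain ⟨φ, hφ⟩ := exists_dotProduct hli ![0, 0, 1]
  have hne : ∀ a : F, w + a • u ≠ 0 := fun a h => hz (-a) 0 (by
    linear_combination (norm := module) -h)
  let f : F → ℙ F Vn := fun a => pt (w + a • u) (hne a)
  have hinj : Function.Injective f := by
    intro a b hab
    obtain ⟨c, hc⟩ := (pt_eq_iff _ _).1 hab
    have h := congrArg (φ ⬝ᵥ ·) hc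
    simp [dotProduct_add, dotProduct_smul, show φ ⬝ᵥ u = 0 by simpa using hφ 0,
      show φ ⬝ᵥ w = 1 by simpa using hφ 2] at h
    rw [h, one_smul] at hc
    have h' : (b - a) • u = 0 := by linear_combination (norm := module) hc
    exact (sub_eq_zero.1 ((smul_eq_zero.1 h').resolve_right hu)).symm
  have hsub : Set.range f ⊆
      {w' : ℙ F Vn | ∃ s : SLn, s • pt u hu = pt u hu ∧ s • pt v hv = pt v hv ∧
        s • pt w hw = w'} := by
    rintro _ ⟨a, rfl⟩
    obtain ⟨s, hs⟩ := exists_transvection (a • u) φ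
      (by rw [dotProduct_smul, show φ ⬝ᵥ u = 0 by simpa using hφ 0, smul_zero])
    refine ⟨s, ?_, ?_, ?_⟩
    · rw [smul_mk_eq s hu, pt_eq_iff]
      exact ⟨1, by rw [hs, show φ ⬝ᵥ u = 0 by simpa using hφ 0]; simp⟩
    · rw [smul_mk_eq s hv, pt_eq_iff]
      exact ⟨1, by rw [hs, show φ ⬝ᵥ v = 0 by simpa using hφ 1]; simp⟩
    · rw [smul_mk_eq s hw]
      show _ = pt _ _
      rw [pt_eq_iff]
      exact ⟨1, by rw [hs, show φ ⬝ᵥ w = 1 by simpa using hφ 2]; simp⟩
  calc Fintype.card F = Nat.card (Set.range f) := by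
        rw [Nat.card_range_of_injective hinj, Nat.card_eq_fintype_card]
    _ ≤ _ := Nat.card_mono (Set.toFinite _) hsub

/-- The permutation `π` is compatible with `β`. -/
def Compat (β : MulAut PSLn) (π : Equiv.Perm (ℙ F Vn)) : Prop :=
  ∀ (s t : SLn) (x : ℙ F Vn), β (QuotientGroup.mk s) = QuotientGroup.mk t → π (s • x) = t • π x

theorem compat_orbit {β : MulAut PSLn} {π : Equiv.Perm (ℙ F Vn)} (h : Compat β π) (x y z : ℙ F Vn) :
    Nat.card {w : ℙ F Vn | ∃ s : SLn, s • x = x ∧ s • y = y ∧ s • z = w} =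
      Nat.card {w : ℙ F Vn | ∃ s : SLn, s • π x = π x ∧ s • π y = π y ∧ s • π z = w} := by
  refine Nat.card_congr (π.subtypeEquiv fun w => ?_)
  constructor
  · rintro ⟨s, hx, hy, hz⟩
    obtain ⟨t, ht⟩ := QuotientGroup.mk_surjective (β (QuotientGroup.mk s))
    exact ⟨t, by rw [← h s t x ht.symm, hx], by rw [← h s t y ht.symm, hy],
      by rw [← h s t z ht.symm, hz]⟩
  · rintro ⟨t, hx, hy, hz⟩
    obtain ⟨s, hs⟩ := QuotientGroup.mk_surjective (β.symm (QuotientGroup.mk t))
    have ht : β (QuotientGroup.mk s) = QuotientGroup.mk t := by rw [hs, MulEquiv.apply_symm_apply]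
    exact ⟨s, π.injective (by rw [h s t x ht, hx]), π.injective (by rw [h s t y ht, hy]),
      π.injective (by rw [h s t z ht, hz])⟩

omit [Fintype F] in
theorem onLine_left (x y : ℙ F Vn) : OnLine x y x := Submodule.subset_span (by simp)

omit [Fintype F] in
theorem onLine_right (x y : ℙ F Vn) : OnLine x y y := Submodule.subset_span (by simp)

/-- `π` maps lines to lines. -/
theorem compat_onLine {β : MulAut PSLn} {π : Equiv.Perm (ℙ F Vn)} (h : Compat β π) {x y z : ℙ F Vn} (hxy : x ≠ y) (hz : OnLine x y z) :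
    OnLine (π x) (π y) (π z) := by
  rcases eq_or_ne z x with rfl | hzx
  · exact onLine_left _ _
  rcases eq_or_ne z y with rfl | hzy
  · exact onLine_right _ _
  by_contra hn
  have h1 := orbit_on_line hz hzx hzy
  have h2 := orbit_off_line (π.injective.ne hxy) hn
  rw [compat_orbit h] at h1
  have := Fintype.card_pos (α := F)
  omega

/-- A coordinate point. -/
abbrev ept (k : Fin n) : ℙ F Vn := pt (Pi.single k 1) (Pi.single_ne_zero_iff.2 one_ne_zero)

/-- The images of the coordinate points are not contained in a hyperplane. -/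
theorem compat_span {β : MulAut PSLn} {π : Equiv.Perm (ℙ F Vn)} (h : Compat β π) :
    Submodule.span F (Set.range fun k : Fin n => (π (ept (F := F) k)).rep) = ⊤ := by
  classical
  obtain ⟨H, hH⟩ : ∃ H, H = Submodule.span F (Set.range fun k : Fin n => (π (ept (F := F) k)).rep) :=
    ⟨_, rfl⟩
  have key : ∀ (S : Finset (Fin n)) (v : Vn) (hv : v ≠ 0),
      (∀ k, k ∉ S → v k = 0) → (π (pt v hv)).rep ∈ H := by
    intro S
    induction S using Finset.induction_on with
    | empty =>
      intro v hv h0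
      exact absurd (funext fun k => h0 k (Finset.notMem_empty k)) hv
    | insert a T _ ih =>
      intro v hv h0
      by_cases ha : v a = 0
      · refine ih v hv fun k hk => ?_
        rcases eq_or_ne k a with rfl | hka
        · exact ha
        · exact h0 k (by simp [hka, hk])
      obtain ⟨v', hv'⟩ : ∃ v' : Vn, v' = v - v a • Pi.single a 1 := ⟨_, rfl⟩
      have hea : (Pi.single a (1 : F) : Vn) ≠ 0 := Pi.single_ne_zero_iff.2 one_ne_zero
      have haH : (π (ept (F := F) a)).rep ∈ H := hH ▸ Submodule.subset_span ⟨a, rfl⟩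
      by_cases hv0 : v' = 0
      · have he : pt v hv = ept (F := F) a :=
          (pt_eq_iff hv hea).2 ⟨v a, (sub_eq_zero.1 (hv'.symm.trans hv0)).symm⟩
        rw [he]; exact haH
      · have h1 : (π (pt v' hv0)).rep ∈ H := by
          refine ih v' hv0 fun k hk => ?_
          rcases eq_or_ne k a with rfl | hka
          · simp [hv']
          · simp [hv', hka, h0 k (by simp [hka, hk])]
        have hline : OnLine (pt v' hv0) (ept (F := F) a) (pt v hv) :=
          (onLine_mk hv0 hea hv).2 ⟨1, v a, by rw [hv']; module⟩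
        have hne : pt v' hv0 ≠ ept (F := F) a := by
          intro he
          obtain ⟨c, hc⟩ := (pt_eq_iff hv0 hea).1 he
          apply hv0
          have := congrFun hc a
          rw [hv'] at this
          simp at this
          rw [← hc, this, zero_smul]
        have := compat_onLine h hne hline
        exact Submodule.span_le.2 (by
          intro w hw
          rcases hw with rfl | rfl
          · exact h1
          · exact haH) this
  rw [← hH, eq_top_iff]
  intro v _
  rcases eq_or_ne v 0 with rfl | hv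
  · exact H.zero_mem
  have h1 := key Finset.univ (π.symm (pt v hv)).rep (Projectivization.rep_nonzero _)
    (fun k hk => absurd (Finset.mem_univ k) hk)
  simp only [pt, Projectivization.mk_rep, Equiv.apply_symm_apply] at h1
  obtain ⟨a, ha, ha'⟩ := exists_rep_smul v hv
  rw [show (Projectivization.mk F v hv).rep = a • v from ha'] at h1
  have := H.smul_mem a⁻¹ h1
  rwa [smul_smul, inv_mul_cancel₀ ha, one_smul] at this

theorem compat_semi (g : GL (Fin n) F) {β : MulAut PSLn} {π : Equiv.Perm (ℙ F Vn)} (h : Compat β π) :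
    ∃ π' : Equiv.Perm (ℙ F Vn), Compat (semi g 1 * β) π' ∧
      ∀ (v : Vn) (hv : v ≠ 0) (w : Vn) (hw : w ≠ 0), π (pt v hv) = pt w hw →
        ∀ (hgw : (g : Matrix (Fin n) (Fin n) F) *ᵥ w ≠ 0),
          π' (pt v hv) = pt ((g : Matrix (Fin n) (Fin n) F) *ᵥ w) hgw := by
  have hsm : ∀ (u : GL (Fin n) F) (w : Vn) (hw : w ≠ 0) (hgw : (u : Matrix (Fin n) (Fin n) F) *ᵥ w ≠ 0),
      u • pt w hw = pt ((u : Matrix (Fin n) (Fin n) F) *ᵥ w) hgw := fun u w hw hgw => rfl
  refine ⟨π.trans (MulAction.toPerm g), fun s t x hst => ?_, fun v hv w hw hvw hgw => ?_⟩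
  · obtain ⟨t', ht'⟩ := QuotientGroup.mk_surjective (β (QuotientGroup.mk s))
    have hst' : (semi g 1 : MulAut PSLn) (QuotientGroup.mk t') = QuotientGroup.mk t := by
      rw [ht', ← MulAut.mul_apply, hst]
    rw [semi_mk, QuotientGroup.eq, Matrix.SpecialLinearGroup.mem_center_iff] at hst'
    obtain ⟨r, hr1, hr⟩ := hst'
    have htt : (t : Matrix (Fin n) (Fin n) F) = r • ((g : Matrix (Fin n) (Fin n) F) *
        (t' : Matrix (Fin n) (Fin n) F) * ((g⁻¹ : GL (Fin n) F) : Matrix (Fin n) (Fin n) F)) := by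
      have e : slSemi g 1 t' * ((slSemi g 1 t')⁻¹ * t) = t := mul_inv_cancel_left _ _
      have e' := congrArg (fun u : SLn => (u : Matrix (Fin n) (Fin n) F)) e
      simp only [Matrix.SpecialLinearGroup.coe_mul] at e' hr
      rw [← hr, slSemi_coe] at e'
      rw [← e', Matrix.scalar_apply, ← Matrix.smul_one_eq_diagonal, mul_smul_comm, mul_one,
        show (t' : Matrix (Fin n) (Fin n) F).map (1 : F ≃+* F) = (t' : Matrix (Fin n) (Fin n) F) from
          Matrix.ext fun i j => rfl]
    show g • π (s • x) = t • g • π x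
    rw [h s t' x ht'.symm]
    induction π x using Projectivization.ind with
    | _ w hw =>
      have hr0 : r ≠ 0 := by
        rintro rfl
        rcases Nat.eq_zero_or_pos n with rfl | hpos
        · exact hw (funext fun i => i.elim0)
        · rw [Fintype.card_fin, zero_pow hpos.ne'] at hr1
          exact zero_ne_one hr1
      simp only [smul_mk_eq, Projectivization.smul_mk]
      rw [Projectivization.mk_eq_mk_iff']
      refine ⟨r⁻¹, ?_⟩
      show r⁻¹ • ((t : Matrix (Fin n) (Fin n) F) *ᵥ (g : Matrix (Fin n) (Fin n) F) *ᵥ w) =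
        (g : Matrix (Fin n) (Fin n) F) *ᵥ (t' : Matrix (Fin n) (Fin n) F) *ᵥ w
      rw [htt, Matrix.smul_mulVec, smul_smul, inv_mul_cancel₀ hr0, one_smul,
        Matrix.mulVec_mulVec, mul_assoc, ← Units.val_mul, inv_mul_cancel, Units.val_one, mul_one,
        Matrix.mulVec_mulVec]
  · show g • π (pt v hv) = _
    rw [hvw, hsm g w hw hgw]

/-- Any compatible pair can be normalised on a frame. -/
theorem exists_normalised (hn : 2 ≤ n) {β : MulAut PSLn} {π : Equiv.Perm (ℙ F Vn)} (h : Compat β π) :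
    ∃ (g : GL (Fin n) F) (π' : Equiv.Perm (ℙ F Vn)), Compat (semi g 1 * β) π' ∧
      (∀ k, π' (ept (F := F) k) = ept (F := F) k) ∧
      ∀ (k : Fin n) (_ : k ≠ ⟨0, by omega⟩)
        (hv : (Pi.single (⟨0, by omega⟩ : Fin n) (1 : F) + Pi.single k 1 : Vn) ≠ 0),
        π' (pt _ hv) = pt (Pi.single (⟨0, by omega⟩ : Fin n) (1 : F) + Pi.single k 1) hv := by
  classical
  obtain ⟨o, ho⟩ : ∃ o : Fin n, o = ⟨0, by omega⟩ := ⟨_, rfl⟩
  rw [← ho]
  have hli : LinearIndependent F (fun k : Fin n => (π (ept (F := F) k)).rep) :=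
    linearIndependent_of_top_le_span_of_card_eq_finrank (compat_span h).ge (by simp)
  have hsum : ∀ k, k ≠ o → (Pi.single o 1 + Pi.single k 1 : Vn) ≠ 0 := by
    intro k hk h0
    simpa [hk.symm] using congrFun h0 o
  have hc : ∀ k : Fin n, ∃ c : F, c ≠ 0 ∧ (k = o → c = 1) ∧ ∀ hk : k ≠ o,
      ∃ hw : (π (ept (F := F) o)).rep + c • (π (ept (F := F) k)).rep ≠ 0,
        π (pt _ (hsum k hk)) = pt ((π (ept (F := F) o)).rep + c • (π (ept (F := F) k)).rep) hw := by
    intro k
    by_cases hk : k = o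
    · exact ⟨1, one_ne_zero, fun _ => rfl, fun h' => absurd hk h'⟩
    have hpne : ept (F := F) o ≠ (ept (F := F) k : ℙ F Vn) := by
      intro he
      obtain ⟨a, ha⟩ := (pt_eq_iff _ _).1 he
      simpa [Ne.symm hk] using congrFun ha o
    have hline : OnLine (ept (F := F) o) (ept (F := F) k) (pt _ (hsum k hk)) :=
      (onLine_mk _ _ _).2 ⟨1, 1, by simp⟩
    obtain ⟨a, b, hab⟩ := Submodule.mem_span_pair.1 (compat_onLine h hpne hline)
    have ha : a ≠ 0 := by
      rintro rfl
      rw [zero_smul, zero_add] at hab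
      have he : π (pt _ (hsum k hk)) = π (ept (F := F) k) := by
        rw [← Projectivization.mk_rep (π (pt _ (hsum k hk))), ← Projectivization.mk_rep (π (ept (F := F) k)),
          Projectivization.mk_eq_mk_iff']
        exact ⟨b, hab⟩
      obtain ⟨c, hc⟩ := (pt_eq_iff _ _).1 (π.injective he)
      simpa [Ne.symm hk] using congrFun hc o
    have hb : b ≠ 0 := by
      rintro rfl
      rw [zero_smul, add_zero] at hab
      have he : π (pt _ (hsum k hk)) = π (ept (F := F) o) := by
        rw [← Projectivization.mk_rep (π (pt _ (hsum k hk))), ← Projectivization.mk_rep (π (ept (F := F) o)),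
          Projectivization.mk_eq_mk_iff']
        exact ⟨a, hab⟩
      obtain ⟨c, hc⟩ := (pt_eq_iff _ _).1 (π.injective he)
      simpa [hk] using congrFun hc k
    have hw : (π (ept (F := F) o)).rep + (a⁻¹ * b) • (π (ept (F := F) k)).rep ≠ 0 := by
      intro h0
      apply (π (pt _ (hsum k hk))).rep_nonzero
      rw [← hab, show a • (π (ept (F := F) o)).rep + b • (π (ept (F := F) k)).rep =
        a • ((π (ept (F := F) o)).rep + (a⁻¹ * b) • (π (ept (F := F) k)).rep) by
          rw [smul_add, smul_smul, ← mul_assoc, mul_inv_cancel₀ ha, one_mul], h0, smul_zero]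
    refine ⟨a⁻¹ * b, mul_ne_zero (inv_ne_zero ha) hb, fun h' => absurd h' hk, fun _ => ⟨hw, ?_⟩⟩
    rw [← Projectivization.mk_rep (π (pt _ (hsum k hk))), Projectivization.mk_eq_mk_iff']
    refine ⟨a, ?_⟩
    rw [← hab, smul_add, smul_smul, ← mul_assoc, mul_inv_cancel₀ ha, one_mul]
  choose c hc0 hco hcπ using hc
  have hli' : LinearIndependent F (fun k : Fin n => c k • (π (ept (F := F) k)).rep) := by
    exact hli.units_smul fun k => Units.mk0 (c k) (hc0 k)
  have hu : IsUnit (Matrix.of fun i k => c k * (π (ept (F := F) k)).rep i) :=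
    Matrix.linearIndependent_cols_iff_isUnit.1 hli'
  obtain ⟨A, hA⟩ := hu
  have hAk : ∀ k, (A : Matrix (Fin n) (Fin n) F) *ᵥ Pi.single k 1 = c k • (π (ept (F := F) k)).rep := by
    intro k
    rw [hA]
    ext i
    simp [Matrix.mulVec_single_one]
  have hback : ∀ v, ((A⁻¹ : GL (Fin n) F) : Matrix (Fin n) (Fin n) F) *ᵥ
      (A : Matrix (Fin n) (Fin n) F) *ᵥ v = v := by
    intro v
    rw [Matrix.mulVec_mulVec, ← Units.val_mul, inv_mul_cancel, Units.val_one, Matrix.one_mulVec]
  obtain ⟨π', hπ', hπ'pt⟩ := compat_semi A⁻¹ h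
  refine ⟨A⁻¹, π', hπ', fun k => ?_, fun k hk hv => ?_⟩
  · have hw : c k • (π (ept (F := F) k)).rep ≠ 0 :=
      smul_ne_zero (hc0 k) (Projectivization.rep_nonzero _)
    have he : π (ept (F := F) k) = pt (c k • (π (ept (F := F) k)).rep) hw := by
      conv_lhs => rw [← Projectivization.mk_rep (π (ept (F := F) k))]
      rw [Projectivization.mk_eq_mk_iff']
      exact ⟨(c k)⁻¹, by rw [smul_smul, inv_mul_cancel₀ (hc0 k), one_smul]⟩
    rw [hπ'pt _ _ _ hw he (by rw [← hAk, hback]; exact Pi.single_ne_zero_iff.2 one_ne_zero)]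
    simp only [pt, ← hAk, hback]
  · obtain ⟨hw, hwe⟩ := hcπ k hk
    have hsumA : (π (ept (F := F) o)).rep + c k • (π (ept (F := F) k)).rep =
        (A : Matrix (Fin n) (Fin n) F) *ᵥ (Pi.single o 1 + Pi.single k 1) := by
      rw [Matrix.mulVec_add, hAk, hAk, hco o rfl, one_smul]
    rw [hπ'pt _ _ _ hw hwe (by rw [hsumA, hback]; exact hv)]
    simp only [pt, hsumA, hback]

end Cfsg.Agent.AutPSL
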