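import Cfsg.Agent.Lib.AutPSL.Collineation
import Mathlib.Algebra.CharP.Lemmas
import Mathlib.FieldTheory.Finite.Basic

/-!
Every automorphism of `PSL_n` over a finite field is induced by a semilinear map, possibly composed
with the inverse-transpose automorphism.
-/

set_option autoImplicit false

namespace Cfsg.Agent.AutPSL

open Matrix Projectivization MulAction
open scoped LinearAlgebra.Projectivization commutatorElement

variable {F : Type*} [Field F] {n : ℕ}

local notation "Vn" => Fin n → F
local notation "Mn" => Matrix (Fin n) (Fin n) F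
local notation "SLn" => Matrix.SpecialLinearGroup (Fin n) F
local notation "PSLn" => Matrix.ProjectiveSpecialLinearGroup (Fin n) F

/-- A root element of `PSL`. -/
def X {i j : Fin n} (hij : i ≠ j) (a : F) : PSLn :=
  QuotientGroup.mk (Matrix.SpecialLinearGroup.transvection hij a)

theorem X_add {i j : Fin n} (hij : i ≠ j) (a b : F) :
    (X hij (a + b) : PSLn) = X hij a * X hij b := by
  rw [X, X, X, ← QuotientGroup.mk_mul, ← Matrix.SpecialLinearGroup.transvection_add]

theorem transvection_mulVec {i j : Fin n} (hij : i ≠ j) (a : F) (v : Vn) :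
    ((Matrix.SpecialLinearGroup.transvection hij a : SLn) : Mn) *ᵥ v =
      v + (a * v j) • Pi.single i 1 := by
  rw [Matrix.SpecialLinearGroup.transvection_coe, Matrix.add_mulVec, Matrix.one_mulVec]
  congr 1
  ext k
  simp [Matrix.single_mulVec, Function.update_apply, Pi.single_apply]

theorem mk_eq_mk_of_smul {s t : SLn} {c : F} (h : (t : Mn) = c • (s : Mn)) :
    (QuotientGroup.mk t : PSLn) = QuotientGroup.mk s := by
  rw [eq_comm, QuotientGroup.eq, Matrix.SpecialLinearGroup.mem_center_iff]
  refine ⟨c, ?_, ?_⟩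
  · have := t.2
    rw [h, Matrix.det_smul, s.2, mul_one] at this
    exact this
  · rw [Matrix.SpecialLinearGroup.coe_mul, h, mul_smul_comm, ← Matrix.SpecialLinearGroup.coe_mul,
      inv_mul_cancel, Matrix.SpecialLinearGroup.coe_one, Matrix.scalar_apply,
      Matrix.smul_one_eq_diagonal]

theorem exists_smul_of_mk_eq {s t : SLn} (h : (QuotientGroup.mk t : PSLn) = QuotientGroup.mk s) :
    ∃ c : F, c ^ n = 1 ∧ (t : Mn) = c • (s : Mn) := by
  rw [eq_comm, QuotientGroup.eq, Matrix.SpecialLinearGroup.mem_center_iff] at h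
  obtain ⟨c, hc, hc'⟩ := h
  rw [Fintype.card_fin] at hc
  refine ⟨c, hc, ?_⟩
  have e : s * (s⁻¹ * t) = t := mul_inv_cancel_left _ _
  have e' := congrArg (fun u : SLn => (u : Mn)) e
  simp only [Matrix.SpecialLinearGroup.coe_mul] at e' hc'
  rw [← e', ← hc', Matrix.scalar_apply, ← Matrix.smul_one_eq_diagonal, mul_smul_comm, mul_one]

theorem X_injective {i j : Fin n} (hij : i ≠ j) : Function.Injective (X (F := F) hij) := by
  intro a b h
  obtain ⟨c, -, hc⟩ := exists_smul_of_mk_eq (F := F) (n := n) h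
  have h1 := congrFun (congrFun hc i) i
  have h2 := congrFun (congrFun hc i) j
  simp [Matrix.SpecialLinearGroup.transvection_coe, hij.symm, hij] at h1 h2
  rw [← h1, one_mul] at h2
  exact h2

theorem mk_smul (s : SLn) (x : ℙ F Vn) :
    (QuotientGroup.mk s : PSLn) • x = s • x := rfl

theorem compat_smul {β : MulAut PSLn} {π : Equiv.Perm (ℙ F Vn)} (h : Compat β π) (u : PSLn)
    (x : ℙ F Vn) : π (u • x) = β u • π x := by
  induction u using QuotientGroup.induction_on with
  | _ s =>
    obtain ⟨t, ht⟩ := QuotientGroup.mk_surjective (β (QuotientGroup.mk s))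
    rw [← ht]
    exact h s t x ht.symm

theorem transvection_smul_pt {i j : Fin n} (hij : i ≠ j) (a : F) :
    (X hij a : PSLn) • ept j = pt (Pi.single j 1 + a • Pi.single i 1 : Vn)
      (fun h => by simpa [hij.symm] using congrFun h j) := by
  rw [X, mk_smul, ept, smul_mk_eq _ (Pi.single_ne_zero_iff.2 one_ne_zero), pt_eq_iff]
  exact ⟨1, by rw [transvection_mulVec, one_smul, Pi.single_eq_same, mul_one]⟩

/-- The sum of two coordinate vectors with coefficient. -/
theorem pair_ne_zero {k l : Fin n} (h : k ≠ l) (ε : F) :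
    (Pi.single k 1 + ε • Pi.single l 1 : Vn) ≠ 0 := fun h0 => by simpa [h] using congrFun h0 k

theorem eq_smul_transvection {i j : Fin n} (hij : i ≠ j) (t : SLn) (c a : F) (hc : c ≠ 0)
    (ht : ∀ k, k ≠ j → (t : Mn) *ᵥ Pi.single k 1 = c • Pi.single k 1)
    (htj : (t : Mn) *ᵥ Pi.single j 1 = a • Pi.single i 1 + c • Pi.single j 1) :
    (QuotientGroup.mk t : PSLn) = X hij (a / c) := by
  refine mk_eq_mk_of_smul (c := c) (Matrix.toLin'.injective (Module.Basis.ext (Pi.basisFun F _) fun k => ?_))
  rw [Pi.basisFun_apply, Matrix.toLin'_apply, Matrix.toLin'_apply, Matrix.smul_mulVec,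
    transvection_mulVec]
  rcases eq_or_ne k j with rfl | hk
  · rw [htj, Pi.single_eq_same, mul_one, smul_add, smul_smul, mul_div_cancel₀ _ hc, add_comm]
  · rw [ht k hk, Pi.single_eq_of_ne hk.symm, mul_zero, zero_smul, add_zero]

variable [Fintype F]

/-- Root groups are preserved, rank at least three. -/
theorem exists_image_X_three (hn : 3 ≤ n) {β : MulAut PSLn} {π : Equiv.Perm (ℙ F Vn)}
    (h : Compat β π) (hfix : ∀ k, π (ept k) = ept k)
    (hpair : ∀ k l : Fin n, ∀ hkl : k ≠ l, ∃ ε : F, (ε = 1 ∨ ε = -1) ∧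
      π (pt _ (pair_ne_zero hkl ε)) = pt _ (pair_ne_zero hkl ε))
    {i j : Fin n} (hij : i ≠ j) (a : F) : ∃ b : F, β (X hij a) = X hij b := by
  obtain ⟨t, ht⟩ := QuotientGroup.mk_surjective (β (X hij a))
  obtain ⟨s, hs⟩ : ∃ s : SLn, s = Matrix.SpecialLinearGroup.transvection hij a := ⟨_, rfl⟩
  have hst : ∀ x, π (s • x) = t • π x := fun x => h s t x (by rw [hs, ht]; rfl)
  have hsv : ∀ v : Vn, (s : Mn) *ᵥ v = v + (a * v j) • Pi.single i 1 := fun v => by
    rw [hs, transvection_mulVec]
  -- fixed points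
  have hfixed : ∀ (v : Vn) (hv : v ≠ 0), v j = 0 → π (pt v hv) = pt v hv →
      ∃ c : F, (t : Mn) *ᵥ v = c • v := by
    intro v hv hvj hπ
    have hx := hst (pt v hv)
    rw [smul_mk_eq s hv] at hx
    rw [hπ, smul_mk_eq t hv] at hx
    simp only [hsv, hvj, mul_zero, zero_smul, add_zero] at hx
    obtain ⟨c, hc⟩ := (pt_eq_iff _ _).1 (hx.symm.trans hπ)
    exact ⟨c, hc.symm⟩
  have hline : ∀ (v : Vn) (hv : v ≠ 0), v j = 1 → v i = 0 → π (pt v hv) = pt v hv →
      ∃ x y : F, (t : Mn) *ᵥ v = x • Pi.single i 1 + y • v := by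
    intro v hv hvj hvi hπ
    have hne : ept i ≠ pt v hv := by
      intro he
      obtain ⟨c, hc⟩ := (pt_eq_iff _ _).1 he
      simpa [hvi] using congrFun hc i
    have hon : OnLine (ept i) (pt v hv) (s • pt v hv) := by
      rw [smul_mk_eq s hv]
      exact (onLine_mk _ _ _).2 ⟨a, 1, by rw [hsv, hvj, mul_one, one_smul, add_comm]⟩
    have := compat_onLine h hne hon
    rw [hst, hfix, hπ, smul_mk_eq t hv] at this
    obtain ⟨x, y, hxy⟩ := (onLine_mk _ _ _).1 this
    exact ⟨x, y, hxy.symm⟩
  have hdiag : ∀ k, ∃ c : F, k ≠ j → (t : Mn) *ᵥ Pi.single k 1 = c • Pi.single k 1 := by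
    intro k
    by_cases hk : k = j
    · exact ⟨0, fun h' => absurd hk h'⟩
    · obtain ⟨c, hc⟩ := hfixed _ (Pi.single_ne_zero_iff.2 one_ne_zero)
        (Pi.single_eq_of_ne (Ne.symm hk) 1) (hfix k)
      exact ⟨c, fun _ => hc⟩
  choose c hc using hdiag
  have hcc : ∀ k, k ≠ j → c k = c i := by
    intro k hk
    rcases eq_or_ne k i with rfl | hki
    · rfl
    obtain ⟨ε, hε, hεπ⟩ := hpair k i hki
    obtain ⟨d, hd⟩ := hfixed _ (pair_ne_zero hki ε) (by simp [Ne.symm hk, hij.symm]) hεπ
    rw [Matrix.mulVec_add, Matrix.mulVec_smul, hc k hk, hc i hij] at hd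
    have h1 := congrFun hd k
    have h2 := congrFun hd i
    simp [hki, hki.symm] at h1 h2
    rcases hε with rfl | rfl <;> simp at h2 <;> rw [h1, ← h2]
  obtain ⟨x, y, hxy⟩ := hline _ (Pi.single_ne_zero_iff.2 one_ne_zero) (Pi.single_eq_same j 1)
    (Pi.single_eq_of_ne hij 1) (hfix j)
  obtain ⟨k, hk⟩ : ∃ k : Fin n, k ∈ ({i, j} : Finset (Fin n))ᶜ := by
    refine Finset.card_pos.1 ?_
    rw [Finset.card_compl, Finset.card_pair hij, Fintype.card_fin]
    omega
  simp only [Finset.mem_compl, Finset.mem_insert, Finset.mem_singleton, not_or] at hk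
  obtain ⟨ε, hε, hεπ⟩ := hpair j k (Ne.symm hk.2)
  obtain ⟨x', y', hxy'⟩ := hline _ (pair_ne_zero (Ne.symm hk.2) ε) (by simp [Ne.symm hk.2])
    (by simp [hij, Ne.symm hk.1]) hεπ
  rw [Matrix.mulVec_add, Matrix.mulVec_smul, hxy, hc k hk.2, hcc k hk.2] at hxy'
  have h1 := congrFun hxy' j
  have h2 := congrFun hxy' k
  simp [hij.symm, hk.1, hk.2, Ne.symm hk.2] at h1 h2
  have hy : y = c i := by rcases hε with rfl | rfl <;> simp at h2 <;> rw [h1, h2]
  have hci : c i ≠ 0 := by
    intro h0
    have h' := hc i hij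
    rw [h0, zero_smul] at h'
    have := mulVec_injective t (h'.trans (Matrix.mulVec_zero _).symm)
    simpa using congrFun this i
  refine ⟨x / c i, ?_⟩
  rw [← ht]
  exact eq_smul_transvection hij t (c i) x hci (fun k hk => by rw [hc k hk, hcc k hk])
    (by rw [hxy, hy])

/-- Root groups are preserved, rank two. -/
theorem exists_image_X_two (hn : n = 2) {β : MulAut PSLn} {π : Equiv.Perm (ℙ F Vn)}
    (h : Compat β π) (hfix : ∀ k, π (ept k) = ept k)
    {i j : Fin n} (hij : i ≠ j) (a : F) : ∃ b : F, β (X hij a) = X hij b := by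
  obtain ⟨p, hchar⟩ := CharP.exists F
  obtain ⟨a', hp, -⟩ := FiniteField.card F p
  have : Fact p.Prime := ⟨hp⟩
  have hcase : ∀ k : Fin n, k = i ∨ k = j := by
    intro k
    by_contra hk
    push Not at hk
    have := Finset.card_le_univ ({i, j, k} : Finset (Fin n))
    rw [Finset.card_eq_three.2 ⟨i, j, k, hij, hk.1.symm, hk.2.symm, rfl⟩, Fintype.card_fin, hn] at this
    omega
  obtain ⟨t, ht⟩ := QuotientGroup.mk_surjective (β (X hij a))
  have hst : π ((X hij a : PSLn) • ept i) = (QuotientGroup.mk t : PSLn) • π (ept i) := by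
    rw [compat_smul h, ht]
  have hsi : (X hij a : PSLn) • (ept i : ℙ F Vn) = ept i := by
    rw [X, mk_smul, ept, smul_mk_eq _ (Pi.single_ne_zero_iff.2 one_ne_zero), pt_eq_iff]
    exact ⟨1, by rw [transvection_mulVec, Pi.single_eq_of_ne hij.symm, mul_zero, zero_smul,
      add_zero, one_smul]⟩
  rw [hsi, hfix, mk_smul, ept, smul_mk_eq t (Pi.single_ne_zero_iff.2 one_ne_zero), eq_comm,
    pt_eq_iff] at hst
  obtain ⟨c, hc⟩ := hst
  obtain ⟨μ, hμ⟩ : ∃ μ, μ = ((t : Mn) *ᵥ Pi.single j 1) j := ⟨_, rfl⟩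
  obtain ⟨b, hb⟩ : ∃ b, b = ((t : Mn) *ᵥ Pi.single j 1) i := ⟨_, rfl⟩
  have htj : (t : Mn) *ᵥ Pi.single j 1 = b • Pi.single i 1 + μ • Pi.single j 1 := by
    ext k
    rcases hcase k with rfl | rfl <;> simp [hb, hμ, hij, hij.symm]
  -- the `p`-th power is scalar
  have hXp : (X hij a : PSLn) ^ p = 1 := by
    have hm : ∀ m : ℕ, (X hij a : PSLn) ^ m = X hij (m * a) := by
      intro m
      induction m with
      | zero => simp [X, Matrix.SpecialLinearGroup.transvection_coeff_zero hij]
      | succ m ih => rw [pow_succ, ih, ← X_add]; congr 1; push_cast; ring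
    rw [hm, CharP.cast_eq_zero F p, zero_mul, X,
      Matrix.SpecialLinearGroup.transvection_coeff_zero hij, QuotientGroup.mk_one]
  have htp : (QuotientGroup.mk (t ^ p) : PSLn) = QuotientGroup.mk (1 : SLn) := by
    rw [QuotientGroup.mk_pow, ht, ← map_pow, hXp, map_one, QuotientGroup.mk_one]
  obtain ⟨d, -, hd⟩ := exists_smul_of_mk_eq htp
  have hpi : ∀ m : ℕ, ((t ^ m : SLn) : Mn) *ᵥ Pi.single i 1 = c ^ m • Pi.single i 1 := by
    intro m
    induction m with
    | zero => rw [pow_zero, pow_zero, Matrix.SpecialLinearGroup.coe_one, Matrix.one_mulVec, one_smul]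
    | succ m ih => rw [pow_succ', coe_mul_mulVec, ih, Matrix.mulVec_smul, ← hc, smul_smul, pow_succ]
  have hpj : ∀ m : ℕ, (((t ^ m : SLn) : Mn) *ᵥ Pi.single j 1) j = μ ^ m := by
    intro m
    induction m with
    | zero => simp
    | succ m ih =>
      rw [pow_succ, coe_mul_mulVec, htj, Matrix.mulVec_add, Matrix.mulVec_smul, Matrix.mulVec_smul,
        hpi, pow_succ, Pi.add_apply, Pi.smul_apply, Pi.smul_apply, Pi.smul_apply, ih]
      simp [hij.symm, mul_comm]
  have e1 := congrFun (hpi p) i
  have e2 := hpj p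
  rw [hd, Matrix.SpecialLinearGroup.coe_one, Matrix.smul_mulVec, Matrix.one_mulVec] at e1 e2
  simp at e1 e2
  have hcμ : μ = c := by
    have : (μ - c) ^ p = 0 := by rw [sub_pow_char, ← e1, ← e2, sub_self]
    exact sub_eq_zero.1 (pow_eq_zero_iff hp.ne_zero |>.1 this)
  have hc0 : c ≠ 0 := by
    rintro rfl
    rw [zero_smul] at hc
    have := mulVec_injective t (hc.symm.trans (Matrix.mulVec_zero _).symm)
    simpa using congrFun this i
  refine ⟨b / c, ?_⟩
  rw [← ht]
  refine eq_smul_transvection hij t c b hc0 (fun k hk => ?_) (by rw [htj, hcμ])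
  rcases hcase k with rfl | rfl
  · exact hc.symm
  · exact absurd rfl hk

theorem exists_ringEquiv_of_hom {f : F → F} (hadd : ∀ a b, f (a + b) = f a + f b)
    (hmul : ∀ a b, f (a * b) = f a * f b) (h1 : f 1 = 1) : ∃ σ : F ≃+* F, ∀ a, σ a = f a := by
  let φ : F →+* F := RingHom.mk' ⟨⟨f, h1⟩, hmul⟩ hadd
  exact ⟨RingEquiv.ofBijective φ ⟨φ.injective, Finite.surjective_of_injective φ.injective⟩,
    fun a => rfl⟩

/-- A normalised compatible automorphism is a field automorphism. -/
theorem normalised_eq_semi (hn : 2 ≤ n) {β : MulAut PSLn} {π : Equiv.Perm (ℙ F Vn)}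
    (h : Compat β π) (hfix : ∀ k, π (ept k) = ept k)
    (hsum : ∀ (k : Fin n) (_ : k ≠ ⟨0, by omega⟩)
      (hv : (Pi.single (⟨0, by omega⟩ : Fin n) (1 : F) + Pi.single k 1 : Vn) ≠ 0),
      π (pt _ hv) = pt (Pi.single (⟨0, by omega⟩ : Fin n) (1 : F) + Pi.single k 1) hv) :
    ∃ σ : F ≃+* F, β = semi 1 σ := by
  classical
  have hnt : Nontrivial (Fin n) := Fin.nontrivial_iff_two_le.2 hn
  obtain ⟨o, ho⟩ : ∃ o : Fin n, o = ⟨0, by omega⟩ := ⟨_, rfl⟩
  rw [← ho] at hsum
  have hpair : ∀ k l : Fin n, ∀ hkl : k ≠ l, ∃ ε : F, (ε = 1 ∨ ε = -1) ∧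
      π (pt _ (pair_ne_zero hkl ε)) = pt _ (pair_ne_zero hkl ε) := by
    intro k l hkl
    by_cases hko : k = o
    · subst hko
      refine ⟨1, Or.inl rfl, ?_⟩
      have h' := hsum l (Ne.symm hkl) (by simpa using pair_ne_zero (F := F) hkl 1)
      simpa only [one_smul] using h'
    by_cases hlo : l = o
    · subst hlo
      refine ⟨1, Or.inl rfl, ?_⟩
      have h' := hsum k hkl (by simpa [add_comm] using pair_ne_zero (F := F) hkl 1)
      simpa only [one_smul, add_comm (Pi.single k (1 : F) : Vn)] using h'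
    refine ⟨-1, Or.inr rfl, ?_⟩
    have hk' : (Pi.single o 1 + Pi.single k 1 : Vn) ≠ 0 := by
      simpa using pair_ne_zero (F := F) (Ne.symm hko) 1
    have hl' : (Pi.single o 1 + Pi.single l 1 : Vn) ≠ 0 := by
      simpa using pair_ne_zero (F := F) (Ne.symm hlo) 1
    have hz := pair_ne_zero (F := F) hkl (-1)
    have hne1 : ept (F := F) k ≠ ept l := by
      intro he
      obtain ⟨c, hc⟩ := (pt_eq_iff _ _).1 he
      simpa [hkl] using congrFun hc k
    have hne2 : pt _ hk' ≠ pt _ hl' := by
      intro he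
      obtain ⟨c, hc⟩ := (pt_eq_iff _ _).1 he
      simpa [hkl, hko] using congrFun hc k
    have l1 := compat_onLine h hne1 ((onLine_mk _ _ hz).2 ⟨1, -1, by rw [one_smul]⟩)
    have l2 := compat_onLine h hne2 ((onLine_mk _ _ hz).2 ⟨1, -1, by module⟩)
    rw [hfix, hfix] at l1
    rw [hsum k hko hk', hsum l hlo hl'] at l2
    generalize π (pt _ hz) = z at l1 l2 ⊢
    induction z using Projectivization.ind with
    | _ w hw =>
      obtain ⟨a, b, hab⟩ := (onLine_mk _ _ hw).1 l1
      obtain ⟨c, d, hcd⟩ := (onLine_mk _ _ hw).1 l2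
      have hE := hab.trans hcd.symm
      have e1 := congrFun hE o
      have e2 := congrFun hE k
      have e3 := congrFun hE l
      simp [hko, hlo, hkl, hkl.symm, Ne.symm hko, Ne.symm hlo] at e1 e2 e3
      refine (pt_eq_iff _ _).2 ⟨a, ?_⟩
      rw [← hab, show b = -a by linear_combination e3 + e2 - e1]
      module
  have hX : ∀ (i j : Fin n) (hij : i ≠ j) (a : F), ∃ b : F, β (X hij a) = X hij b := by
    intro i j hij a
    rcases hn.lt_or_eq with h3 | h2
    · exact exists_image_X_three h3 h hfix hpair hij a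
    · exact exists_image_X_two h2.symm h hfix hij a
  choose f hf using hX
  have hadd : ∀ i j (hij : i ≠ j) a b, f i j hij (a + b) = f i j hij a + f i j hij b := by
    intro i j hij a b
    apply X_injective hij
    rw [← hf, X_add, map_mul, hf, hf, X_add]
  have hpt : ∀ i j (hij : i ≠ j) a,
      π (pt _ (pair_ne_zero hij.symm a)) = pt _ (pair_ne_zero hij.symm (f i j hij a)) := by
    intro i j hij a
    have := compat_smul h (X hij a) (ept j)
    rw [transvection_smul_pt, hfix, hf, transvection_smul_pt] at this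
    exact this
  have hone : ∀ i j (hij : i ≠ j), f i j hij 1 = 1 := by
    intro i j hij
    obtain ⟨ε, hε, hεπ⟩ := hpair j i hij.symm
    obtain ⟨c, hc⟩ := (pt_eq_iff _ _).1 ((hpt i j hij ε).symm.trans hεπ)
    have e1 := congrFun hc j
    have e2 := congrFun hc i
    simp [hij, hij.symm] at e1 e2
    rw [e1, one_mul] at e2
    rcases hε with rfl | rfl
    · exact e2.symm
    · have h0 : f i j hij (1 + -1) = f i j hij 1 + f i j hij (-1) := hadd _ _ _ _ _
      have hz : f i j hij 0 = 0 := by
        have := hadd i j hij 0 0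
        rwa [add_zero, left_eq_add] at this
      rw [add_neg_cancel, hz, ← e2] at h0
      linear_combination -h0
  have hzero : ∀ i j (hij : i ≠ j), f i j hij 0 = 0 := by
    intro i j hij
    have := hadd i j hij 0 0
    rwa [add_zero, left_eq_add] at this
  obtain ⟨g, hgadd, hgmul, hg1, hfg⟩ : ∃ g : F → F, (∀ a b, g (a + b) = g a + g b) ∧
      (∀ a b, g (a * b) = g a * g b) ∧ g 1 = 1 ∧ ∀ i j (hij : i ≠ j) a, f i j hij a = g a := by
    obtain ⟨i₀, j₀, h₀⟩ : ∃ i j : Fin n, i ≠ j := exists_pair_ne _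
    rcases hn.lt_or_eq with h3 | h2
    · have hcomm : ∀ i j k (hij : i ≠ j) (hik : i ≠ k) (hkj : k ≠ j) a b,
          f i j hij (a * b) = f i k hik a * f k j hkj b := by
        intro i j k hij hik hkj a b
        apply X_injective hij
        have hX : ∀ a b, (X hij (a * b) : PSLn) = ⁅X hik a, X hkj b⁆ := by
          intro a b
          show (QuotientGroup.mk' (Subgroup.center SLn)) _ = _
          rw [← ClassicalSL.commutator_transvection hij hik hkj, map_commutatorElement]
          rfl
        rw [← hf, hX, map_commutatorElement, hf, hf, hX]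
      have hleft : ∀ i j k (hij : i ≠ j) (hik : i ≠ k) (hkj : k ≠ j) a,
          f i j hij a = f i k hik a := fun i j k hij hik hkj a => by
        have := hcomm i j k hij hik hkj a 1
        rwa [mul_one, hone, mul_one] at this
      have hright : ∀ i j k (hij : i ≠ j) (hik : i ≠ k) (hkj : k ≠ j) a,
          f i j hij a = f k j hkj a := fun i j k hij hik hkj a => by
        have := hcomm i j k hij hik hkj 1 a
        rwa [one_mul, hone, one_mul] at this
      have hall : ∀ i j k l (hij : i ≠ j) (hkl : k ≠ l) a, f i j hij a = f k l hkl a := by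
        intro i j k l hij hkl a
        have step1 : ∀ i j j' (hij : i ≠ j) (hij' : i ≠ j') a,
            f i j hij a = f i j' hij' a := by
          intro i j j' hij hij' a
          rcases eq_or_ne j' j with rfl | hne
          · rfl
          · exact hleft i j j' hij hij' hne a
        obtain ⟨m, hm⟩ : ∃ m : Fin n, m ∈ ({i, k} : Finset (Fin n))ᶜ := by
          refine Finset.card_pos.1 ?_
          rw [Finset.card_compl, Fintype.card_fin]
          have := Finset.card_le_two (a := i) (b := k)
          omega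
        simp only [Finset.mem_compl, Finset.mem_insert, Finset.mem_singleton, not_or] at hm
        rw [step1 i j m hij (Ne.symm hm.1) a, step1 k l m hkl (Ne.symm hm.2) a]
        rcases eq_or_ne i k with rfl | hik
        · rfl
        · exact hright i m k (Ne.symm hm.1) hik (Ne.symm hm.2) a
      refine ⟨f i₀ j₀ h₀, hadd _ _ _, fun a b => ?_, hone _ _ _, fun i j hij a => hall _ _ _ _ _ _ a⟩
      obtain ⟨k, hk⟩ : ∃ k : Fin n, k ∈ ({i₀, j₀} : Finset (Fin n))ᶜ := by
        refine Finset.card_pos.1 ?_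
        rw [Finset.card_compl, Finset.card_pair h₀, Fintype.card_fin]
        omega
      simp only [Finset.mem_compl, Finset.mem_insert, Finset.mem_singleton, not_or] at hk
      rw [hcomm i₀ j₀ k h₀ (Ne.symm hk.1) hk.2 a b, hall i₀ k i₀ j₀ _ h₀, hall k j₀ i₀ j₀ _ h₀]
    · -- rank two
      have hinv : ∀ i j (hij : i ≠ j) a, a ≠ 0 → f i j hij a * f j i hij.symm a⁻¹ = 1 := by
        intro i j hij a ha
        have e : pt _ (pair_ne_zero (F := F) hij.symm a) = pt _ (pair_ne_zero hij a⁻¹) :=
          (pt_eq_iff _ _).2 ⟨a, by rw [smul_add, smul_smul, mul_inv_cancel₀ ha, one_smul, add_comm]⟩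
        have e' := (hpt i j hij a).symm.trans ((congrArg π e).trans (hpt j i hij.symm a⁻¹))
        obtain ⟨c, hc⟩ := (pt_eq_iff _ _).1 e'
        have e1 := congrFun hc i
        have e2 := congrFun hc j
        simp [hij, hij.symm] at e1 e2
        rw [← e1]
        exact e2
      have hnz : ∀ i j (hij : i ≠ j) a, a ≠ 0 → f i j hij a ≠ 0 := fun i j hij a ha h0 => by
        simpa [h0] using hinv i j hij a ha
      have hsub : ∀ i j (hij : i ≠ j) a b, f i j hij (a - b) = f i j hij a - f i j hij b := by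
        intro i j hij a b
        rw [eq_sub_iff_add_eq, ← hadd, sub_add_cancel]
      have hHua : ∀ i j (hij : i ≠ j) a b,
          f i j hij (a * a * b) = f i j hij a * f i j hij a * f j i hij.symm b := by
        intro i j hij a b
        by_cases ha : a = 0
        · subst ha; simp [hzero]
        by_cases hb : b = 0
        · subst hb; simp [hzero]
        have hA := hnz i j hij a ha
        have hB := hnz j i hij.symm b hb
        by_cases hab : a * b = 1
        · rw [mul_assoc, hab, mul_one, eq_inv_of_mul_eq_one_right hab, mul_assoc,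
            hinv i j hij a ha, mul_one]
        have hd : b⁻¹ - a ≠ 0 := by
          rw [sub_ne_zero]
          intro h'
          exact hab (by rw [← h', inv_mul_cancel₀ hb])
        have hw : (a⁻¹ + (b⁻¹ - a)⁻¹) = (a - a * a * b)⁻¹ := by
          have h1ab : 1 - a * b ≠ 0 := sub_ne_zero.2 (Ne.symm hab)
          rw [show b⁻¹ - a = (1 - a * b) / b by field_simp, show a - a * a * b = a * (1 - a * b) by ring]
          field_simp
          ring
        have hne : a - a * a * b ≠ 0 := by
          rw [show a - a * a * b = a * (1 - a * b) by ring]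
          exact mul_ne_zero ha (sub_ne_zero.2 (Ne.symm hab))
        have k1 := hinv i j hij _ hne
        rw [← hw, hadd, hsub] at k1
        have k2 := hinv i j hij a ha
        have k3 := hinv i j hij (b⁻¹ - a) hd
        rw [hsub] at k3
        have k4 := hinv i j hij b⁻¹ (inv_ne_zero hb)
        rw [inv_inv] at k4
        generalize f j i hij.symm a⁻¹ = A' at *
        generalize f j i hij.symm (b⁻¹ - a)⁻¹ = D at *
        generalize f i j hij b⁻¹ = B' at *
        generalize f i j hij (a * a * b) = R at *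
        generalize f i j hij a = A at *
        generalize f j i hij.symm b = B at *
        have : A' = A⁻¹ := eq_inv_of_mul_eq_one_right k2
        subst this
        have : D = (B' - A)⁻¹ := eq_inv_of_mul_eq_one_right k3
        subst this
        have : B' = B⁻¹ := eq_inv_of_mul_eq_one_left k4
        subst this
        have hd' : B⁻¹ - A ≠ 0 := left_ne_zero_of_mul_eq_one k3
        have h1 : 1 - A * B ≠ 0 := by
          intro h'
          apply hd'
          rw [show B⁻¹ - A = B⁻¹ * (1 - A * B) by field_simp, h', mul_zero]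
        rw [show A⁻¹ + (B⁻¹ - A)⁻¹ = 1 / (A * (1 - A * B)) by
          rw [show B⁻¹ - A = (1 - A * B) / B by field_simp]; field_simp; ring] at k1
        field_simp at k1
        linear_combination -k1
      have hfh : ∀ i j (hij : i ≠ j) b, f i j hij b = f j i hij.symm b := fun i j hij b => by
        simpa [hone] using hHua i j hij 1 b
      refine ⟨f i₀ j₀ h₀, hadd _ _ _, ?_, hone _ _ _, fun i j hij a => ?_⟩
      · have hsq : ∀ a b, f i₀ j₀ h₀ (a * a * b) = f i₀ j₀ h₀ (a * a) * f i₀ j₀ h₀ b := by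
          intro a b
          have e := hHua i₀ j₀ h₀ a 1
          rw [mul_one, hone, mul_one] at e
          rw [hHua, ← hfh i₀ j₀ h₀ b, e]
        intro a b
        by_cases h2 : ringChar F = 2
        · obtain ⟨r, rfl⟩ := FiniteField.isSquare_of_char_two h2 a
          exact hsq r b
        · have h2' : (2 : F) ≠ 0 := Ring.two_ne_zero h2
          obtain ⟨u, v, huv⟩ : ∃ u v : F, a = u * u - v * v :=
            ⟨(a + 1) / 2, (a - 1) / 2, by field_simp; ring⟩
          rw [huv, sub_mul, hsub, hsub, hsq, hsq, sub_mul]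
      · have hc : ∀ k : Fin n, k = i₀ ∨ k = j₀ := by
          intro k
          by_contra hk
          push Not at hk
          have := Finset.card_le_univ ({i₀, j₀, k} : Finset (Fin n))
          rw [Finset.card_eq_three.2 ⟨i₀, j₀, k, h₀, hk.1.symm, hk.2.symm, rfl⟩, Fintype.card_fin,
            ← h2] at this
          omega
        rcases hc i with rfl | rfl <;> rcases hc j with rfl | rfl
        exacts [absurd rfl hij, rfl, hfh _ _ _ _, absurd rfl hij]
  obtain ⟨σ, hσ⟩ := exists_ringEquiv_of_hom hgadd hgmul hg1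
  refine ⟨σ, ?_⟩
  have key : β.toMonoidHom.comp (QuotientGroup.mk' (Subgroup.center SLn)) =
      (semi 1 σ : MulAut PSLn).toMonoidHom.comp (QuotientGroup.mk' (Subgroup.center SLn)) := by
    refine MonoidHom.eq_of_eqOn_dense ClassicalSL.closure_elemTransvections ?_
    rintro _ ⟨i, j, hij, c, rfl⟩
    show β (X hij c) = semi 1 σ (QuotientGroup.mk _)
    rw [hf, hfg, ← hσ, semi_mk, X]
    congr 1
    apply Subtype.ext
    simp [slSemi_coe, Matrix.SpecialLinearGroup.transvection_coe, Matrix.map_add, Matrix.map_single]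
  refine MulEquiv.ext fun x => ?_
  induction x using QuotientGroup.induction_on with
  | _ s => exact DFunLike.congr_fun key s

/-- The automorphisms of `PSL_n` over a finite field. -/
theorem aut_eq (hn : 2 ≤ n) (β : MulAut PSLn) :
    ∃ (g : GL (Fin n) F) (σ : F ≃+* F),
      β = semi g σ ∨ (3 ≤ n ∧ β = invT * semi g σ) := by
  have key : ∀ γ : MulAut PSLn, PointsToPoints γ → ∃ (g : GL (Fin n) F) (σ : F ≃+* F),
      γ = semi g σ := by
    rintro γ ⟨π, hπ⟩
    obtain ⟨g, π', hπ', hfix, hsum⟩ := exists_normalised hn hπ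
    obtain ⟨σ, hσ⟩ := normalised_eq_semi hn hπ' hfix hsum
    refine ⟨g⁻¹, σ, ?_⟩
    have h1 : (semi g⁻¹ 1 * semi g 1 : MulAut PSLn) = 1 := by
      rw [semi_mul, mul_one, ← semi_one]
      congr 1
      refine Units.ext ?_
      rw [Units.val_mul, Units.val_one]
      exact Units.inv_mul g
    calc γ = semi g⁻¹ 1 * semi g 1 * γ := by rw [h1, one_mul]
      _ = semi g⁻¹ 1 * semi 1 σ := by rw [mul_assoc, hσ]
      _ = semi g⁻¹ σ := by rw [semi_mul, map_one, mul_one, one_mul]
  rcases pointsToPoints_or hn β with h | ⟨h3, h⟩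
  · obtain ⟨g, σ, hg⟩ := key β h
    exact ⟨g, σ, Or.inl hg⟩
  · obtain ⟨g, σ, hg⟩ := key _ h
    refine ⟨g, σ, Or.inr ⟨h3, ?_⟩⟩
    rw [← hg, ← mul_assoc, invT_mul_invT, one_mul]

end Cfsg.Agent.AutPSL
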