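import Cfsg.Agent.Lib.Classical.SL
import Mathlib.LinearAlgebra.Projectivization.Action
import Mathlib.LinearAlgebra.Projectivization.Cardinality
import Mathlib.LinearAlgebra.Matrix.SchurComplement
import Mathlib.LinearAlgebra.Basis.VectorSpace
import Mathlib.GroupTheory.GroupAction.Primitive
import Mathlib.GroupTheory.Sylow
import Mathlib.Algebra.CharP.Lemmas

/-!
Automorphisms of `PSL_n` over a finite field send point stabilisers to point stabilisers, up to the
inverse-transpose automorphism.
-/

set_option autoImplicit false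

namespace Cfsg.Agent.AutPSL

open Matrix Projectivization MulAction
open scoped LinearAlgebra.Projectivization

variable {F : Type*} [Field F] {n : ℕ}

local notation "Vn" => Fin n → F
local notation "SLn" => Matrix.SpecialLinearGroup (Fin n) F
local notation "PSLn" => Matrix.ProjectiveSpecialLinearGroup (Fin n) F

/-- Prescribed values of a functional on a linearly independent family. -/
theorem exists_dotProduct {m : ℕ} {v : Fin m → Vn} (hv : LinearIndependent F v) (a : Fin m → F) :
    ∃ u : Vn, ∀ i, u ⬝ᵥ v i = a i := by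
  let f := (Module.Basis.span hv).constr F a
  obtain ⟨g, hg⟩ := f.exists_extend
  refine ⟨fun k => g (Pi.single k 1), fun i => ?_⟩
  have h1 : g (v i) = a i := by
    have := LinearMap.congr_fun hg (Module.Basis.span hv i)
    rw [show f (Module.Basis.span hv i) = a i from Module.Basis.constr_basis _ _ _ _] at this
    simpa [Module.Basis.span_apply] using this
  rw [← h1]
  conv_rhs => rw [pi_eq_sum_univ' (v i), map_sum]
  simp [dotProduct, map_smul, mul_comm]

/-- The transvections with centre `c` and axis containing it. -/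
theorem det_one_add_vecMulVec_eq (c u : Vn) :
    (1 + Matrix.vecMulVec c u).det = 1 + u ⬝ᵥ c := by
  rw [Matrix.vecMulVec_eq (Fin 1), Matrix.det_one_add_replicateCol_mul_replicateRow]

theorem exists_transvection (c u : Vn) (h : u ⬝ᵥ c = 0) :
    ∃ s : SLn, ∀ v, (s : Matrix (Fin n) (Fin n) F) *ᵥ v = v + (u ⬝ᵥ v) • c :=
  ⟨⟨1 + Matrix.vecMulVec c u, by rw [det_one_add_vecMulVec_eq, h, add_zero]⟩, fun v => by
    simp [Matrix.add_mulVec, Matrix.vecMulVec_mulVec]⟩

theorem mulVec_injective (s : SLn) :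
    Function.Injective fun v : Vn => (s : Matrix (Fin n) (Fin n) F) *ᵥ v :=
  Matrix.mulVec_injective_iff_isUnit.2 ((Matrix.isUnit_iff_isUnit_det _).2 (by rw [s.2]; exact isUnit_one))

theorem inv_mulVec (s : SLn) (v : Vn) :
    (s : Matrix (Fin n) (Fin n) F) *ᵥ ((s⁻¹ : SLn) : Matrix (Fin n) (Fin n) F) *ᵥ v = v := by
  rw [Matrix.mulVec_mulVec, ← Matrix.SpecialLinearGroup.coe_mul, mul_inv_cancel,
    Matrix.SpecialLinearGroup.coe_one, Matrix.one_mulVec]

theorem inv_mulVec' (s : SLn) (v : Vn) :
    ((s⁻¹ : SLn) : Matrix (Fin n) (Fin n) F) *ᵥ (s : Matrix (Fin n) (Fin n) F) *ᵥ v = v := by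
  rw [Matrix.mulVec_mulVec, ← Matrix.SpecialLinearGroup.coe_mul, inv_mul_cancel,
    Matrix.SpecialLinearGroup.coe_one, Matrix.one_mulVec]

theorem coe_mul_mulVec (s t : SLn) (v : Vn) :
    ((s * t : SLn) : Matrix (Fin n) (Fin n) F) *ᵥ v =
      (s : Matrix (Fin n) (Fin n) F) *ᵥ (t : Matrix (Fin n) (Fin n) F) *ᵥ v := by
  rw [Matrix.SpecialLinearGroup.coe_mul, Matrix.mulVec_mulVec]

/-- Transvections with centre `c` (axis containing `c`). -/
def centreGroup (c : Vn) : Subgroup SLn where
  carrier := {s | (s : Matrix (Fin n) (Fin n) F) *ᵥ c = c ∧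
    ∀ v, ∃ a : F, (s : Matrix (Fin n) (Fin n) F) *ᵥ v = v + a • c}
  one_mem' := ⟨by simp, fun v => ⟨0, by simp⟩⟩
  mul_mem' {s t} hs ht := ⟨by rw [coe_mul_mulVec, ht.1, hs.1], fun v => by
    obtain ⟨a, ha⟩ := ht.2 v
    obtain ⟨b, hb⟩ := hs.2 v
    exact ⟨a + b, by
      rw [coe_mul_mulVec, ha, Matrix.mulVec_add, Matrix.mulVec_smul, hs.1, hb, add_smul]; abel⟩⟩
  inv_mem' {s} hs := by
    have h1 : ((s⁻¹ : SLn) : Matrix (Fin n) (Fin n) F) *ᵥ c = c := by
      apply mulVec_injective s
      simp only [inv_mulVec, hs.1]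
    refine ⟨h1, fun v => ?_⟩
    obtain ⟨a, ha⟩ := hs.2 v
    refine ⟨-a, ?_⟩
    have h := congrArg (fun w => ((s⁻¹ : SLn) : Matrix (Fin n) (Fin n) F) *ᵥ w) ha
    simp only [inv_mulVec', Matrix.mulVec_add, Matrix.mulVec_smul, h1] at h
    conv_rhs => rw [h]
    rw [neg_smul]; abel

theorem mem_centreGroup {c : Vn} {s : SLn} :
    s ∈ centreGroup c ↔ (s : Matrix (Fin n) (Fin n) F) *ᵥ c = c ∧
      ∀ v, ∃ a : F, (s : Matrix (Fin n) (Fin n) F) *ᵥ v = v + a • c := Iff.rfl

theorem isPGroup_centreGroup [Fintype F] (p : ℕ) [CharP F p] (c : Vn) :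
    IsPGroup p (centreGroup c) := by
  intro ⟨s, hs⟩
  refine ⟨1, Subtype.ext (Subtype.ext (Matrix.toLin'.injective (LinearMap.ext fun v => ?_)))⟩
  simp only [pow_one, SubmonoidClass.coe_pow, Matrix.toLin'_apply, Subgroup.coe_one,
    Matrix.SpecialLinearGroup.coe_one, Matrix.one_mulVec]
  obtain ⟨a, ha⟩ := hs.2 v
  have key : ∀ m : ℕ, ((s ^ m : SLn) : Matrix (Fin n) (Fin n) F) *ᵥ v = v + ((m : F) * a) • c := by
    intro m
    induction m with
    | zero => simp
    | succ m ih =>
      rw [pow_succ', coe_mul_mulVec, ih, Matrix.mulVec_add, Matrix.mulVec_smul, hs.1, ha,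
        Nat.cast_succ]
      module
  have := key p
  rw [Matrix.SpecialLinearGroup.coe_pow] at this
  simpa using this

/-- The stabiliser of a subspace. -/
def Sst (W : Submodule F Vn) : Subgroup SLn where
  carrier := {s | ∀ v, (s : Matrix (Fin n) (Fin n) F) *ᵥ v ∈ W ↔ v ∈ W}
  one_mem' := fun v => by simp
  mul_mem' {s t} hs ht := fun v => by rw [coe_mul_mulVec, hs, ht]
  inv_mem' {s} hs := fun v => by
    conv_rhs => rw [← inv_mulVec s v]
    exact (hs _).symm

theorem mem_Sst_of_forall {W : Submodule F Vn} {s : SLn}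
    (h : ∀ v ∈ W, (s : Matrix (Fin n) (Fin n) F) *ᵥ v ∈ W) : s ∈ Sst W := by
  intro v
  refine ⟨fun hv => ?_, h v⟩
  have hmap : W.map (Matrix.mulVecLin (s : Matrix (Fin n) (Fin n) F)) = W := by
    refine Submodule.eq_of_le_of_finrank_le ?_ (le_of_eq ?_)
    · rintro _ ⟨w, hw, rfl⟩; exact h w hw
    · exact (LinearEquiv.finrank_eq (Submodule.equivMapOfInjective _ (mulVec_injective s) W))
  rw [← hmap] at hv
  obtain ⟨w, hw, hwv⟩ := hv
  rwa [← mulVec_injective s hwv]

theorem transvection_mem_Sst {W : Submodule F Vn} {c u : Vn} (hc : c ∈ W) {s : SLn}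
    (hs : ∀ v, (s : Matrix (Fin n) (Fin n) F) *ᵥ v = v + (u ⬝ᵥ v) • c) : s ∈ Sst W :=
  mem_Sst_of_forall fun v hv => by rw [hs]; exact W.add_mem hv (W.smul_mem _ hc)

/-- A subspace is determined by its stabiliser. -/
theorem Sst_injective {W W' : Submodule F Vn} (hW : W ≠ ⊥) (hW' : W' ≠ ⊥)
    (h : Sst W = Sst W') : W = W' := by
  have key : ∀ {A B : Submodule F Vn}, B ≠ ⊥ → Sst A = Sst B → A ≤ B := by
    intro A B hB hAB v hv
    by_contra hvB
    obtain ⟨c, hc, hc0⟩ := Submodule.exists_mem_ne_zero_of_ne_bot hB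
    have hli : LinearIndependent F ![v, c] := by
      rw [LinearIndependent.pair_iff' (fun h0 => hvB (by rw [h0]; exact B.zero_mem))]
      intro a ha
      rcases eq_or_ne a 0 with rfl | ha0
      · exact hc0 (by simpa using ha.symm)
      · exact hvB (by
          have := B.smul_mem a⁻¹ hc
          rwa [← ha, smul_smul, inv_mul_cancel₀ ha0, one_smul] at this)
    obtain ⟨u, hu⟩ := exists_dotProduct hli ![0, 1]
    obtain ⟨s, hs⟩ := exists_transvection v u (by simpa using hu 0)
    have h1 : s ∈ Sst A := transvection_mem_Sst hv hs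
    rw [hAB] at h1
    have h2 := (h1 c).2 hc
    rw [hs, show u ⬝ᵥ c = 1 by simpa using hu 1, one_smul] at h2
    exact hvB (by simpa using B.sub_mem h2 hc)
  exact le_antisymm (key hW' h) (key hW h.symm)

theorem Sst_ne_top {W : Submodule F Vn} (hW : W ≠ ⊥) (hW' : W ≠ ⊤) : Sst W ≠ ⊤ := by
  intro h
  obtain ⟨c, hc, hc0⟩ := Submodule.exists_mem_ne_zero_of_ne_bot hW
  obtain ⟨v, -, hv⟩ := SetLike.exists_of_lt (lt_top_iff_ne_top.2 hW')
  have hli : LinearIndependent F ![v, c] := by
    rw [LinearIndependent.pair_iff' (fun h0 => hv (by rw [h0]; exact W.zero_mem))]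
    intro a ha
    rcases eq_or_ne a 0 with rfl | ha0
    · exact hc0 (by simpa using ha.symm)
    · exact hv (by
        have := W.smul_mem a⁻¹ hc
        rwa [← ha, smul_smul, inv_mul_cancel₀ ha0, one_smul] at this)
  obtain ⟨u, hu⟩ := exists_dotProduct hli ![0, 1]
  obtain ⟨s, hs⟩ := exists_transvection v u (by simpa using hu 0)
  have h2 := ((h ▸ Subgroup.mem_top s : s ∈ Sst W) c).2 hc
  rw [hs, show u ⬝ᵥ c = 1 by simpa using hu 1, one_smul] at h2
  exact hv (by simpa using W.sub_mem h2 hc)

/-- A subgroup containing all transvections with some centre is reducible or everything. -/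
theorem exists_invariant_of_centreGroup_le [Nontrivial (Fin n)] {K : Subgroup SLn} {c : Vn}
    (hc : c ≠ 0) (hK : centreGroup c ≤ K) (hne : K ≠ ⊤) :
    ∃ W : Submodule F Vn, W ≠ ⊥ ∧ W ≠ ⊤ ∧ K ≤ Sst W := by
  by_contra hno
  have hmove : ∀ w s, centreGroup (n := n) (F := F) w ≤ K → s ∈ K →
      centreGroup ((s : Matrix (Fin n) (Fin n) F) *ᵥ w) ≤ K := by
    intro w s hw hs t ht
    have : s⁻¹ * t * s ∈ centreGroup w := by
      refine ⟨mulVec_injective s ?_, fun v => ?_⟩
      · simp only [coe_mul_mulVec, inv_mulVec]; exact ht.1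
      · obtain ⟨a, ha⟩ := ht.2 ((s : Matrix (Fin n) (Fin n) F) *ᵥ v)
        refine ⟨a, mulVec_injective s ?_⟩
        simp only [coe_mul_mulVec, inv_mulVec, ha, Matrix.mulVec_add, Matrix.mulVec_smul]
    have h := K.mul_mem (K.mul_mem hs (hw this)) (K.inv_mem hs)
    rwa [show s * (s⁻¹ * t * s) * s⁻¹ = t by group] at h
  have hsmul : ∀ (a : F) (w : Vn), centreGroup w ≤ K → centreGroup (a • w) ≤ K := by
    intro a w hw t ht
    rcases eq_or_ne a 0 with rfl | ha
    · have : t = 1 := Subtype.ext (Matrix.toLin'.injective (LinearMap.ext fun v => by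
        obtain ⟨b, hb⟩ := ht.2 v
        simpa using hb))
      exact this ▸ K.one_mem
    · refine hw ⟨?_, fun v => ?_⟩
      · have h := ht.1
        rw [Matrix.mulVec_smul] at h
        exact smul_right_injective Vn ha h
      · obtain ⟨b, hb⟩ := ht.2 v
        exact ⟨b * a, by rw [hb, smul_smul]⟩
  let O : Submodule F Vn :=
    { carrier := {w | centreGroup w ≤ K}
      zero_mem' := by
        have := hsmul 0 c hK
        rwa [zero_smul] at this
      smul_mem' := fun a w hw => hsmul a w hw
      add_mem' := fun {w w'} hw hw' => by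
        show centreGroup (w + w') ≤ K
        by_cases hli : LinearIndependent F ![w, w']
        · obtain ⟨u, hu⟩ := exists_dotProduct hli ![0, 1]
          obtain ⟨s, hs⟩ := exists_transvection w u (by simpa using hu 0)
          have hsK : s ∈ K := hw ⟨by rw [hs, show u ⬝ᵥ w = 0 by simpa using hu 0, zero_smul,
            add_zero], fun v => ⟨_, hs v⟩⟩
          have := hmove w' s hw' hsK
          rwa [hs, show u ⬝ᵥ w' = 1 by simpa using hu 1, one_smul, add_comm] at this
        · rcases eq_or_ne w 0 with rfl | hw0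
          · rwa [zero_add]
          rw [LinearIndependent.pair_iff' hw0] at hli
          push Not at hli
          obtain ⟨a, rfl⟩ := hli
          have := hsmul (1 + a) w hw
          rwa [add_smul, one_smul] at this }
  have htop : O = ⊤ := by
    by_contra hO
    refine hno ⟨O, fun h => hc ?_, hO, fun s hs => mem_Sst_of_forall fun v hv => hmove v s hv hs⟩
    have : c ∈ O := hK
    rwa [h, Submodule.mem_bot] at this
  refine hne (eq_top_iff.2 ?_)
  rw [← ClassicalSL.closure_elemTransvections, Subgroup.closure_le]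
  rintro _ ⟨i, j, hij, b, rfl⟩
  have hi : centreGroup (Pi.single i (1 : F) : Vn) ≤ K := by
    have : (Pi.single i (1 : F) : Vn) ∈ O := htop ▸ Submodule.mem_top
    exact this
  refine hi ⟨?_, fun v => ⟨b * v j, ?_⟩⟩
  · rw [Matrix.SpecialLinearGroup.transvection_coe, Matrix.add_mulVec, Matrix.one_mulVec,
      add_eq_left, Matrix.single_mulVec]
    simp [hij.symm]
  · rw [Matrix.SpecialLinearGroup.transvection_coe, Matrix.add_mulVec, Matrix.one_mulVec]
    congr 1
    ext k
    simp [Matrix.single_mulVec, Function.update_apply, Pi.single_apply]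

theorem smul_mk_eq (s : SLn) {v : Vn} (hv : v ≠ 0) :
    s • Projectivization.mk F v hv =
      Projectivization.mk F ((s : Matrix (Fin n) (Fin n) F) *ᵥ v)
        (fun h => hv (mulVec_injective s (h.trans (Matrix.mulVec_zero _).symm))) := rfl

theorem stabilizer_eq_Sst (x : ℙ F Vn) : MulAction.stabilizer SLn x = Sst x.submodule := by
  induction x using Projectivization.ind with
  | _ v hv =>
    ext s
    rw [MulAction.mem_stabilizer_iff, smul_mk_eq s hv, Projectivization.mk_eq_mk_iff',
      Projectivization.submodule_mk]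
    constructor
    · rintro ⟨a, ha⟩
      refine mem_Sst_of_forall fun w hw => ?_
      obtain ⟨b, rfl⟩ := Submodule.mem_span_singleton.1 hw
      exact Submodule.mem_span_singleton.2 ⟨b * a, by rw [Matrix.mulVec_smul, ← ha, smul_smul]⟩
    · exact fun h => Submodule.mem_span_singleton.1 ((h v).2 (Submodule.mem_span_singleton_self v))

theorem center_le_stabilizer (x : ℙ F Vn) :
    Subgroup.center SLn ≤ MulAction.stabilizer SLn x := by
  rw [← Projectivization.SL_mulAction_ker]
  intro s hs
  exact Equiv.ext_iff.1 (MonoidHom.mem_ker.1 hs) x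

/-- The preimage in `SL` of the image of a point stabiliser under an automorphism of `PSL`. -/
def stabImage (β : MulAut PSLn) (x : ℙ F Vn) : Subgroup SLn :=
  (((MulAction.stabilizer SLn x).map (QuotientGroup.mk' (Subgroup.center SLn))).map
    β.toMonoidHom).comap (QuotientGroup.mk' (Subgroup.center SLn))

theorem stabImage_smul (β : MulAut PSLn) (x : ℙ F Vn) {s t : SLn}
    (h : β (QuotientGroup.mk s) = QuotientGroup.mk t) (u : SLn) :
    u ∈ stabImage β (s • x) ↔ t⁻¹ * u * t ∈ stabImage β x := by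
  have key : ∀ w : PSLn, w ∈ ((MulAction.stabilizer SLn (s • x)).map
      (QuotientGroup.mk' (Subgroup.center SLn))).map β.toMonoidHom ↔
      (QuotientGroup.mk t)⁻¹ * w * QuotientGroup.mk t ∈ ((MulAction.stabilizer SLn x).map
        (QuotientGroup.mk' (Subgroup.center SLn))).map β.toMonoidHom := by
    intro w
    constructor
    · rintro ⟨_, ⟨a, ha, rfl⟩, rfl⟩
      refine ⟨_, ⟨s⁻¹ * a * s, ?_, rfl⟩, ?_⟩
      · rw [SetLike.mem_coe, MulAction.mem_stabilizer_iff] at ha ⊢
        rw [mul_smul, mul_smul, ha, inv_smul_smul]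
      · rw [← h]
        simp
    · rintro ⟨_, ⟨a, ha, rfl⟩, hw⟩
      refine ⟨_, ⟨s * a * s⁻¹, ?_, rfl⟩, ?_⟩
      · rw [SetLike.mem_coe, MulAction.mem_stabilizer_iff] at ha ⊢
        rw [mul_smul, mul_smul, inv_smul_smul, ha]
      · rw [MulEquiv.coe_toMonoidHom] at hw ⊢
        simp only [map_mul, map_inv, QuotientGroup.mk'_apply] at hw ⊢
        rw [h, hw]
        group
  simp only [stabImage, Subgroup.mem_comap, QuotientGroup.mk'_apply]
  rw [key, QuotientGroup.mk_mul, QuotientGroup.mk_mul, QuotientGroup.mk_inv]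

variable [Fintype F]

theorem stabImage_eq_Sst (hn : 2 ≤ n) (β : MulAut PSLn) (x : ℙ F Vn) :
    ∃ W : Submodule F Vn, W ≠ ⊥ ∧ W ≠ ⊤ ∧ stabImage β x = Sst W := by
  have : Nontrivial (Fin n) := Fin.nontrivial_iff_two_le.2 hn
  obtain ⟨p, hchar⟩ := CharP.exists F
  obtain ⟨a, hp, hcard⟩ := FiniteField.card F p
  have : Fact p.Prime := ⟨hp⟩
  have hidx : (stabImage β x).index = Nat.card (ℙ F Vn) := by
    rw [stabImage, Subgroup.index_comap_of_surjective _ (QuotientGroup.mk'_surjective _),
      Subgroup.index_map_of_bijective β.bijective,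
      Subgroup.index_map_eq _ (QuotientGroup.mk'_surjective _)]
    rotate_left
    · rw [QuotientGroup.ker_mk']; exact center_le_stabilizer x
    have : MulAction.IsPretransitive SLn (ℙ F Vn) :=
      MulAction.isPretransitive_of_is_two_pretransitive
    exact MulAction.index_stabilizer_of_transitive SLn x
  have hcop : ¬ p ∣ (stabImage β x).index := by
    rw [hidx]
    intro hd
    have h := Projectivization.card F Vn
    rw [Nat.card_fun, Nat.card_fin, Nat.card_eq_fintype_card (α := F)] at h
    have h1 : p ∣ Fintype.card F ^ n - 1 := h ▸ hd.mul_right _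
    have h2 : p ∣ Fintype.card F ^ n :=
      hcard ▸ dvd_pow (dvd_pow_self p a.pos.ne') (by omega)
    have h4 : 1 ≤ Fintype.card F ^ n := Nat.one_le_pow _ _ Fintype.card_pos
    have h3 := Nat.dvd_sub h2 h1
    rw [show Fintype.card F ^ n - (Fintype.card F ^ n - 1) = 1 by omega] at h3
    exact hp.not_dvd_one h3
  obtain ⟨P⟩ : Nonempty (Sylow p (stabImage β x)) := Sylow.nonempty
  have hPG : ¬ p ∣ (P.toSubgroup.map (stabImage β x).subtype).index := by
    rw [Subgroup.index_map_subtype]
    exact hp.not_dvd_mul P.not_dvd_index hcop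
  let P' : Sylow p SLn := (P.isPGroup'.map (stabImage β x).subtype).toSylow hPG
  have hP'le : (P' : Subgroup SLn) ≤ stabImage β x := Subgroup.map_subtype_le _
  have h0 : 0 < n := by omega
  obtain ⟨c₀, hc₀⟩ : ∃ c₀ : Vn, c₀ ≠ 0 := ⟨Pi.single ⟨0, h0⟩ 1, by simp⟩
  obtain ⟨Q, hQ⟩ := (isPGroup_centreGroup p c₀).exists_le_sylow
  obtain ⟨g, hg⟩ := MulAction.exists_smul_eq SLn Q P'
  have hle : centreGroup ((g : Matrix (Fin n) (Fin n) F) *ᵥ c₀) ≤ stabImage β x := by
    intro t ht
    apply hP'le
    rw [← hg, Sylow.coe_subgroup_smul, Subgroup.mem_smul_pointwise_iff_exists]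
    refine ⟨g⁻¹ * t * g, hQ ⟨mulVec_injective g ?_, fun v => ?_⟩, by
      simp [MulAut.smul_def, mul_assoc]⟩
    · simp only [coe_mul_mulVec, inv_mulVec]; exact ht.1
    · obtain ⟨b, hb⟩ := ht.2 ((g : Matrix (Fin n) (Fin n) F) *ᵥ v)
      refine ⟨b, mulVec_injective g ?_⟩
      simp only [coe_mul_mulVec, inv_mulVec, hb, Matrix.mulVec_add, Matrix.mulVec_smul]
  have hne : stabImage β x ≠ ⊤ := by
    intro h
    rw [h, Subgroup.index_top] at hidx
    have h2 := Projectivization.card_of_finrank F Vn (n := n) (by simp)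
    rw [← hidx] at h2
    obtain ⟨m, rfl⟩ : ∃ m, n = m + 2 := ⟨n - 2, by omega⟩
    rw [Finset.sum_range_succ', Finset.sum_range_succ'] at h2
    have : 0 < Nat.card F := Nat.card_pos
    simp at h2
  obtain ⟨W, hW, hW', hKW⟩ := exists_invariant_of_centreGroup_le
    (fun h => hc₀ (mulVec_injective g (h.trans (Matrix.mulVec_zero _).symm))) hle hne
  refine ⟨W, hW, hW', ?_⟩
  -- maximality of point stabilisers
  have hmax : IsCoatom (stabImage β x) := by
    have : Nontrivial (ℙ F Vn) := by
      refine ⟨Projectivization.mk F (Pi.single ⟨0, h0⟩ 1) (by simp),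
        Projectivization.mk F (Pi.single ⟨1, by omega⟩ 1) (by simp), fun h => ?_⟩
      obtain ⟨b, hb⟩ := (Projectivization.mk_eq_mk_iff' F _ _ _ _).1 h
      simpa using congrFun hb ⟨0, h0⟩
    have h1 := MulAction.IsPreprimitive.isCoatom_stabilizer_of_isPreprimitive (G := SLn) x
    refine ⟨hne, fun K hK => ?_⟩
    have hker : (QuotientGroup.mk' (Subgroup.center SLn)).ker ≤ K :=
      le_trans (Subgroup.ker_le_comap _ _) hK.le
    obtain ⟨L, hL⟩ : ∃ L : Subgroup SLn, L = ((K.map (QuotientGroup.mk' (Subgroup.center SLn))).map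
      β.symm.toMonoidHom).comap (QuotientGroup.mk' (Subgroup.center SLn)) := ⟨_, rfl⟩
    have hback : ∀ u, u ∈ K ↔ QuotientGroup.mk' (Subgroup.center SLn) u ∈
        K.map (QuotientGroup.mk' (Subgroup.center SLn)) := fun u => by
      rw [← Subgroup.mem_comap, Subgroup.comap_map_eq_self hker]
    obtain ⟨u, huK, hu⟩ := SetLike.exists_of_lt hK
    obtain ⟨w, hw⟩ := QuotientGroup.mk'_surjective _
      (β.symm (QuotientGroup.mk' (Subgroup.center SLn) u))
    have hxL : MulAction.stabilizer SLn x < L := by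
      refine lt_of_le_of_ne (fun s hs => ?_) fun h => hu ?_
      · rw [hL, Subgroup.mem_comap]
        obtain ⟨t, ht⟩ := QuotientGroup.mk'_surjective _ (β (QuotientGroup.mk' (Subgroup.center SLn) s))
        refine ⟨_, (hback t).1 (hK.le ?_), by rw [ht]; simp⟩
        rw [stabImage, Subgroup.mem_comap, ht]
        exact ⟨_, ⟨s, hs, rfl⟩, rfl⟩
      · have : w ∈ L := by
          rw [hL, Subgroup.mem_comap, hw]
          exact ⟨_, (hback u).1 huK, rfl⟩
        rw [← h] at this
        rw [stabImage, Subgroup.mem_comap]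
        exact ⟨_, ⟨w, this, rfl⟩, by rw [hw]; simp⟩
    have htop := h1.2 L hxL
    refine eq_top_iff.2 fun t _ => (hback t).2 ?_
    obtain ⟨s, hs⟩ := QuotientGroup.mk'_surjective _ (β.symm (QuotientGroup.mk' (Subgroup.center SLn) t))
    have : s ∈ L := htop ▸ Subgroup.mem_top s
    rw [hL, Subgroup.mem_comap, hs] at this
    obtain ⟨y, hy, hyt⟩ := this
    simpa [← β.symm.injective hyt] using hy
  rcases hKW.lt_or_eq with h | h
  · exact absurd (hmax.2 _ h) (Sst_ne_top hW hW')
  · exact h

/-- `β` maps point stabilisers to point stabilisers. -/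
def PointsToPoints (β : MulAut PSLn) : Prop :=
  ∃ π : Equiv.Perm (ℙ F Vn), ∀ (s t : SLn) (x : ℙ F Vn),
    β (QuotientGroup.mk s) = QuotientGroup.mk t → π (s • x) = t • π x

theorem pointsToPoints_of_line (hn : 2 ≤ n) (β : MulAut PSLn)
    (h : ∀ x, ∃ y : ℙ F Vn, stabImage β x = MulAction.stabilizer SLn y) : PointsToPoints β := by
  choose π hπ using h
  have hStab : ∀ y y' : ℙ F Vn,
      MulAction.stabilizer SLn y = MulAction.stabilizer SLn y' → y = y' := by
    intro y y' h'
    rw [stabilizer_eq_Sst, stabilizer_eq_Sst] at h'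
    refine Projectivization.submodule_injective (Sst_injective ?_ ?_ h') <;>
      · rw [Projectivization.submodule_eq, Ne, Submodule.span_singleton_eq_bot]
        exact Projectivization.rep_nonzero _
  have hinj : Function.Injective π := by
    intro x x' h'
    apply hStab
    have h2 : stabImage β x = stabImage β x' := by rw [hπ, hπ, h']
    have h3 := congrArg (fun K : Subgroup SLn =>
      (((K.map (QuotientGroup.mk' (Subgroup.center SLn))).map β.symm.toMonoidHom).comap
        (QuotientGroup.mk' (Subgroup.center SLn)))) h2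
    simp only [stabImage, Subgroup.map_comap_eq_self_of_surjective
      (QuotientGroup.mk'_surjective _), Subgroup.map_map] at h3
    rw [← MonoidHom.comp_assoc, show β.symm.toMonoidHom.comp β.toMonoidHom = MonoidHom.id _ from
      MonoidHom.ext fun y => β.symm_apply_apply y, MonoidHom.id_comp] at h3
    rwa [Subgroup.comap_map_eq_self (by rw [QuotientGroup.ker_mk']; exact center_le_stabilizer x),
      Subgroup.comap_map_eq_self (by rw [QuotientGroup.ker_mk']; exact center_le_stabilizer x')]
      at h3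
  refine ⟨Equiv.ofBijective π (Finite.injective_iff_bijective.1 hinj), fun s t x hst => ?_⟩
  refine hStab (π (s • x)) (t • π x) ?_
  ext u
  rw [← hπ, stabImage_smul β x hst, hπ, MulAction.mem_stabilizer_iff, MulAction.mem_stabilizer_iff,
    mul_smul, mul_smul, inv_smul_eq_iff]

end Cfsg.Agent.AutPSL
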